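import Mathlib
import Cfsg.Agent.PLocal.S4FreeCW
import Cfsg.Agent.Classification.TypeZ.Critical
import Cfsg.Agent.Lib.FrattiniPGroup

/-!
# Automorphisms of 2-groups permuting the involutions cyclically

* `card_le_cube` : a finite group `W` with a central elementary abelian subgroup `Ω` containing all squares and all
  involutions has order at most `|Ω|³` (Chevalley–Warning);
* `aut_pow_eq_one` : `T` a finite 2-group with central `Ω = Ω₁(T)` of order `2 ^ a = p + 1`, `p` prime, `α` an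
  automorphism of order a power of `p` such that `α ^ p` is trivial on `Ω`: `α ^ p = 1`.
-/

set_option autoImplicit false

namespace Cfsg.Agent.H512.TwoAut

open Subgroup

/-- the commutator map of a group of class two modulo a central subgroup -/
theorem card_le_cube {W : Type*} [Group W] [Finite W] (Ω : Subgroup W) (hc : ∀ z ∈ Ω, ∀ x : W, x * z = z * x)
    (he : ∀ z ∈ Ω, z * z = 1) (hsq : ∀ x : W, x * x ∈ Ω) (hin : ∀ x : W, x * x = 1 → x ∈ Ω) :
    Nat.card W ≤ Nat.card Ω ^ 3 := by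
  classical
  have hn : Ω.Normal := ⟨fun z hz g => by rw [hc z hz g, mul_inv_cancel_right]; exact hz⟩
  have hB : ∀ b : W ⧸ Ω, b * b = 1 := by
    intro b
    induction b using QuotientGroup.induction_on with
    | H w => rw [← QuotientGroup.mk_mul, QuotientGroup.eq_one_iff]; exact hsq w
  have hQ : ∀ q : Ω, q * q = 1 := fun q => Subtype.ext (he q q.2)
  have hBc : ∀ a b : W ⧸ Ω, a * b = b * a := by
    intro a b
    have h1 : ∀ c : W ⧸ Ω, c⁻¹ = c := fun c => inv_eq_of_mul_eq_one_left (hB c)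
    rw [← h1 (a * b), mul_inv_rev, h1, h1]
  let _ : CommGroup (W ⧸ Ω) := { (inferInstance : Group (W ⧸ Ω)) with mul_comm := hBc }
  let _ : CommGroup Ω := { (inferInstance : Group Ω) with mul_comm := fun a b => Subtype.ext (hc b b.2 a) }
  by_contra hlt
  push Not at hlt
  have hcomm : ∀ x y : W, x⁻¹ * y * x * y⁻¹ ∈ Ω := by
    intro x y
    rw [← QuotientGroup.eq_one_iff]
    have : ((x⁻¹ * y * x * y⁻¹ : W) : W ⧸ Ω) = ((x : W ⧸ Ω))⁻¹ * (y : W ⧸ Ω) * (x : W ⧸ Ω) * ((y : W ⧸ Ω))⁻¹ := rfl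
    rw [this, hBc (x : W ⧸ Ω)⁻¹ _, inv_mul_cancel_right, mul_inv_cancel]
  -- the squaring map
  let f : W ⧸ Ω → Ω := fun b => ⟨b.out * b.out, hsq _⟩
  let β : W ⧸ Ω → W ⧸ Ω → Ω := fun b c => ⟨b.out⁻¹ * c.out * b.out * c.out⁻¹, hcomm _ _⟩
  have hout : ∀ w : W, ∃ z ∈ Ω, ((w : W ⧸ Ω)).out = w * z := by
    intro w
    obtain ⟨z, hz⟩ := QuotientGroup.mk_out_eq_mul Ω w
    exact ⟨z, z.2, hz⟩
  have hf : ∀ w : W, f (w : W ⧸ Ω) = ⟨w * w, hsq w⟩ := by
    intro w
    obtain ⟨z, hz, hw⟩ := hout w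
    apply Subtype.ext
    show ((w : W ⧸ Ω)).out * ((w : W ⧸ Ω)).out = w * w
    rw [hw]
    have : w * z * (w * z) = w * w * (z * z) := by
      rw [mul_assoc, ← mul_assoc z w z, ← hc z hz w]; group
    rw [this, he z hz, mul_one]
  have hβ : ∀ w v : W, β (w : W ⧸ Ω) (v : W ⧸ Ω) = ⟨w⁻¹ * v * w * v⁻¹, hcomm w v⟩ := by
    intro w v
    obtain ⟨z, hz, hw⟩ := hout w
    obtain ⟨y, hy, hv⟩ := hout v
    apply Subtype.ext
    show ((w : W ⧸ Ω)).out⁻¹ * ((v : W ⧸ Ω)).out * ((w : W ⧸ Ω)).out * ((v : W ⧸ Ω)).out⁻¹ = w⁻¹ * v * w * v⁻¹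
    rw [hw, hv]
    have e1 : (w * z)⁻¹ * (v * y) * (w * z) = w⁻¹ * (v * y) * w := by
      have : (w * z)⁻¹ * (v * y) * (w * z) = z⁻¹ * (w⁻¹ * (v * y) * w * z) := by group
      rw [this, hc z hz (w⁻¹ * (v * y) * w)]; group
    rw [e1]
    have e2 : w⁻¹ * (v * y) * w = w⁻¹ * v * w * y := by
      simp only [mul_assoc]
      rw [hc y hy w]
    rw [e2, mul_inv_rev]; group
  have key : ∀ x y z : W, ⟨(x * y)⁻¹ * z * (x * y) * z⁻¹, hcomm _ _⟩ =
      (⟨x⁻¹ * z * x * z⁻¹, hcomm _ _⟩ * ⟨y⁻¹ * z * y * z⁻¹, hcomm _ _⟩ : Ω) := by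
    intro x y z
    apply Subtype.ext
    show (x * y)⁻¹ * z * (x * y) * z⁻¹ = (x⁻¹ * z * x * z⁻¹) * (y⁻¹ * z * y * z⁻¹)
    have : (x * y)⁻¹ * z * (x * y) * z⁻¹ = y⁻¹ * (x⁻¹ * z * x * z⁻¹) * (z * y * z⁻¹) := by group
    rw [this, hc _ (hcomm x z) y⁻¹]; group
  have key2 : ∀ x y z : W, ⟨x⁻¹ * (y * z) * x * (y * z)⁻¹, hcomm _ _⟩ =
      (⟨x⁻¹ * y * x * y⁻¹, hcomm _ _⟩ * ⟨x⁻¹ * z * x * z⁻¹, hcomm _ _⟩ : Ω) := by
    intro x y z
    apply Subtype.ext
    show x⁻¹ * (y * z) * x * (y * z)⁻¹ = (x⁻¹ * y * x * y⁻¹) * (x⁻¹ * z * x * z⁻¹)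
    have : x⁻¹ * (y * z) * x * (y * z)⁻¹ = (x⁻¹ * y * x) * (x⁻¹ * z * x * z⁻¹) * y⁻¹ := by group
    rw [this, mul_assoc, ← hc _ (hcomm x z) y⁻¹]; group
  have hfin : Finite (W ⧸ Ω) := inferInstance
  obtain ⟨b, hb, hfb⟩ := Cfsg.Agent.PLocal.S4FreeCW.exists_ne_one (B := W ⧸ Ω) (Q := Ω) hB hQ f β
    (by
      intro a b c
      induction a using QuotientGroup.induction_on with
      | H x =>
        induction b using QuotientGroup.induction_on with
        | H y =>
          induction c using QuotientGroup.induction_on with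
          | H z =>
            have h1 := hβ (x * y) z
            rw [QuotientGroup.mk_mul] at h1
            rw [hβ x z, hβ y z]
            refine Eq.trans h1 ?_
            exact key x y z)
    (by
      intro a b c
      induction a using QuotientGroup.induction_on with
      | H x =>
        induction b using QuotientGroup.induction_on with
        | H y =>
          induction c using QuotientGroup.induction_on with
          | H z =>
            have h1 := hβ x (y * z)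
            rw [QuotientGroup.mk_mul] at h1
            rw [hβ x z, hβ x y]
            refine Eq.trans h1 ?_
            exact key2 x y z)
    (by
      intro a b
      induction a using QuotientGroup.induction_on with
      | H x =>
        induction b using QuotientGroup.induction_on with
        | H y =>
          have h1 := hf (x * y)
          rw [QuotientGroup.mk_mul] at h1
          rw [hf x, hf y, hβ x y]
          refine Eq.trans h1 ?_
          apply Subtype.ext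
          show x * y * (x * y) = x * x * (y * y) * (x⁻¹ * y * x * y⁻¹)
          have h2 : x * x * (y * y) * (x⁻¹ * y * x * y⁻¹) = x * x * ((y * y) * (x⁻¹ * y * x * y⁻¹)) := by group
          rw [h2, hc _ (hcomm x y) (y * y)]; group)
    (by
      have h1 : Nat.card W = Nat.card (W ⧸ Ω) * Nat.card Ω := Subgroup.card_eq_card_quotient_mul_card_subgroup Ω
      rw [h1, pow_succ] at hlt
      exact lt_of_mul_lt_mul_right hlt (Nat.zero_le _))
  revert hb hfb
  induction b using QuotientGroup.induction_on with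
  | H w =>
    intro hb hfb
    rw [hf] at hfb
    exact hb ((QuotientGroup.eq_one_iff w).2 (hin w (congrArg Subtype.val hfb)))

/-- number theory: `p ^ 2` does not divide `2 ^ m - 1` for `0 < m ≤ 2 a`, `p = 2 ^ a - 1` -/
theorem not_sq_dvd {a p m : ℕ} (ha : 2 ≤ a) (hpa : p + 1 = 2 ^ a) (hm : 0 < m) (hma : m ≤ 2 * a)
    (h : p ^ 2 ∣ 2 ^ m - 1) : False := by
  have h4 : 4 ≤ 2 ^ a := by
    calc 4 = 2 ^ 2 := by norm_num
      _ ≤ 2 ^ a := Nat.pow_le_pow_right (by norm_num) ha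
  have hp3 : 3 ≤ p := by omega
  obtain ⟨c, hc⟩ := h
  have h1 : 2 ^ m ≤ 2 ^ (2 * a) := Nat.pow_le_pow_right (by norm_num) hma
  have h2 : 2 ^ (2 * a) = (p + 1) ^ 2 := by rw [hpa, ← pow_mul, mul_comm]
  have h3 : 2 ≤ 2 ^ m := by
    calc 2 = 2 ^ 1 := by norm_num
      _ ≤ 2 ^ m := Nat.pow_le_pow_right (by norm_num) hm
  have hodd : p % 2 = 1 := by
    have : 2 ^ a % 2 = 0 := by
      obtain ⟨b, rfl⟩ := Nat.exists_eq_add_of_le ha
      rw [pow_add]; omega
    omega
  have hc1 : c < 2 := by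
    by_contra hcon
    push Not at hcon
    have h5 : p ^ 2 * 2 ≤ p ^ 2 * c := Nat.mul_le_mul_left _ hcon
    have h6 : 2 ^ m = p ^ 2 * c + 1 := by omega
    rw [h2] at h1
    nlinarith
  have hc0 : c ≠ 0 := by
    rintro rfl
    rw [mul_zero] at hc
    omega
  have hc2 : c = 1 := by omega
  rw [hc2, mul_one] at hc
  have h7 : 2 ^ m = p ^ 2 + 1 := by omega
  obtain ⟨q, hq⟩ : ∃ q, p = 2 * q + 1 := ⟨p / 2, by omega⟩
  have h8 : p ^ 2 = 4 * (q * q + q) + 1 := by rw [hq]; ring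
  have h9 : m = 1 := by
    by_contra hne
    obtain ⟨r, rfl⟩ := Nat.exists_eq_add_of_le (show 2 ≤ m by omega)
    rw [pow_add] at h7
    omega
  rw [h9] at h7
  nlinarith

variable {T : Type*} [Group T]

/-- the homomorphism from `ℤ / m` given by an element with `σ ^ m = 1` -/
def cyc {G : Type*} [Group G] (m : ℕ) [NeZero m] (σ : G) (h : σ ^ m = 1) : Multiplicative (ZMod m) →* G where
  toFun a := σ ^ (a.toAdd.val)
  map_one' := by
    show σ ^ ((0 : ZMod m).val) = 1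
    rw [ZMod.val_zero, pow_zero]
  map_mul' a b := by
    show σ ^ ((a.toAdd + b.toAdd : ZMod m).val) = _
    rw [ZMod.val_add, ← pow_eq_pow_mod _ h, pow_add]

/-- the powers of a permutation fix its fixed points -/
theorem pow_fix {C : Type*} (ρ : Equiv.Perm C) (k : ℕ) {y : C} (hρ : ρ y = y) : (ρ ^ k) y = y := by
  induction k with
  | zero => rfl
  | succ k ih => rw [pow_succ, Equiv.Perm.mul_apply, hρ, ih]

/-- **Free orbits.** -/
theorem pow_dvd_card {C : Type*} [Finite C] {l : ℕ} (hl : l.Prime) {τ : Equiv.Perm C} {j : ℕ}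
    (hτ : τ ^ l ^ (j + 1) = 1) (hfree : ∀ y, (τ ^ l ^ j) y ≠ y) : l ^ (j + 1) ∣ Nat.card C := by
  classical
  have : NeZero (l ^ (j + 1)) := ⟨pow_ne_zero _ hl.ne_zero⟩
  let f := cyc (l ^ (j + 1)) τ hτ
  let _ : MulAction (Multiplicative (ZMod (l ^ (j + 1)))) C := MulAction.compHom C f
  have hsm : ∀ (a : Multiplicative (ZMod (l ^ (j + 1)))) (y : C), a • y = (τ ^ (a.toAdd.val)) y := fun _ _ => rfl
  have hst : ∀ y : C, MulAction.stabilizer (Multiplicative (ZMod (l ^ (j + 1)))) y = ⊥ := by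
    intro y
    rw [eq_bot_iff]
    intro a ha
    rw [Subgroup.mem_bot]
    rw [MulAction.mem_stabilizer_iff, hsm] at ha
    by_contra hne
    have hlt : a.toAdd.val < l ^ (j + 1) := ZMod.val_lt _
    have hpos : a.toAdd.val ≠ 0 := by
      intro h0
      apply hne
      have e6 : a.toAdd = (0 : ZMod (l ^ (j + 1))) := (ZMod.val_eq_zero _).1 h0
      exact e6
    obtain ⟨i, hi, hg⟩ := (Nat.dvd_prime_pow hl).1 (Nat.gcd_dvd_right a.toAdd.val (l ^ (j + 1)))
    have hij : i ≤ j := by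
      by_contra hcon
      have h1 : i = j + 1 := by omega
      rw [h1] at hg
      have h2 : l ^ (j + 1) ∣ a.toAdd.val := Dvd.dvd.trans (dvd_of_eq hg.symm) (Nat.gcd_dvd_left _ _)
      exact absurd (Nat.le_of_dvd (Nat.pos_of_ne_zero hpos) h2) (not_le.2 hlt)
    have h1 : (τ ^ l ^ i) y = y := by
      rw [← hg]
      -- the gcd is a combination
      have h3 : τ ^ (a.toAdd.val.gcd (l ^ (j + 1))) = (τ ^ a.toAdd.val) ^
          (a.toAdd.val.gcdA (l ^ (j + 1))) := by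
        rw [← zpow_natCast τ (a.toAdd.val.gcd _), Nat.gcd_eq_gcd_ab, zpow_add, zpow_mul, zpow_mul, zpow_natCast,
          zpow_natCast, hτ, one_zpow, mul_one]
      rw [h3]
      rcases Int.eq_nat_or_neg (a.toAdd.val.gcdA (l ^ (j + 1))) with ⟨k, hk | hk⟩
      · rw [hk, zpow_natCast]
        exact pow_fix _ _ ha
      · rw [hk, zpow_neg, zpow_natCast, Equiv.Perm.inv_eq_iff_eq]
        exact (pow_fix _ _ ha).symm
    apply hfree y
    obtain ⟨d, rfl⟩ := Nat.exists_eq_add_of_le hij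
    rw [pow_add, pow_mul]
    exact pow_fix _ _ h1
  rw [Nat.card_congr (MulAction.selfEquivOrbitsQuotientProd (G := Multiplicative (ZMod (l ^ (j + 1)))) (X := C) hst),
    Nat.card_prod]
  refine Dvd.dvd.mul_left ?_ _
  rw [Nat.card_eq_fintype_card, Fintype.card_multiplicative, ZMod.card]

open Cfsg.Agent.Classification.TypeZ.Critical in
/-- a `2'`-automorphism trivial on the involutions is trivial on an invariant abelian subgroup -/
theorem fix_abelian [Finite T] (hT : IsPGroup 2 T) {Ω Z : Subgroup T} (hΩ : ∀ x : T, x ∈ Ω ↔ x * x = 1)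
    (hZ : ∀ x ∈ Z, ∀ y ∈ Z, x * y = y * x) (b : MulAut T) (hb : (orderOf b).Coprime 2) (hbZ : ∀ x ∈ Z, b x ∈ Z)
    (hbΩ : ∀ x ∈ Ω, b x = x) : ∀ x ∈ Z, b x = x := by
  have key : ∀ j : ℕ, ∀ x ∈ Z, x ^ 2 ^ j = 1 → b x = x := by
    intro j
    induction j with
    | zero =>
      intro x _ hx
      rw [pow_zero, pow_one] at hx
      rw [hx, map_one]
    | succ j ih =>
      intro x hx hxj
      have h1 : b (x * x) = x * x := by
        refine ih _ (Z.mul_mem hx hx) ?_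
        rw [← pow_two, ← pow_mul, ← pow_succ', hxj]
      apply fix_of_fix_div hT b hb
      apply hbΩ
      rw [hΩ]
      have h2 : x⁻¹ * b x * (x⁻¹ * b x) = x⁻¹ * x⁻¹ * (b x * b x) := by
        have h3 := hZ _ (hbZ x hx) _ (Z.inv_mem hx)
        calc x⁻¹ * b x * (x⁻¹ * b x) = x⁻¹ * (b x * x⁻¹) * b x := by group
          _ = x⁻¹ * (x⁻¹ * b x) * b x := by rw [h3]
          _ = _ := by group
      rw [h2, ← map_mul, h1]; group
  intro x hx
  obtain ⟨j, hj⟩ := hT x
  exact key j x hx hj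

open Cfsg.Agent.Classification.TypeZ.Critical in
open scoped commutatorElement in
/-- **Automorphisms cyclic on the involutions.** -/
theorem aut_pow_eq_one [Finite T] (hT : IsPGroup 2 T) (Ω : Subgroup T) (hc : ∀ z ∈ Ω, ∀ x : T, x * z = z * x)
    (hΩ : ∀ x : T, x ∈ Ω ↔ x * x = 1) {a p : ℕ} (ha : 2 ≤ a) (hcard : Nat.card Ω = 2 ^ a) (hp : p.Prime)
    (hpa : p + 1 = 2 ^ a) (α : MulAut T) {k : ℕ} (hα : orderOf α = p ^ k) (hfix : ∀ x ∈ Ω, (α ^ p) x = x) :
    α ^ p = 1 := by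
  classical
  by_contra hne
  have hf2 : Fact (Nat.Prime 2) := ⟨Nat.prime_two⟩
  have h4 : 4 ≤ 2 ^ a := by
    calc 4 = 2 ^ 2 := by norm_num
      _ ≤ 2 ^ a := Nat.pow_le_pow_right (by norm_num) ha
  have hp3 : 3 ≤ p := by omega
  have hk : 2 ≤ k := by
    by_contra hlt
    push Not at hlt
    apply hne
    rw [← orderOf_dvd_iff_pow_eq_one, hα]
    calc p ^ k ∣ p ^ 1 := Nat.pow_dvd_pow _ (by omega)
      _ = p := pow_one p
  obtain ⟨j, rfl⟩ := Nat.exists_eq_add_of_le' hk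
  set b : MulAut T := α ^ p ^ (j + 1) with hbdef
  have hb1 : b ≠ 1 := by
    intro h
    have h1 := orderOf_dvd_of_pow_eq_one h
    rw [hα] at h1
    have h2 := (Nat.pow_dvd_pow_iff_le_right hp.one_lt).1 h1
    omega
  have hbp : b ^ p = 1 := by
    rw [hbdef, ← pow_mul, ← pow_succ, ← orderOf_dvd_iff_pow_eq_one, hα]
  have hbord : orderOf b = p := by
    have hfp : Fact p.Prime := ⟨hp⟩
    exact orderOf_eq_prime hbp hb1
  have hbcop : (orderOf b).Coprime 2 := by
    rw [hbord, Nat.coprime_primes hp Nat.prime_two]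
    omega
  have hbΩ : ∀ x ∈ Ω, b x = x := by
    intro x hx
    rw [hbdef, pow_succ', pow_mul]
    generalize p ^ j = n
    induction n with
    | zero => rfl
    | succ n ih => rw [pow_succ, MulAut.mul_apply, hfix x hx, ih]
  obtain ⟨C, hC, h1, h2, h3⟩ := Cfsg.Agent.S0093.result (p := 2) hT
  have hCinv : ∀ (g : MulAut T), ∀ x ∈ C, g x ∈ C := by
    intro g x hx
    have h5 := Subgroup.characteristic_iff_map_eq.1 hC g
    rw [← h5]
    exact ⟨x, hx, rfl⟩
  obtain ⟨x₀, hx₀, hbx₀⟩ : ∃ x ∈ C, b x ≠ x := by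
    by_contra hcon
    push Not at hcon
    exact hb1 (Cfsg.Agent.S0121.result hT C hC h1 h2 h3 b hbcop hcon)
  set Z := C ⊓ centralizer (C : Set T) with hZdef
  have hZZ : ∀ x ∈ Z, ∀ y ∈ C, x * y = y * x := fun x hx y hy => (mem_centralizer_iff.1 hx.2 y hy).symm
  have hZinv : ∀ x ∈ Z, b x ∈ Z := by
    intro x hx
    refine ⟨hCinv b x hx.1, mem_centralizer_iff.2 ?_⟩
    intro y hy
    have h5 := hZZ x hx (b⁻¹ y) (hCinv b⁻¹ y hy)
    have h6 := congrArg b h5
    rw [map_mul, map_mul] at h6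
    have h7 : b (b⁻¹ y) = y := by
      rw [← MulAut.mul_apply, mul_inv_cancel, MulAut.one_apply]
    rw [h7] at h6
    exact h6.symm
  have hbZ : ∀ x ∈ Z, b x = x :=
    fix_abelian hT hΩ (fun x hx y hy => hZZ x hx y hy.1) b hbcop hZinv hbΩ
  have hsq : ∀ x ∈ C, x * x ∈ Z := by
    intro x hx
    refine ⟨C.mul_mem hx hx, ?_⟩
    have h4 : (⟨x, hx⟩ : C) ^ 2 ∈ frattini C :=
      Cfsg.Agent.Lib.FrattiniPGroup.pow_mem_frattini (hT.to_subgroup C) _
    have h5 := h1 ⟨_, h4, rfl⟩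
    have h6 : C.subtype ((⟨x, hx⟩ : C) ^ 2) = x * x := by
      rw [map_pow, pow_two]; rfl
    rw [h6] at h5
    exact h5
  have hcomm : ∀ x ∈ C, ∀ y : T, ⁅x, y⁆ ∈ Z := fun x hx y => h2 (commutator_mem_commutator hx (mem_top y))
  have hcomm2 : ∀ x ∈ C, ∀ y ∈ C, ⁅x, y⁆ ∈ Ω := by
    intro x hx y hy
    rw [hΩ]
    have e1 : x * ⁅x, y⁆ = ⁅x, y⁆ * x := (hZZ _ (hcomm x hx y) x hx).symm
    have e2 : ⁅x, y⁆ * ⁅x, y⁆ = x * x * y * (x * x)⁻¹ * y⁻¹ := by
      calc ⁅x, y⁆ * ⁅x, y⁆ = ⁅x, y⁆ * x * (y * x⁻¹ * y⁻¹) := by rw [commutatorElement_def]; group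
        _ = x * ⁅x, y⁆ * (y * x⁻¹ * y⁻¹) := by rw [e1]
        _ = _ := by rw [commutatorElement_def]; group
    rw [e2, hZZ _ (hsq x hx) y hy]; group
  -- the subgroup of elements whose square is in `Ω`
  let W : Subgroup T :=
    { carrier := {x | x ∈ C ∧ x * x ∈ Ω}
      one_mem' := ⟨C.one_mem, by rw [mul_one]; exact Ω.one_mem⟩
      mul_mem' := by
        rintro x y ⟨hx, hx2⟩ ⟨hy, hy2⟩
        refine ⟨C.mul_mem hx hy, ?_⟩
        have e1 : x * y * (x * y) = x * x * ((x⁻¹ * (y * x * y⁻¹)) * (y * y)) := by group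
        have e2 : x⁻¹ * (y * x * y⁻¹) ∈ Ω := by
          have := hcomm2 x⁻¹ (C.inv_mem hx) y hy
          rw [commutatorElement_def, inv_inv] at this
          have e3 : x⁻¹ * (y * x * y⁻¹) = x⁻¹ * y * x * y⁻¹ := by group
          rw [e3]; exact this
        rw [e1]
        exact Ω.mul_mem hx2 (Ω.mul_mem e2 hy2)
      inv_mem' := by
        rintro x ⟨hx, hx2⟩
        refine ⟨C.inv_mem hx, ?_⟩
        rw [← mul_inv_rev]
        exact Ω.inv_mem hx2 }
  have hWm : ∀ x, x ∈ W ↔ x ∈ C ∧ x * x ∈ Ω := fun x => Iff.rfl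
  have hΩC : Ω ≤ C := by
    intro z hz
    exact h3 (mem_centralizer_iff.2 fun y _ => hc z hz y)
  have hΩW : Ω ≤ W := fun z hz => ⟨hΩC hz, by rw [(hΩ z).1 hz]; exact Ω.one_mem⟩
  have hgΩ : ∀ (g : MulAut T), ∀ x ∈ Ω, g x ∈ Ω := by
    intro g x hx
    rw [hΩ, ← map_mul, (hΩ x).1 hx, map_one]
  have hWinv : ∀ (g : MulAut T), ∀ x ∈ W, g x ∈ W := by
    rintro g x ⟨hx, hx2⟩
    refine ⟨hCinv g x hx, ?_⟩
    rw [← map_mul]
    exact hgΩ g _ hx2
  have hWcard : Nat.card W ≤ (2 ^ a) ^ 3 := by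
    have h5 := card_le_cube (W := W) (Ω.subgroupOf W)
      (by
        rintro ⟨z, hz⟩ hz2 ⟨x, hx⟩
        exact Subtype.ext (hc z hz2 x))
      (by
        rintro ⟨z, hz⟩ hz2
        exact Subtype.ext ((hΩ z).1 hz2))
      (by
        rintro ⟨x, hx⟩
        exact hx.2)
      (by
        rintro ⟨x, hx⟩ hxx
        exact (hΩ x).2 (congrArg Subtype.val hxx))
    rwa [Nat.card_congr (Subgroup.subgroupOfEquivOfLe hΩW).toEquiv, hcard] at h5
  -- `b` moves an element of `W`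
  have hmove : ∃ w ∈ W, b w ≠ w := by
    by_contra hcon
    push Not at hcon
    apply hbx₀
    apply fix_of_fix_div hT b hbcop
    apply hcon
    refine ⟨C.mul_mem (C.inv_mem hx₀) (hCinv b x₀ hx₀), ?_⟩
    have e0 : b x₀ * b x₀ = x₀ * x₀ := by rw [← map_mul]; exact hbZ _ (hsq x₀ hx₀)
    have e1 : x₀⁻¹ * b x₀ * (x₀⁻¹ * b x₀) = (x₀⁻¹ * b x₀ * x₀ * (b x₀)⁻¹) * (b x₀ * (x₀ * x₀)⁻¹ * b x₀) := by group
    have e2 : b x₀ * (x₀ * x₀)⁻¹ * b x₀ = 1 := by
      have e3 := hZZ _ (Z.inv_mem (hsq x₀ hx₀)) (b x₀) (hCinv b x₀ hx₀)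
      rw [← e3, mul_assoc, e0, inv_mul_cancel]
    rw [e1, e2, mul_one]
    have := hcomm2 x₀⁻¹ (C.inv_mem hx₀) (b x₀) (hCinv b x₀ hx₀)
    rw [commutatorElement_def, inv_inv] at this
    exact this
  -- the fixed points
  let F : Subgroup T :=
    { carrier := {x | x ∈ W ∧ b x = x}
      one_mem' := ⟨W.one_mem, map_one b⟩
      mul_mem' := by
        rintro x y ⟨hx, hx2⟩ ⟨hy, hy2⟩
        exact ⟨W.mul_mem hx hy, by rw [map_mul, hx2, hy2]⟩
      inv_mem' := by
        rintro x ⟨hx, hx2⟩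
        exact ⟨W.inv_mem hx, by rw [map_inv, hx2]⟩ }
  have hFW : F ≤ W := fun x hx => hx.1
  have hΩF : Ω ≤ F := fun x hx => ⟨hΩW hx, hbΩ x hx⟩
  -- the moved points
  let M : Type _ := {x : T // x ∈ W ∧ b x ≠ x}
  have hbα : ∀ x, b (α x) = α (b x) := by
    intro x
    rw [← MulAut.mul_apply, ← MulAut.mul_apply, hbdef, ← pow_succ, ← pow_succ']
  let τ : Equiv.Perm M :=
    { toFun := fun x => ⟨α x.1, hWinv α _ x.2.1, fun h => x.2.2 (α.injective (by rw [← hbα]; exact h))⟩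
      invFun := fun x => ⟨α⁻¹ x.1, hWinv α⁻¹ _ x.2.1, fun h => x.2.2 (by
        have h5 := congrArg α h
        rw [← hbα] at h5
        have h6 : α (α⁻¹ x.1) = x.1 := by rw [← MulAut.mul_apply, mul_inv_cancel, MulAut.one_apply]
        rwa [h6] at h5)⟩
      left_inv := fun x => Subtype.ext (by
        show α⁻¹ (α x.1) = x.1
        rw [← MulAut.mul_apply, inv_mul_cancel, MulAut.one_apply])
      right_inv := fun x => Subtype.ext (by
        show α (α⁻¹ x.1) = x.1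
        rw [← MulAut.mul_apply, mul_inv_cancel, MulAut.one_apply]) }
  have hτ : ∀ (n : ℕ) (x : M), ((τ ^ n) x).1 = (α ^ n) x.1 := by
    intro n
    induction n with
    | zero => intro x; rfl
    | succ n ih =>
      intro x
      rw [pow_succ, Equiv.Perm.mul_apply, ih, pow_succ, MulAut.mul_apply]
      rfl
  have hdvd : p ^ (j + 1 + 1) ∣ Nat.card M := by
    apply pow_dvd_card hp (τ := τ)
    · ext x
      rw [hτ, ← hα, pow_orderOf_eq_one]
      rfl
    · intro y h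
      apply y.2.2
      have h5 := congrArg Subtype.val h
      rw [hτ] at h5
      exact h5
  have hMcard : Nat.card M + Nat.card F = Nat.card W := by
    have e1 : Nat.card W = Nat.card {x : W // b x.1 = x.1} + Nat.card {x : W // ¬ b x.1 = x.1} := by
      rw [← Nat.card_sum]
      exact Nat.card_congr (Equiv.sumCompl fun x : W => b x.1 = x.1).symm
    have e2 : Nat.card {x : W // b x.1 = x.1} = Nat.card F :=
      Nat.card_congr (Equiv.subtypeSubtypeEquivSubtypeInter (fun x => x ∈ W) (fun x => b x = x))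
    have e3 : Nat.card {x : W // ¬ b x.1 = x.1} = Nat.card M :=
      Nat.card_congr (Equiv.subtypeSubtypeEquivSubtypeInter (fun x => x ∈ W) (fun x => ¬ b x = x))
    rw [e1, e2, e3, add_comm]
  obtain ⟨u, hu⟩ := IsPGroup.iff_card.1 (hT.to_subgroup W)
  obtain ⟨v, hv⟩ := IsPGroup.iff_card.1 (hT.to_subgroup F)
  have hau : a ≤ v := by
    have h5 := Subgroup.card_dvd_of_le hΩF
    rw [hcard, hv] at h5
    exact (Nat.pow_dvd_pow_iff_le_right (by norm_num)).1 h5
  have hvu : v < u := by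
    obtain ⟨w, hw, hbw⟩ := hmove
    have h5 : F < W := lt_of_le_of_ne hFW (fun h => hbw (by
      have h6 : w ∈ F := by rw [h]; exact hw
      exact h6.2))
    have h6 := Subgroup.card_dvd_of_le hFW
    rw [hu, hv] at h6
    have h7 := (Nat.pow_dvd_pow_iff_le_right (by norm_num)).1 h6
    rcases h7.lt_or_eq with h8 | h8
    · exact h8
    · exfalso
      apply h5.ne
      apply Subgroup.eq_of_le_of_card_ge hFW
      rw [hu, hv, h8]
  have hu3 : u ≤ 3 * a := by
    rw [hu, ← pow_mul, mul_comm] at hWcard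
    exact (Nat.pow_le_pow_iff_right (by norm_num)).1 hWcard
  have hdvd2 : p ^ 2 ∣ 2 ^ (u - v) - 1 := by
    have e1 : p ^ 2 ∣ Nat.card M := dvd_trans (Nat.pow_dvd_pow _ (by omega)) hdvd
    have e2 : Nat.card M = 2 ^ v * (2 ^ (u - v) - 1) := by
      have e3 : 2 ^ v * 2 ^ (u - v) = 2 ^ u := by rw [← pow_add]; congr 1; omega
      rw [Nat.mul_sub, e3, mul_one]
      rw [hu, hv] at hMcard
      omega
    rw [e2] at e1
    refine Nat.Coprime.dvd_of_dvd_mul_left ?_ e1
    apply Nat.Coprime.pow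
    rw [Nat.coprime_primes hp Nat.prime_two]
    omega
  exact not_sq_dvd ha hpa (m := u - v) (by omega) (by omega) hdvd2

end Cfsg.Agent.H512.TwoAut
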