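import Mathlib
import Cfsg.Agent.S1137
import Cfsg.Agent.S1138
import Cfsg.Agent.H512.TwoAut

/-!
# 2-groups with an automorphism permuting the involutions transitively

`T` a finite 2-group, `Ω` a central subgroup of order `2 ^ a = p + 1`, `p` prime, consisting of the elements with square
one, `α` an automorphism of order a power of `p` transitive on `Ω#`.

* `period` : `α ^ n` fixes an involution iff `p ∣ n`;
* `sq_mem` : if `T` is not abelian, all squares of elements of `T` are in `Ω` (Higman, `S1137`, `S1138`).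
-/

set_option autoImplicit false

namespace Cfsg.Agent.H512.SuzTwo

open Subgroup

variable {T : Type*} [Group T]

/-- periods of the involutions -/
theorem period [Finite T] (Ω : Subgroup T) (hΩ : ∀ x : T, x ∈ Ω ↔ x * x = 1) {a p : ℕ} (hcard : Nat.card Ω = 2 ^ a)
    (hpa : p + 1 = 2 ^ a) (α : MulAut T)
    (htr : ∀ x ∈ Ω, ∀ y ∈ Ω, x ≠ 1 → y ≠ 1 → ∃ n : ℕ, (α ^ n) x = y) {x : T} (hx : x ∈ Ω) (hx1 : x ≠ 1) (n : ℕ) :
    (α ^ n) x = x ↔ p ∣ n := by
  classical
  have _ : Fintype T := Fintype.ofFinite T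
  have h1 : Function.minimalPeriod (α • ·) x = p := by
    rw [MulAction.minimalPeriod_eq_card]
    have h2 : MulAction.orbit (zpowers α) x = {y | y ∈ Ω ∧ y ≠ 1} := by
      ext y
      constructor
      · rintro ⟨⟨g, hg⟩, rfl⟩
        refine ⟨?_, ?_⟩
        · show g x ∈ Ω
          rw [hΩ, ← map_mul, (hΩ x).1 hx, map_one]
        · show g x ≠ 1
          intro h
          exact hx1 (g.injective (by rw [h, map_one]))
      · rintro ⟨hy, hy1⟩
        obtain ⟨n, hn⟩ := htr x hx y hy hx1 hy1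
        exact ⟨⟨α ^ n, npow_mem_zpowers _ _⟩, hn⟩
    rw [← Nat.card_eq_fintype_card, h2]
    have h3 : Nat.card Ω = Nat.card {y : T // y ∈ Ω ∧ y ≠ 1} + 1 := by
      have e1 : Nat.card Ω = Nat.card {y : Ω // y ≠ 1} + 1 := by
        rw [← Finite.card_option]
        refine Nat.card_congr ?_
        exact (Equiv.optionSubtypeNe (1 : Ω)).symm
      rw [e1]
      congr 1
      refine Nat.card_congr ((Equiv.subtypeEquivRight fun y => ?_).trans
        (Equiv.subtypeSubtypeEquivSubtypeInter (fun y => y ∈ Ω) (fun y => y ≠ 1)))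
      rw [ne_eq, ne_eq, ← OneMemClass.coe_eq_one]
    have h4 : Nat.card ({y | y ∈ Ω ∧ y ≠ 1} : Set T) = Nat.card {y : T // y ∈ Ω ∧ y ≠ 1} := rfl
    rw [h4]
    omega
  rw [← h1, ← MulAction.pow_smul_eq_iff_minimalPeriod_dvd]
  exact Iff.rfl

/-- **Higman.** -/
theorem sq_mem [Finite T] (hT : IsPGroup 2 T) (Ω : Subgroup T) (hc : ∀ z ∈ Ω, ∀ x : T, x * z = z * x)
    (hΩ : ∀ x : T, x ∈ Ω ↔ x * x = 1) {a p : ℕ} (ha : 2 ≤ a) (hcard : Nat.card Ω = 2 ^ a) (hp : p.Prime)
    (hpa : p + 1 = 2 ^ a) (α : MulAut T) {k : ℕ} (hα : orderOf α = p ^ k)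
    (htr : ∀ x ∈ Ω, ∀ y ∈ Ω, x ≠ 1 → y ≠ 1 → ∃ n : ℕ, (α ^ n) x = y) (hnc : ∃ x y : T, x * y ≠ y * x) :
    ∀ x : T, x * x ∈ Ω := by
  have hper : ∀ x ∈ Ω, x ≠ 1 → ∀ n, (α ^ n) x = x ↔ p ∣ n := fun x hx hx1 n =>
    period Ω hΩ hcard hpa α htr hx hx1 n
  have h4 : 4 ≤ 2 ^ a := by
    calc 4 = 2 ^ 2 := by norm_num
      _ ≤ 2 ^ a := Nat.pow_le_pow_right (by norm_num) ha
  have hαp : α ^ p = 1 := by
    apply Cfsg.Agent.H512.TwoAut.aut_pow_eq_one hT Ω hc hΩ ha hcard hp hpa α hα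
    intro x hx
    by_cases hx1 : x = 1
    · rw [hx1, map_one]
    · exact (hper x hx hx1 p).2 dvd_rfl
  have hS : Cfsg.IsSuzukiTwoGroup T := by
    refine ⟨inferInstance, hT, hnc, ?_, zpowers α, inferInstance, ?_⟩
    · -- two involutions
      have h5 : 1 < Nat.card Ω := by omega
      have : Nontrivial Ω := Finite.one_lt_card_iff_nontrivial.1 h5
      obtain ⟨⟨x, hx⟩, hx1⟩ := exists_ne (1 : Ω)
      have hx1' : x ≠ 1 := fun h => hx1 (Subtype.ext h)
      refine ⟨x, α x, ?_, hx1', (hΩ x).1 hx, ?_, ?_⟩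
      · intro h
        have h6 := (hper x hx hx1' 1).1 (by rw [pow_one]; exact h.symm)
        exact hp.one_lt.ne' (Nat.dvd_one.1 h6)
      · intro h
        exact hx1' (α.injective (by rw [h, map_one]))
      · rw [← map_mul, (hΩ x).1 hx, map_one]
    · intro x y hx1 hx hy1 hy
      have hx' : x ∈ Ω := (hΩ x).2 hx
      have hy' : y ∈ Ω := (hΩ y).2 hy
      obtain ⟨n, hn⟩ := htr x hx' y hy' hx1 hy1
      refine ⟨⟨α ^ n, npow_mem_zpowers _ _⟩, hn, ?_⟩
      rintro ⟨g, hg⟩ hgx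
      apply Subtype.ext
      show g = α ^ n
      obtain ⟨m, rfl⟩ := (isOfFinOrder_of_finite α).mem_powers_iff_mem_zpowers.2 hg
      have hgx' : (α ^ m) x = y := hgx
      -- the difference
      have key : ∀ i j : ℕ, i ≤ j → (α ^ i) x = (α ^ j) x → α ^ i = α ^ j := by
        intro i j hij h
        obtain ⟨d, rfl⟩ := Nat.exists_eq_add_of_le hij
        rw [pow_add, MulAut.mul_apply] at h
        have h7 := (α ^ i).injective h
        obtain ⟨c, rfl⟩ := (hper x hx' hx1 d).1 h7.symm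
        rw [pow_add, pow_mul, hαp, one_pow, mul_one]
      show α ^ m = α ^ n
      rcases le_total m n with h | h
      · exact key m n h (by rw [hgx', hn])
      · exact (key n m h (by rw [hgx', hn])).symm
  have h5 := (Cfsg.Agent.S1137.result hS).2
  have h6 := (Cfsg.Agent.S1138.result hS).1
  intro x
  exact (hΩ _).2 (h5 _ (h6 x))

end Cfsg.Agent.H512.SuzTwo
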