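import Mathlib
import Cfsg.Prelude.Def_Local
import Cfsg.Agent.H512.SuzTwo
import Cfsg.Agent.Walter.StepAll
import Cfsg.Agent.Walter.AbStruct
import Cfsg.Agent.Walter.AutFacts
import Cfsg.Agent.Walter.TypeSylow
import Cfsg.Agent.WeakTI.PslTwo
import Cfsg.Agent.BpLin.Quot
import Cfsg.Agent.S1270

/-!
# Groups all of whose involutions are central and permuted cyclically (part (B1) of S3930)

`H` is a finite group with `O(H) = 1`, `E` the set of the elements with square one, a central subgroup of order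
`2 ^ a = p + 1`, `p` prime, `φ` an automorphism of order a power of `p`, which normalises a Sylow 2-subgroup and is
transitive on `E#`. Then `H` is solvable (`main`).
-/

set_option autoImplicit false

namespace Cfsg.Agent.H512.CentSolv

open Subgroup Cfsg
open Cfsg.Agent.Walter.AbStruct
open Cfsg.Agent.SignalizersComponents
open Cfsg.Agent.SignalizersComponents.Components

universe u

/-- a nonsolvable core-free group with abelian Sylow 2-subgroups has a component -/
theorem exists_component (hFT : ∀ (K : Type u) [Group K] [Finite K], Odd (Nat.card K) → Group.IsSolvable K)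
    {X : Type u} [Group X] [Finite X] (hO : pPrimeCore 2 X = ⊥) (S : Sylow 2 X)
    (hS : ∀ a ∈ (S : Subgroup X), ∀ b ∈ (S : Subgroup X), a * b = b * a) (hns : ¬ Group.IsSolvable X) :
    ∃ K : Subgroup X, IsComponent K := by
  by_contra hcon
  push Not at hcon
  apply hns
  have h1 : layer X = ⊥ := by
    unfold layer
    rw [sSup_eq_bot]
    intro K hK
    exact absurd hK (hcon K)
  have h2 : generalizedFittingSubgroup X = pCore 2 X := by rw [genFitting_eq hO, h1, sup_bot_eq]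
  have h3 := odd_index hO hS
  rw [h2] at h3
  have hn : (pCore 2 X).Normal := Lib.Cores.pCore_normal 2
  have h4 : Group.IsSolvable (X ⧸ pCore 2 X) := hFT _ h3
  have hf2 : Fact (Nat.Prime 2) := ⟨Nat.prime_two⟩
  have h5 : IsPGroup 2 (pCore 2 X) := Lib.Cores.pCore_isPGroup 2
  have h6 : Group.IsNilpotent (pCore 2 X) := h5.isNilpotent
  have h7 : Group.IsSolvable (pCore 2 X) := inferInstance
  refine Group.isSolvable_of_ker_le_range (pCore 2 X).subtype (QuotientGroup.mk' (pCore 2 X)) ?_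
  rw [QuotientGroup.ker_mk', range_subtype]

/-- the nontrivial elements of an elementary abelian Sylow 2-subgroup of a simple group are conjugate -/
theorem fusion {K : Type u} [Group K] [Finite K] (hK : IsSimpleGroup K) (hna : ¬ IsMulCommutative K) (P : Sylow 2 K)
    (hP : ∀ x ∈ (P : Subgroup K), x * x = 1) {v w : K} (hv : v ∈ (P : Subgroup K)) (hv1 : v ≠ 1)
    (hw : w ∈ (P : Subgroup K)) (hw1 : w ≠ 1) : ∃ g : K, g * v * g⁻¹ = w := by
  have hPc : ∀ a ∈ (P : Subgroup K), ∀ b ∈ (P : Subgroup K), a * b = b * a := by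
    intro a ha b hb
    have h1 := hP _ (mul_mem ha hb)
    have h2 : a⁻¹ = a := inv_eq_of_mul_eq_one_left (hP a ha)
    have h3 : b⁻¹ = b := inv_eq_of_mul_eq_one_left (hP b hb)
    have h4 : a * b = (a * b)⁻¹ := (inv_eq_of_mul_eq_one_left h1).symm
    rw [mul_inv_rev, h2, h3] at h4
    exact h4
  have hna' : ∃ a b : K, a * b ≠ b * a := by
    by_contra hcon
    push Not at hcon
    exact hna ⟨⟨hcon⟩⟩
  rcases Cfsg.Agent.Walter.Main.wType_of_step Cfsg.Agent.Walter.StepAll.step K hK hna P hPc with h | h | h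
  · obtain ⟨F, i1, i2, n, h1, h2, ⟨e⟩⟩ := h
    have : CharP F 2 := by
      have : Fact (Nat.Prime 2) := ⟨Nat.prime_two⟩
      exact charP_of_card_eq_prime_pow h2
    exact Cfsg.Agent.WeakTI.PslTwo.exists_conj e (hP v hv) hv1 (hP w hw) hw1
  · obtain ⟨F, i1, i2, h1, h2, ⟨e⟩⟩ := h
    have hc := Cfsg.Agent.Walter.TypeSylow.card_sylow_odd h1 e P
    obtain ⟨n, -, hn⟩ := Cfsg.Agent.Walter.AutFacts.transitive hna' P hP (by rw [hc]; norm_num) hv hv1 hw hw1
    exact ⟨n, hn⟩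
  · have hc := (Cfsg.Agent.Walter.TypeSylow.card_sylow_JR h P).1
    obtain ⟨n, -, hn⟩ := Cfsg.Agent.Walter.AutFacts.transitive hna' P hP (by rw [hc]; norm_num) hv hv1 hw hw1
    exact ⟨n, hn⟩

/-- elements of the inverse images of commuting perfect subgroups modulo a central subgroup commute -/
theorem lift_comm {H : Type u} [Group H] {E : Subgroup H} [E.Normal] (hEc : E ≤ center H) {K : Subgroup (H ⧸ E)}
    (hK : Group.IsPerfect K) {u v : H} (hu : (QuotientGroup.mk' E u) ∈ K)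
    (hv : ∀ g ∈ K, g * QuotientGroup.mk' E v = QuotientGroup.mk' E v * g) : u * v = v * u := by
  set K₀ : Subgroup H := K.comap (QuotientGroup.mk' E) with hK₀
  have hcom : ∀ g ∈ K₀, g * v * g⁻¹ * v⁻¹ ∈ E := by
    intro g hg
    have h1 := hv _ hg
    rw [← QuotientGroup.eq_one_iff]
    have h2 : ((g * v * g⁻¹ * v⁻¹ : H) : H ⧸ E) = QuotientGroup.mk' E g * QuotientGroup.mk' E v *
        (QuotientGroup.mk' E g)⁻¹ * (QuotientGroup.mk' E v)⁻¹ := rfl
    rw [h2, h1]; group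
  have hz : ∀ e ∈ E, ∀ x : H, x * e = e * x := fun e he x => mem_center_iff.1 (hEc he) x
  let f : K₀ →* E :=
    { toFun := fun g => ⟨g.1 * v * g.1⁻¹ * v⁻¹, hcom g.1 g.2⟩
      map_one' := Subtype.ext (by show 1 * v * 1⁻¹ * v⁻¹ = 1; group)
      map_mul' := fun g h => Subtype.ext (by
        show g.1 * h.1 * v * (g.1 * h.1)⁻¹ * v⁻¹ = (g.1 * v * g.1⁻¹ * v⁻¹) * (h.1 * v * h.1⁻¹ * v⁻¹)
        have h1 : g.1 * h.1 * v * (g.1 * h.1)⁻¹ * v⁻¹ = g.1 * (h.1 * v * h.1⁻¹ * v⁻¹) * (v * g.1⁻¹ * v⁻¹) := by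
          group
        rw [h1, hz _ (hcom h.1 h.2) g.1, mul_assoc, ← hz _ (hcom h.1 h.2)]; group) }
  -- commutators are in the kernel
  have hcomE : ∀ a b : E, a * b = b * a := fun a b => Subtype.ext (hz b.1 b.2 a.1)
  have hker : ∀ g ∈ ⁅K₀, K₀⁆, g * v * g⁻¹ * v⁻¹ = 1 := by
    intro g hg
    have hgK : g ∈ K₀ := (commutator_le_self K₀) hg
    have h1 : (⟨g, hgK⟩ : K₀) ∈ commutator K₀ := by
      have h2 : (commutator K₀).map K₀.subtype = ⁅K₀, K₀⁆ := map_subtype_commutator K₀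
      rw [← h2] at hg
      obtain ⟨x, hx, hxg⟩ := hg
      have : x = ⟨g, hgK⟩ := Subtype.ext hxg
      rwa [← this]
    have h3 : commutator K₀ ≤ f.ker := by
      rw [commutator_def, commutator_le]
      intro x _ y _
      rw [MonoidHom.mem_ker, map_commutatorElement, commutatorElement_eq_one_iff_mul_comm]
      exact hcomE _ _
    have h4 := h3 h1
    rw [MonoidHom.mem_ker] at h4
    exact congrArg Subtype.val h4
  have hmap : ⁅K₀, K₀⁆.map (QuotientGroup.mk' E) = K := by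
    rw [map_commutator, hK₀, map_comap_eq_self_of_surjective (QuotientGroup.mk'_surjective E)]
    have h1 : commutator K = ⊤ := hK.commutator_eq_top
    rw [← map_subtype_commutator, h1, ← MonoidHom.range_eq_map, range_subtype]
  have hu' := hu
  rw [← hmap] at hu'
  obtain ⟨l, hl, hlu⟩ := hu'
  have h5 : l⁻¹ * u ∈ E := by
    rw [← QuotientGroup.eq]
    exact hlu
  have h6 := hker l hl
  have h7 : l * v = v * l := by
    have := mul_inv_eq_one.1 h6
    exact mul_inv_eq_iff_eq_mul.1 this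
  have h8 : u = l * (l⁻¹ * u) := by group
  rw [h8, mul_assoc, ← hz _ h5 v, ← mul_assoc, h7, mul_assoc]

/-- **Part (B1)**, abstract form. -/
theorem main (hFT : ∀ (K : Type u) [Group K] [Finite K], Odd (Nat.card K) → Group.IsSolvable K)
    {H : Type u} [Group H] [Finite H] (E : Subgroup H) (hEc : E ≤ center H) (hE : ∀ x : H, x ∈ E ↔ x * x = 1)
    {a p : ℕ} (ha : 2 ≤ a) (hcard : Nat.card E = 2 ^ a) (hp : p.Prime) (hpa : p + 1 = 2 ^ a)
    (hO : pPrimeCore 2 H = ⊥) (T : Sylow 2 H) (φ : MulAut H) (hφT : ∀ x ∈ (T : Subgroup H), φ x ∈ (T : Subgroup H))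
    {k : ℕ} (hφ : orderOf φ = p ^ k)
    (htr : ∀ x ∈ E, ∀ y ∈ E, x ≠ 1 → y ≠ 1 → ∃ n : ℕ, (φ ^ n) x = y) : Group.IsSolvable H := by
  classical
  by_contra hns
  have hf2 : Fact (Nat.Prime 2) := ⟨Nat.prime_two⟩
  have hz : ∀ e ∈ E, ∀ x : H, x * e = e * x := fun e he x => mem_center_iff.1 (hEc he) x
  have hEn : E.Normal := ⟨fun e he g => by rw [hz e he g, mul_inv_cancel_right]; exact he⟩
  have h4 : 4 ≤ 2 ^ a := by
    calc 4 = 2 ^ 2 := by norm_num
      _ ≤ 2 ^ a := Nat.pow_le_pow_right (by norm_num) ha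
  have hp3 : 3 ≤ p := by omega
  -- `E ≤ T`
  have hE2 : IsPGroup 2 E := IsPGroup.of_card hcard
  have hET : E ≤ (T : Subgroup H) := by
    obtain ⟨P, hP⟩ := hE2.exists_le_sylow
    obtain ⟨g, hg⟩ := MulAction.exists_smul_eq H P T
    intro e he
    rw [← hg, Sylow.coe_subgroup_smul, Subgroup.mem_pointwise_smul_iff_inv_smul_mem, MulAut.smul_def,
      ← map_inv, MulAut.conj_apply, inv_inv, mul_assoc, ← hz e he g, inv_mul_cancel_left]
    exact hP he
  -- powers of `φ`
  have hφE : ∀ (g : MulAut H), ∀ x ∈ E, g x ∈ E := by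
    intro g x hx
    rw [hE, ← map_mul, (hE x).1 hx, map_one]
  have hper : ∀ x ∈ E, x ≠ 1 → ∀ n, (φ ^ n) x = x ↔ p ∣ n := fun x hx hx1 n =>
    Cfsg.Agent.H512.SuzTwo.period E hE hcard hpa φ htr hx hx1 n
  have hφTn : ∀ n : ℕ, ∀ x ∈ (T : Subgroup H), (φ ^ n) x ∈ (T : Subgroup H) := by
    intro n
    induction n with
    | zero => intro x hx; exact hx
    | succ n ih => intro x hx; rw [pow_succ, MulAut.mul_apply]; exact ih _ (hφT x hx)
  -- `T` is not abelian
  have hTnc : ¬ ∀ a ∈ (T : Subgroup H), ∀ b ∈ (T : Subgroup H), a * b = b * a := by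
    intro hTc
    obtain ⟨K, hK⟩ := exists_component hFT hO T hTc hns
    have h5 := two_dvd_card hO hK
    obtain ⟨⟨x, hxK⟩, hx⟩ := exists_prime_orderOf_dvd_card' 2 h5
    have hx1 : x ≠ 1 := by
      rintro rfl
      have : (⟨1, hxK⟩ : K) = 1 := rfl
      rw [this, orderOf_one] at hx
      exact absurd hx (by norm_num)
    have hxx : x * x = 1 := by
      have := pow_orderOf_eq_one (⟨x, hxK⟩ : K)
      rw [hx, pow_two] at this
      exact congrArg Subtype.val this
    have h6 : x ∈ K ⊓ centralizer (K : Set H) :=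
      ⟨hxK, mem_centralizer_iff.2 fun g _ => hz x ((hE x).2 hxx) g⟩
    rw [inf_centralizer hO hTc hK] at h6
    exact hx1 h6
  -- squares of elements of `T`
  have hTsq : ∀ x ∈ (T : Subgroup H), x * x ∈ E := by
    -- the restriction of `φ`
    have hmap : (T : Subgroup H).map φ.toMonoidHom = (T : Subgroup H) := by
      apply Subgroup.eq_of_le_of_card_ge
      · rintro _ ⟨x, hx, rfl⟩
        exact hφT x hx
      · rw [Subgroup.card_map_of_injective φ.injective]
    let α : MulAut (T : Subgroup H) := ((T : Subgroup H).equivMapOfInjective φ.toMonoidHom φ.injective).trans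
      (MulEquiv.subgroupCongr hmap)
    have hα1 : ∀ x : (T : Subgroup H), ((α x : (T : Subgroup H)) : H) = φ x := fun x => rfl
    have hαn : ∀ (n : ℕ) (x : (T : Subgroup H)), (((α ^ n) x : (T : Subgroup H)) : H) = (φ ^ n) x := by
      intro n
      induction n with
      | zero => intro x; rfl
      | succ n ih => intro x; rw [pow_succ, MulAut.mul_apply, ih, pow_succ, MulAut.mul_apply, hα1]
    obtain ⟨j, -, hj⟩ : ∃ j, j ≤ k ∧ orderOf α = p ^ j := by
      refine (Nat.dvd_prime_pow hp).1 (orderOf_dvd_of_pow_eq_one ?_)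
      ext x
      rw [hαn, ← hφ, pow_orderOf_eq_one]
      rfl
    have h5 := Cfsg.Agent.H512.SuzTwo.sq_mem T.isPGroup' (E.subgroupOf (T : Subgroup H))
      (by
        rintro ⟨z, hzT⟩ hzE ⟨x, hx⟩
        exact Subtype.ext (hz z hzE x))
      (by
        rintro ⟨x, hx⟩
        rw [mem_subgroupOf, hE]
        exact ⟨fun h => Subtype.ext h, fun h => congrArg Subtype.val h⟩)
      ha (by rw [Nat.card_congr (Subgroup.subgroupOfEquivOfLe hET).toEquiv, hcard]) hp hpa α hj
      (by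
        rintro ⟨x, hxT⟩ hx ⟨y, hyT⟩ hy hx1 hy1
        obtain ⟨n, hn⟩ := htr x hx y hy (fun h => hx1 (Subtype.ext h)) (fun h => hy1 (Subtype.ext h))
        exact ⟨n, Subtype.ext (by rw [hαn]; exact hn)⟩)
      (by
        by_contra hcon
        push Not at hcon
        exact hTnc fun a ha b hb => congrArg Subtype.val (hcon ⟨a, ha⟩ ⟨b, hb⟩))
    intro x hx
    exact h5 ⟨x, hx⟩
  -- the quotient
  let π : H →* H ⧸ E := QuotientGroup.mk' E
  have hπs : Function.Surjective π := QuotientGroup.mk'_surjective E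
  have hπ1 : ∀ x : H, π x = 1 ↔ x ∈ E := fun x => QuotientGroup.eq_one_iff x
  have hOX : pPrimeCore 2 (H ⧸ E) = ⊥ := by
    have h5 := Cfsg.Agent.BpLin.core_quotient_le (p := 2) hEc
    rw [hO, Subgroup.map_bot] at h5
    exact le_bot_iff.1 h5
  let S : Sylow 2 (H ⧸ E) := T.mapSurjective hπs
  have hSm : ∀ s, s ∈ (S : Subgroup (H ⧸ E)) ↔ ∃ x ∈ (T : Subgroup H), π x = s := fun s => Iff.rfl
  have hSsq : ∀ s ∈ (S : Subgroup (H ⧸ E)), s * s = 1 := by
    intro s hs
    obtain ⟨x, hx, rfl⟩ := (hSm s).1 hs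
    rw [← map_mul, hπ1]
    exact hTsq x hx
  have hSc : ∀ a ∈ (S : Subgroup (H ⧸ E)), ∀ b ∈ (S : Subgroup (H ⧸ E)), a * b = b * a := by
    intro a ha b hb
    have h1 := hSsq _ (mul_mem ha hb)
    have h2 : a⁻¹ = a := inv_eq_of_mul_eq_one_left (hSsq a ha)
    have h3 : b⁻¹ = b := inv_eq_of_mul_eq_one_left (hSsq b hb)
    have h4 : a * b = (a * b)⁻¹ := (inv_eq_of_mul_eq_one_left h1).symm
    rw [mul_inv_rev, h2, h3] at h4
    exact h4
  have hXns : ¬ Group.IsSolvable (H ⧸ E) := by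
    intro h
    apply hns
    have h6 : Group.IsNilpotent E := hE2.isNilpotent
    have h7 : Group.IsSolvable E := inferInstance
    refine Group.isSolvable_of_ker_le_range E.subtype (QuotientGroup.mk' E) ?_
    rw [QuotientGroup.ker_mk', range_subtype]
  obtain ⟨K, hK⟩ := exists_component hFT hOX S hSc hXns
  have hKs : IsSimpleGroup K := isSimpleGroup hOX hSc hK
  have hKna : ¬ IsMulCommutative K := not_comm hK
  obtain ⟨P, hP⟩ := exists_sylow S hK
  obtain ⟨x', hx'S, hx'K, hx'1⟩ : ∃ x', x' ∈ (S : Subgroup (H ⧸ E)) ∧ x' ∈ K ∧ x' ≠ 1 := by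
    have h5 := inf_ne_bot hOX S hK
    obtain ⟨⟨y, hy⟩, hy1⟩ := Subgroup.ne_bot_iff_exists_ne_one.1 h5
    exact ⟨y, hy.1, hy.2, fun h => hy1 (Subtype.ext h)⟩
  obtain ⟨x, hxT, hx⟩ := (hSm x').1 hx'S
  set e₀ := x * x with he₀
  have he₀E : e₀ ∈ E := hTsq x hxT
  have he₀1 : e₀ ≠ 1 := by
    intro h
    apply hx'1
    rw [← hx, hπ1, hE]
    exact h
  -- (1) squares of the elements of `T` over `K`
  have hsqK : ∀ y ∈ (T : Subgroup H), π y ∈ K → π y ≠ 1 → y * y = e₀ := by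
    intro y hyT hyK hy1
    obtain ⟨n, hn⟩ := fusion hKs hKna P
      (fun s hs => Subtype.ext (hSsq s.1 (by rw [hP] at hs; exact hs)))
      (v := ⟨x', hx'K⟩) (w := ⟨π y, hyK⟩)
      (by rw [hP]; exact hx'S) (fun h => hx'1 (congrArg Subtype.val h))
      (by rw [hP]; exact ⟨y, hyT, rfl⟩) (fun h => hy1 (congrArg Subtype.val h))
    have hn' : n.1 * x' * n.1⁻¹ = π y := congrArg Subtype.val hn
    obtain ⟨h, hh⟩ := hπs n.1
    rw [← hh, ← hx, ← map_inv, ← map_mul, ← map_mul] at hn'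
    have h5 : (h * x * h⁻¹)⁻¹ * y ∈ E := by
      rw [← QuotientGroup.eq]
      exact hn'
    set z := (h * x * h⁻¹)⁻¹ * y with hzdef
    have h6 : y = h * x * h⁻¹ * z := by rw [hzdef]; group
    have h7 : z * z = 1 := (hE z).1 h5
    calc y * y = (h * x * h⁻¹ * z) * (h * x * h⁻¹ * z) := by rw [← h6]
      _ = h * x * h⁻¹ * (z * (h * x * h⁻¹)) * z := by group
      _ = h * x * h⁻¹ * (h * x * h⁻¹ * z) * z := by rw [← hz z h5 (h * x * h⁻¹)]
      _ = h * (x * x) * h⁻¹ * (z * z) := by group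
      _ = e₀ := by rw [h7, mul_one, ← he₀, hz _ he₀E, mul_inv_cancel_right]
  -- the automorphism of the quotient
  have hφmap : E.map φ.toMonoidHom = E := by
    apply Subgroup.eq_of_le_of_card_ge
    · rintro _ ⟨x, hx, rfl⟩
      exact hφE φ x hx
    · rw [Subgroup.card_map_of_injective φ.injective]
  let ψ : MulAut (H ⧸ E) := QuotientGroup.congr E E φ hφmap
  have hψ : ∀ y : H, ψ (π y) = π (φ y) := fun y => rfl
  have hψn : ∀ (n : ℕ) (y : H), (ψ ^ n) (π y) = π ((φ ^ n) y) := by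
    intro n
    induction n with
    | zero => intro y; rfl
    | succ n ih => intro y; rw [pow_succ, MulAut.mul_apply, hψ, ih, pow_succ, MulAut.mul_apply]
  -- (2)
  have hstab : ∀ n : ℕ, K.map (ψ ^ n).toMonoidHom = K → p ∣ n := by
    intro n hn
    rw [← hper e₀ he₀E he₀1]
    have h5 : π ((φ ^ n) x) ∈ K := by
      rw [← hψn, ← hn]
      exact ⟨π x, by rw [hx]; exact hx'K, rfl⟩
    have h6 : π ((φ ^ n) x) ≠ 1 := by
      rw [← hψn]
      intro h
      apply hx'1
      rw [← hx]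
      exact (ψ ^ n).injective (by rw [h, map_one])
    have h7 := hsqK _ (hφTn n x hxT) h5 h6
    rw [← map_mul, ← he₀] at h7
    exact h7
  have hcomp : ∀ n : ℕ, IsComponent (K.map (ψ ^ n).toMonoidHom) := fun n => isComponent_map_equiv (ψ ^ n) hK
  have hdist : ∀ i j : ℕ, i < j → j < p → K.map (ψ ^ i).toMonoidHom ≠ K.map (ψ ^ j).toMonoidHom := by
    intro i j hij hjp h
    obtain ⟨d, rfl⟩ := Nat.exists_eq_add_of_le hij.le
    have h5 : K.map (ψ ^ d).toMonoidHom = K := by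
      have h6 : (ψ ^ (i + d)).toMonoidHom = (ψ ^ i).toMonoidHom.comp (ψ ^ d).toMonoidHom := by
        rw [pow_add]; rfl
      rw [h6, ← Subgroup.map_map] at h
      exact (Subgroup.map_injective (ψ ^ i).injective h).symm
    have h7 := Nat.le_of_dvd (by omega) (hstab d h5)
    omega
  have hcomm : ∀ A B : Subgroup (H ⧸ E), IsComponent A → IsComponent B → A ≠ B →
      ∀ u v : H, π u ∈ A → π v ∈ B → u * v = v * u := by
    intro A B hA hB hAB u v hu hv
    have h5 := Cfsg.Agent.S1270.component_comm_of_ne hA hB hAB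
    rw [commutator_eq_bot_iff_le_centralizer] at h5
    refine lift_comm hEc hA.2.1 hu ?_
    intro g hg
    exact (mem_centralizer_iff.1 (h5 hg) _ hv).symm
  -- the three elements
  set e₁ := φ e₀ with he₁
  have he₁E : e₁ ∈ E := hφE φ e₀ he₀E
  have he01 : e₀ * e₁ ≠ 1 := by
    intro h
    have h5 : e₁ = e₀ := by
      have h6 : e₀⁻¹ = e₀ := inv_eq_of_mul_eq_one_left ((hE _).1 he₀E)
      rw [← h6]
      exact (inv_eq_of_mul_eq_one_right h).symm
    have h7 := (hper e₀ he₀E he₀1 1).1 (by rw [pow_one]; exact h5)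
    exact hp.one_lt.ne' (Nat.dvd_one.1 h7)
  obtain ⟨n, hn⟩ := htr e₀ he₀E (e₀ * e₁) (E.mul_mem he₀E he₁E) he₀1 he01
  set j := n % p with hj
  have hjp : j < p := Nat.mod_lt _ hp.pos
  have hfixp : ∀ c : ℕ, (φ ^ (p * c)) e₀ = e₀ := fun c => (hper e₀ he₀E he₀1 _).2 (dvd_mul_right _ _)
  have hj2 : (φ ^ j) e₀ = e₀ * e₁ := by
    have h5 : n = j + p * (n / p) := (Nat.mod_add_div n p).symm
    rw [h5, pow_add, MulAut.mul_apply, hfixp] at hn
    exact hn
  have hj0 : j ≠ 0 := by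
    intro h
    rw [h] at hj2
    have h5 : e₀ = e₀ * e₁ := hj2
    have h6 : e₁ = 1 := left_eq_mul.1 h5
    exact he₀1 (φ.injective (by rw [map_one]; exact h6))
  have hj1 : j ≠ 1 := by
    intro h
    rw [h, pow_one] at hj2
    exact he₀1 (right_eq_mul.1 hj2)
  have hK0 : K.map (ψ ^ 0).toMonoidHom = K := by
    ext y
    constructor
    · rintro ⟨y, hy, rfl⟩
      exact hy
    · intro hy
      exact ⟨y, hy, rfl⟩
  have d01 : K ≠ K.map (ψ ^ 1).toMonoidHom := by
    have := hdist 0 1 (by omega) (by omega)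
    rwa [hK0] at this
  have d0j : K ≠ K.map (ψ ^ j).toMonoidHom := by
    have := hdist 0 j (by omega) hjp
    rwa [hK0] at this
  have d1j : K.map (ψ ^ 1).toMonoidHom ≠ K.map (ψ ^ j).toMonoidHom := hdist 1 j (by omega) hjp
  have m0 : π x ∈ K := by rw [hx]; exact hx'K
  have m1 : π ((φ ^ 1) x) ∈ K.map (ψ ^ 1).toMonoidHom := by
    rw [← hψn]; exact ⟨_, m0, rfl⟩
  have mj : π ((φ ^ j) x) ∈ K.map (ψ ^ j).toMonoidHom := by
    rw [← hψn]; exact ⟨_, m0, rfl⟩
  set x₁ := (φ ^ 1) x with hx₁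
  set x₂ := (φ ^ j) x with hx₂
  have c01 : x * x₁ = x₁ * x := hcomm _ _ hK (hcomp 1) d01 _ _ m0 m1
  have c02 : x * x₂ = x₂ * x := hcomm _ _ hK (hcomp j) d0j _ _ m0 mj
  have c12 : x₁ * x₂ = x₂ * x₁ := hcomm _ _ (hcomp 1) (hcomp j) d1j _ _ m1 mj
  have s1 : x₁ * x₁ = e₁ := by rw [hx₁, ← map_mul, pow_one, ← he₀]
  have s2 : x₂ * x₂ = e₀ * e₁ := by rw [hx₂, ← map_mul, ← he₀, hj2]
  have hsq : (x * (x₁ * x₂)) * (x * (x₁ * x₂)) = 1 := by
    have h5 : (x₁ * x₂) * x = x * (x₁ * x₂) := by rw [mul_assoc, ← c02, ← mul_assoc, ← c01, mul_assoc]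
    have h6 : x₂ * x₁ = x₁ * x₂ := c12.symm
    calc (x * (x₁ * x₂)) * (x * (x₁ * x₂)) = x * ((x₁ * x₂) * x) * (x₁ * x₂) := by group
      _ = (x * x) * (x₁ * (x₂ * x₁) * x₂) := by rw [h5]; group
      _ = (x * x) * ((x₁ * x₁) * (x₂ * x₂)) := by rw [h6]; group
      _ = e₀ * (e₁ * (e₀ * e₁)) := by rw [← he₀, s1, s2]
      _ = (e₀ * e₁) * (e₀ * e₁) := by group
      _ = 1 := (hE _).1 (E.mul_mem he₀E he₁E)
  have h5 : π x * (π x₁ * π x₂) = 1 := by
    rw [← map_mul, ← map_mul, hπ1, hE]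
    exact hsq
  have h6 : π x ∈ K ⊓ centralizer (K : Set (H ⧸ E)) := by
    refine Subgroup.mem_inf.2 ⟨m0, ?_⟩
    have h7 : π x = (π x₁ * π x₂)⁻¹ := eq_inv_of_mul_eq_one_left h5
    rw [h7]
    refine inv_mem (mul_mem ?_ ?_)
    · have h8 := Cfsg.Agent.S1270.component_comm_of_ne hK (hcomp 1) d01
      rw [commutator_eq_bot_iff_le_centralizer, le_centralizer_iff] at h8
      exact h8 m1
    · have h8 := Cfsg.Agent.S1270.component_comm_of_ne hK (hcomp j) d0j
      rw [commutator_eq_bot_iff_le_centralizer, le_centralizer_iff] at h8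
      exact h8 mj
  rw [inf_centralizer hOX hSc hK, mem_bot, hx] at h6
  exact hx'1 h6

end Cfsg.Agent.H512.CentSolv
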