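import Cfsg.Agent.H512.RGDTor
import Cfsg.Agent.H150.FarLin

/-!
# Elements of the torus commuting with (nearly) irreducible elements (for S3932)

* `exists_lift` : an element of order `r` of a projective group lifts to an element of order `r`, and elements commuting
  with it lift to commuting elements;
* `scal_full` : `X` irreducible, `A` commutes with `X` and has an eigenvector: `A` is scalar;
* `scal_frame` : `X` irreducible on `range (X - 1)`: the eigenvalues of `A` on eigenvectors moved by `X` coincide;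
* `row_full`, `row_frame` : the resulting criteria.
-/

set_option autoImplicit false
set_option linter.style.haveILetI false
set_option linter.unusedSectionVars false

namespace Cfsg.Agent.H512.SylNum

open Module Cfsg.Agent.H150

variable {F : Type*} [Field F] {V : Type*} [AddCommGroup V] [Module F V]

theorem exists_lift [Finite F] [Nontrivial V] {I K : Type*} [Group I] [Group K] (φ : I →* K)
    (hφ : Function.Surjective φ) (ρ : I →* (V ≃ₗ[F] V)) (hρ : Function.Injective ρ)
    (hker : ∀ g, φ g = 1 → ∃ c : F, ∀ v, ρ g v = c • v) {r : ℕ} (hr : r.Prime) (hr1 : ¬ r ∣ Nat.card F - 1) {x : K}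
    (hx : x ^ r = 1) : ∃ X : I, φ X = x ∧ X ^ r = 1 ∧ ∀ A : I, Commute (φ A) x → Commute A X := by
  set N := Nat.card F - 1 with hN
  have hcop : Nat.Coprime N r := ((Nat.Prime.coprime_iff_not_dvd hr).2 hr1).symm
  have hkN : ∀ g, φ g = 1 → g ^ N = 1 := by
    intro g hg
    obtain ⟨c, hc⟩ := hker g hg
    have hc0 : c ≠ 0 := by
      rintro rfl
      obtain ⟨v, hv⟩ := exists_ne (0 : V)
      have h1 := hc v
      rw [zero_smul] at h1
      exact hv ((LinearEquiv.map_eq_zero_iff (ρ g)).1 h1)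
    have hcN : c ^ N = 1 := by
      have h1 : (Units.mk0 c hc0) ^ N = 1 := by rw [hN, ← Nat.card_units, pow_card_eq_one']
      have h2 := congrArg Units.val h1
      rwa [Units.val_pow_eq_pow_val, Units.val_mk0, Units.val_one] at h2
    apply hρ
    rw [map_pow, map_one]
    apply LinearEquiv.ext
    intro v
    have key : ∀ n : ℕ, (ρ g ^ n) v = c ^ n • v := by
      intro n
      induction n with
      | zero => simp
      | succ n ih =>
        rw [pow_succ']
        show ρ g ((ρ g ^ n) v) = _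
        rw [ih, map_smul, hc, smul_smul, pow_succ]
    rw [key, hcN, one_smul]
    rfl
  have hkc : ∀ g, φ g = 1 → ∀ A, Commute g A := by
    intro g hg A
    obtain ⟨c, hc⟩ := hker g hg
    show g * A = A * g
    apply hρ
    rw [map_mul, map_mul]
    apply LinearEquiv.ext
    intro v
    show ρ g (ρ A v) = ρ A (ρ g v)
    rw [hc, hc, map_smul]
  obtain ⟨X₀, rfl⟩ := hφ x
  obtain ⟨k, hk⟩ : ∃ k, (N * k) % r = 1 % r := by
    have h1 : IsUnit ((N : ℕ) : ZMod r) := (ZMod.isUnit_iff_coprime N r).2 hcop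
    obtain ⟨u, hu⟩ := h1
    haveI : Fact r.Prime := ⟨hr⟩
    refine ⟨((u⁻¹ : (ZMod r)ˣ) : ZMod r).val, ?_⟩
    have h2 : ((N * ((u⁻¹ : (ZMod r)ˣ) : ZMod r).val : ℕ) : ZMod r) = ((1 : ℕ) : ZMod r) := by
      push_cast
      rw [ZMod.natCast_val, ZMod.cast_id', id, ← hu]
      exact mul_inv_cancel₀ u.ne_zero
    exact (ZMod.natCast_eq_natCast_iff _ _ _).1 h2
  have hX0r : φ (X₀ ^ r) = 1 := by rw [map_pow, hx]
  have hXX : (X₀ ^ (N * k)) ^ r = 1 := by
    rw [← pow_mul, mul_comm, pow_mul, pow_mul, hkN _ hX0r, one_pow]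
  have hφX : φ (X₀ ^ (N * k)) = φ X₀ := by
    rw [map_pow, ← pow_mod_orderOf]
    have h1 : orderOf (φ X₀) ∣ r := orderOf_dvd_of_pow_eq_one hx
    have h2 : (N * k) % orderOf (φ X₀) = 1 % orderOf (φ X₀) := Nat.ModEq.of_dvd h1 hk
    rw [h2, pow_mod_orderOf, pow_one]
  refine ⟨X₀ ^ (N * k), hφX, hXX, fun A hA => ?_⟩
  set X := X₀ ^ (N * k) with hX
  have hz : φ (A * X * A⁻¹ * X⁻¹) = 1 := by
    rw [map_mul, map_mul, map_mul, map_inv, map_inv, hφX]
    have h1 : φ A * φ X₀ = φ X₀ * φ A := hA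
    rw [h1]
    group
  set z := A * X * A⁻¹ * X⁻¹ with hzdef
  have h1 : A * X * A⁻¹ = z * X := by rw [hzdef]; group
  have h2 : (z * X) ^ r = z ^ r * X ^ r := (hkc z hz X).mul_pow r
  have h3 : (A * X * A⁻¹) ^ r = 1 := by rw [conj_pow, hXX, mul_one, mul_inv_cancel]
  rw [h1, h2, hXX, mul_one] at h3
  have h4 : z = 1 := by
    have h5 : orderOf z ∣ Nat.gcd N r :=
      Nat.dvd_gcd (orderOf_dvd_of_pow_eq_one (hkN z hz)) (orderOf_dvd_of_pow_eq_one h3)
    rw [hcop, Nat.dvd_one] at h5
    exact orderOf_eq_one_iff.1 h5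
  show A * X = X * A
  rw [h4, one_mul] at h1
  calc A * X = A * X * A⁻¹ * A := by group
    _ = X * A := by rw [h1]

section Scal

variable [Finite F] [FiniteDimensional F V] {r : ℕ} (hr : r.Prime) (hrF : (r : F) ≠ 0) (x A : V →ₗ[F] V)
  (hxA : Commute x A) (hx : x ^ r = 1)

include hr hrF hxA hx

/-- eigenvalues on eigenvectors moved by `x` -/
theorem scal_range (hk : finrank F (LinearMap.range (x - 1)) ≤ orderOf ((Nat.card F : ℕ) : ZMod r)) {b : V} {c : F}
    (hb : x b ≠ b) (hA : A b = c • b) : ∀ w ∈ LinearMap.range (x - 1), A w = c • w := by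
  have hxA' : ∀ v, x (A v) = A (x v) := fun v => LinearMap.congr_fun hxA.eq v
  set W := LinearMap.range (x - 1) with hW
  have hxW : ∀ w ∈ W, x w ∈ W := by
    rintro _ ⟨v, rfl⟩
    refine ⟨x v, ?_⟩
    rw [LinearMap.sub_apply, LinearMap.sub_apply, Module.End.one_apply, Module.End.one_apply, map_sub]
  -- the eigenspace in `W`
  set U : Submodule F V := LinearMap.ker (A - c • (1 : Module.End F V)) ⊓ W with hU
  have hmemU : ∀ v, v ∈ U ↔ A v = c • v ∧ v ∈ W := by
    intro v
    rw [hU, Submodule.mem_inf, LinearMap.mem_ker, LinearMap.sub_apply, LinearMap.smul_apply, Module.End.one_apply,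
      sub_eq_zero]
  have hxU : ∀ v ∈ U, x v ∈ U := by
    intro v hv
    rw [hmemU] at hv ⊢
    exact ⟨by rw [← hxA', hv.1, map_smul], hxW v hv.2⟩
  have h1 := dvd_finrank_of_fpf_submodule hr x hx U hxU
    (fun v hv h => fpf_range hrF x hx v ((hmemU v).1 hv).2 h)
  have hbU : x b - b ∈ U := by
    rw [hmemU]
    refine ⟨by rw [map_sub, ← hxA', hA, map_smul, smul_sub], ⟨b, rfl⟩⟩
  have hpos : 0 < finrank F U := by
    rw [Module.finrank_pos_iff]
    exact ⟨⟨⟨_, hbU⟩, 0, fun h => hb (sub_eq_zero.1 (congrArg Subtype.val h))⟩⟩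
  have hle : U ≤ W := inf_le_right
  have h2 : finrank F W ≤ finrank F U := hk.trans (Nat.le_of_dvd hpos h1)
  have h3 : U = W := Submodule.eq_of_le_of_finrank_le hle h2
  intro w hw
  rw [← h3] at hw
  exact ((hmemU w).1 hw).1

/-- `x` moves all vectors and is irreducible -/
theorem scal_full (hx1 : x ≠ 1) (hk : finrank F V ≤ orderOf ((Nat.card F : ℕ) : ZMod r)) {b : V} {c : F}
    (hb : b ≠ 0) (hA : A b = c • b) : ∀ w, A w = c • w := by
  set W := LinearMap.range (x - 1) with hW
  have hxW : ∀ w ∈ W, x w ∈ W := by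
    rintro _ ⟨v, rfl⟩
    refine ⟨x v, ?_⟩
    rw [LinearMap.sub_apply, LinearMap.sub_apply, Module.End.one_apply, Module.End.one_apply, map_sub]
  have hW0 : W ≠ ⊥ := by
    intro h
    rw [hW, LinearMap.range_eq_bot, sub_eq_zero] at h
    exact hx1 h
  have h1 := dvd_finrank_of_fpf_submodule hr x hx W hxW (fpf_range hrF x hx)
  have hpos : 0 < finrank F W := Nat.pos_of_ne_zero fun h => hW0 (Submodule.finrank_eq_zero.1 h)
  have htop : W = ⊤ := Submodule.eq_top_of_finrank_eq
    (le_antisymm (Submodule.finrank_le W) (hk.trans (Nat.le_of_dvd hpos h1)))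
  have hb' : x b ≠ b := fun h => hb (fpf_range hrF x hx b (by rw [← hW, htop]; trivial) h)
  intro w
  exact scal_range hr hrF x A hxA hx ((Submodule.finrank_le _).trans hk) hb' hA w (by rw [← hW, htop]; trivial)

/-- the eigenvalues on a frame -/
theorem scal_frame (hk : finrank F (LinearMap.range (x - 1)) ≤ orderOf ((Nat.card F : ℕ) : ZMod r)) {b b' : V}
    {c c' : F} (hb : x b ≠ b) (hb' : x b' ≠ b') (hA : A b = c • b) (hA' : A b' = c' • b') : c = c' := by
  have h1 := scal_range hr hrF x A hxA hx hk hb hA (x b - b) ⟨b, rfl⟩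
  have h2 := scal_range hr hrF x A hxA hx hk hb' hA' (x b - b) ⟨b, rfl⟩
  rw [h1, ← sub_eq_zero, ← sub_smul] at h2
  exact sub_eq_zero.1 ((smul_eq_zero.1 h2).resolve_right (sub_ne_zero.2 hb))

end Scal

end Cfsg.Agent.H512.SylNum
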