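import Mathlib

/-!
# Klein four-groups of transvections acting on homocyclic 2-groups of rank three

Additive computations for the exclusion of `GL(3,2)` in groups all of whose involutions lie in a normal subgroup of
order 8 (statement S3930).  `M` is a homocyclic 2-group of exponent `2 ^ (n+1)`, `v`, `u` are commuting involutory
automorphisms.
-/

set_option autoImplicit false

namespace Cfsg.Agent.H512.TransvNorm

variable {M : Type*} [AddCommGroup M]

/-- fixed points of `v` are norms up to fixed elements of order two -/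
theorem fixed_mem {n : ℕ} {v u : M →+ M} {c e : M}
    (hroot : ∀ x : M, 2 • x = 0 → ∃ y : M, 2 ^ n • y = x)
    (hv : ∀ x, v (v x) = x)
    (hN : ∀ x, x + v x + (u x + u (v x)) = 0)
    (he : 2 • e = 0) (hec : e + v e = c)
    (hfix : ∀ x, 2 • x = 0 → v x = x → u x = x → x = 0 ∨ x = c) :
    ∀ k ≤ n + 1, ∀ b, 2 ^ k • b = 0 → v b = b → ∃ x a, 2 • a = 0 ∧ v a = a ∧ b = (x + v x) + a := by
  intro k
  induction k with
  | zero =>
    intro _ b hb _
    rw [pow_zero, one_smul] at hb
    exact ⟨0, 0, by simp, by simp, by simp [hb]⟩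
  | succ k ih =>
    intro hk b hb hvb
    rcases Nat.eq_zero_or_pos k with rfl | hk0
    · refine ⟨0, b, ?_, hvb, by simp⟩
      simpa using hb
    · obtain ⟨j, rfl⟩ : ∃ j, k = j + 1 := ⟨k - 1, by omega⟩
      set d := 2 ^ j • b with hd
      have hvd : v d = d := by rw [hd, map_nsmul, hvb]
      have h2d : 2 • d = 2 ^ (j + 1) • b := by rw [hd, ← mul_smul]; congr 1; ring
      have h4d : 2 • (2 • d) = 0 := by rw [h2d, ← mul_smul, ← pow_succ', hb]
      have hNd := hN d
      rw [hvd] at hNd
      have hud : u (2 • d) = 2 • d := by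
        have h1 : 2 • d + u (2 • d) = 0 := by
          rw [two_nsmul, map_add]; exact hNd
        have h2 : u (2 • d) = -(2 • d) := by
          rw [eq_neg_iff_add_eq_zero, add_comm]; exact h1
        rw [h2, neg_eq_iff_add_eq_zero, ← two_nsmul, h4d]
      rcases hfix (2 • d) h4d (by rw [map_nsmul, hvd]) hud with h0 | h0
      · exact ih (by omega) b (by rw [← h2d, h0]) hvb
      · obtain ⟨y, hy⟩ := hroot e he
        set x0 := 2 ^ (n - (j + 1)) • y with hx0
        have hx0e : 2 ^ (j + 1) • x0 = e := by
          rw [hx0, ← mul_smul, ← pow_add, show j + 1 + (n - (j + 1)) = n by omega, hy]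
        have hr : 2 ^ (j + 1) • (x0 + v x0) = c := by
          rw [smul_add, ← map_nsmul, hx0e, hec]
        obtain ⟨x, a, ha, hva, hb'⟩ := ih (by omega) (b - (x0 + v x0)) (by
          rw [smul_sub, hr, ← h2d, h0, sub_self]) (by
          rw [map_sub, map_add, hv, hvb, add_comm x0])
        refine ⟨x + x0, a, ha, hva, ?_⟩
        rw [map_add, eq_add_of_sub_eq hb']
        abel

/-- the norm of the four-group vanishes -/
theorem norm_zero {n : ℕ} {v w r : M →+ M} {c a b : M}
    (hexp : ∀ x : M, 2 ^ (n + 1) • x = 0)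
    (hroot : ∀ x : M, 2 • x = 0 → ∃ y : M, 2 ^ n • y = x)
    (hv : ∀ x, v (v x) = x) (hw : ∀ x, w (w x) = x) (hvw : ∀ x, v (w x) = w (v x))
    (hrv : ∀ x, r (v x) = w (r x)) (hrw : ∀ x, r (w x) = v (w (r x)))
    (hsp : ∀ x, 2 • x = 0 → x = 0 ∨ x = c ∨ x = a ∨ x = a + c ∨ x = b ∨ x = b + c ∨ x = a + b ∨ x = a + b + c)
    (hfix : ∀ x, 2 • x = 0 → v x = x → w x = x → x = 0 ∨ x = c)
    (h2a : 2 • a = 0) (h2b : 2 • b = 0) (h2c : 2 • c = 0)
    (hrc : r c = c) (hra : r a = b) (hrb : r b = a + b) (hwa : w a = a + c) :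
    ∀ x, x + v x + (w x + w (v x)) = 0 := by
  set F : M →+ M := AddMonoidHom.id M + v + (w + w.comp v) with hF
  have hFx : ∀ x, F x = x + v x + (w x + w (v x)) := fun x => rfl
  have hFw : ∀ x, F (w x) = F x := by
    intro x
    rw [hFx, hFx, hvw, hw, hw]
    abel
  have hFvf : ∀ x, v (F x) = F x := by
    intro x
    rw [hFx, map_add, map_add, map_add, hv, hvw, hvw, hv]
    abel
  have hFwf : ∀ x, w (F x) = F x := by
    intro x
    rw [hFx, map_add, map_add, map_add, hw, hw]
    abel
  have hFr : ∀ x, F (r x) = r (F x) := by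
    intro x
    rw [hFx, hFx, map_add, map_add, map_add, hrv, hrw, hrw, hrv, hw]
    rw [hvw]
    abel
  have key : ∀ k ≤ n + 1, ∀ x, 2 ^ k • x = 0 → F x = 0 := by
    intro k
    induction k with
    | zero =>
      intro _ x hx
      rw [pow_zero, one_smul] at hx
      rw [hx, map_zero]
    | succ k ih =>
      intro hk x hx
      have ih' := ih (by omega)
      -- values are in {0, c}
      have hval : ∀ y, 2 ^ (k + 1) • y = 0 → F y = 0 ∨ F y = c := by
        intro y hy
        refine hfix _ ?_ (hFvf y) (hFwf y)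
        rw [← map_nsmul]
        apply ih'
        rw [← mul_smul, ← pow_succ, hy]
      -- the values depend only on the `2 ^ k`-th multiple
      have hdep : ∀ y z, 2 ^ k • y = 2 ^ k • z → F y = F z := by
        intro y z hyz
        have := ih' (y - z) (by rw [smul_sub, hyz, sub_self])
        rw [map_sub, sub_eq_zero] at this
        exact this
      -- roots
      have hrt : ∀ e : M, 2 • e = 0 → ∃ y, 2 ^ k • y = e ∧ 2 ^ (k + 1) • y = 0 := by
        intro e he
        obtain ⟨y, hy⟩ := hroot e he
        refine ⟨2 ^ (n - k) • y, ?_, ?_⟩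
        · rw [← mul_smul, ← pow_add, show k + (n - k) = n by omega, hy]
        · rw [← mul_smul, ← pow_add, show k + 1 + (n - k) = n + 1 by omega, hexp]
      obtain ⟨ya, hya, hya0⟩ := hrt a h2a
      have hyb : 2 ^ k • (r ya) = b := by rw [← map_nsmul, hya, hra]
      have hyab : 2 ^ k • (r (r ya)) = a + b := by rw [← map_nsmul, hyb, hrb]
      have hrval : ∀ y, 2 ^ (k + 1) • y = 0 → F (r y) = F y := by
        intro y hy
        rw [hFr]
        rcases hval y hy with h | h
        · rw [h, map_zero]
        · rw [h, hrc]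
      have hya1 : 2 ^ (k + 1) • (r ya) = 0 := by rw [← map_nsmul, hya0, map_zero]
      have e1 : F (r ya) = F ya := hrval _ hya0
      have e2 : F (r (r ya)) = F ya := by rw [hrval _ hya1, e1]
      have e3 : F (r (r ya)) = F ya + F (r ya) := by
        rw [← map_add]
        apply hdep
        rw [smul_add, hya, hyb, hyab]
      have e4 : F ya = 0 := by
        rw [e2, e1] at e3
        exact left_eq_add.1 e3
      have e5 : F (w ya) = 0 := by rw [hFw, e4]
      have hyac : 2 ^ k • (w ya) = a + c := by rw [← map_nsmul, hya, hwa]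
      have hyc : 2 ^ k • (ya + w ya) = c := by
        rw [smul_add, hya, hyac, ← add_assoc, ← two_nsmul, h2a, zero_add]
      have hFb : F (r ya) = 0 := by rw [e1, e4]
      -- now `x`
      have h2x : 2 • (2 ^ k • x) = 0 := by rw [← mul_smul, ← pow_succ', hx]
      rcases hsp _ h2x with h | h | h | h | h | h | h | h
      · rw [hdep x 0 (by rw [h, smul_zero]), map_zero]
      · rw [hdep x (ya + w ya) (by rw [h, hyc]), map_add, e4, e5, add_zero]
      · rw [hdep x ya (by rw [h, hya]), e4]
      · rw [hdep x (w ya) (by rw [h, hyac]), e5]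
      · rw [hdep x (r ya) (by rw [h, hyb]), hFb]
      · rw [hdep x (r ya + (ya + w ya)) (by rw [h, smul_add, hyc, hyb]), map_add, map_add, hFb, e4, e5, add_zero,
          add_zero]
      · rw [hdep x (ya + r ya) (by rw [h, smul_add, hya, hyb]), map_add, hFb, e4, add_zero]
      · rw [hdep x (ya + r ya + (ya + w ya)) (by rw [h, smul_add, smul_add, hyc, hya, hyb]), map_add, map_add,
          map_add, hFb, e4, e5, add_zero, add_zero]
  intro x
  exact key (n + 1) le_rfl x (hexp x)

end Cfsg.Agent.H512.TransvNorm
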