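import Mathlib
import Cfsg.Agent.H512.TransvNorm

/-!
# Transvections on homocyclic 2-groups of rank three: the group theoretic contradiction

`T` is an abelian subgroup of a group `G` all of whose involutions lie in `T`; `T` is homocyclic of rank three,
`w1`, `w2` normalise `T`, induce on `Ω₁(T) = ⟨c, a, b⟩` two transvections with the same centre `c`, `r` induces an element
of order three fixing `c`.  There is no such group (`false_of_homocyclic`).  Used for statement S3930.
-/

set_option autoImplicit false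
set_option linter.unusedSectionVars false

namespace Cfsg.Agent.H512.TransvGroup

open Subgroup
open scoped IsMulCommutative
open Cfsg.Agent.H512.TransvNorm

variable {G : Type*} [Group G]

/-- conjugation by an element normalising `T` -/
def act {T : Subgroup G} (g : G) (hg : ∀ t ∈ T, g * t * g⁻¹ ∈ T) [IsMulCommutative T] : Additive T →+ Additive T where
  toFun t := Additive.ofMul ⟨g * (t.toMul : T) * g⁻¹, hg _ (t.toMul).2⟩
  map_zero' := by
    apply Additive.toMul.injective
    apply Subtype.ext
    simp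
  map_add' := by
    intro s t
    apply Additive.toMul.injective
    apply Subtype.ext
    simp

/-- elements of `T` in additive form -/
def ad {T : Subgroup G} (t : G) (ht : t ∈ T) : Additive T := Additive.ofMul ⟨t, ht⟩

/-- back to the group -/
def un {T : Subgroup G} (t : Additive T) : G := ((t.toMul : T) : G)

section

variable {T : Subgroup G}

theorem un_mem (t : Additive T) : un t ∈ T := (t.toMul).2

@[simp] theorem un_ad (t : G) (ht : t ∈ T) : un (ad t ht) = t := rfl

theorem ad_un (t : Additive T) : ad (un t) (un_mem t) = t := rfl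

theorem un_inj {s t : Additive T} (h : un s = un t) : s = t :=
  Additive.toMul.injective (Subtype.ext h)

variable [IsMulCommutative T]

@[simp] theorem un_add (s t : Additive T) : un (s + t) = un s * un t := rfl

@[simp] theorem un_neg (s : Additive T) : un (-s) = (un s)⁻¹ := rfl

@[simp] theorem un_zero : un (0 : Additive T) = 1 := rfl

theorem un_nsmul (k : ℕ) (s : Additive T) : un (k • s) = un s ^ k := rfl

theorem un_act (g : G) (hg : ∀ t ∈ T, g * t * g⁻¹ ∈ T) (s : Additive T) : un (act g hg s) = g * un s * g⁻¹ := rfl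

theorem un_two (s : Additive T) : un (2 • s) = un s * un s := by rw [two_nsmul, un_add]

theorem comm_T {x y : G} (hx : x ∈ T) (hy : y ∈ T) : x * y = y * x := setLike_mul_comm hx hy

end

section

variable {T : Subgroup G} [IsMulCommutative T]

/-- the square of an element inducing a transvection -/
theorem sq_form {n : ℕ} {w : G} (hw : ∀ t ∈ T, w * t * w⁻¹ ∈ T) (hww : w * w ∈ T) (hwT : w ∉ T)
    (hinv : ∀ g : G, g * g = 1 → g ∈ T) {u : Additive T →+ Additive T} {c e : Additive T}
    (hexp : ∀ x : Additive T, 2 ^ (n + 1) • x = 0)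
    (hroot : ∀ x : Additive T, 2 • x = 0 → ∃ y : Additive T, 2 ^ n • y = x)
    (hN : ∀ x, x + act w hw x + (u x + u (act w hw x)) = 0)
    (he : 2 • e = 0) (hec : e + act w hw e = c) (h2c : 2 • c = 0)
    (hfix : ∀ x, 2 • x = 0 → act w hw x = x → u x = x → x = 0 ∨ x = c) :
    ∃ x d : Additive T, 2 • d = 0 ∧ act w hw d = d ∧ d ≠ 0 ∧ d ≠ c ∧ ad (w * w) hww = (x + act w hw x) + d := by
  have hvv : ∀ x, act w hw (act w hw x) = x := by
    intro x
    apply un_inj
    rw [un_act, un_act]
    have h1 := comm_T hww (un_mem x)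
    calc w * (w * un x * w⁻¹) * w⁻¹ = (w * w * un x) * (w⁻¹ * w⁻¹) := by group
      _ = (un x * (w * w)) * (w⁻¹ * w⁻¹) := by rw [h1]
      _ = un x := by group
  have hfx : act w hw (ad (w * w) hww) = ad (w * w) hww := by
    apply un_inj
    rw [un_act, un_ad]
    group
  obtain ⟨x, d, h2d, hd, hx⟩ := fixed_mem (M := Additive T) hroot hvv hN he hec hfix (n + 1) le_rfl
    (ad (w * w) hww) (hexp _) hfx
  have hsq : ∀ y : Additive T, (un y * w) * (un y * w) = un (y + act w hw y + ad (w * w) hww) := by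
    intro y
    rw [un_add, un_add, un_act, un_ad]
    group
  have hno : ∀ y : Additive T, y + act w hw y + ad (w * w) hww ≠ 0 := by
    intro y hy
    have h1 := hsq y
    rw [hy, un_zero] at h1
    have h2 := hinv _ h1
    exact hwT ((mul_mem_cancel_left (un_mem y)).1 h2)
  refine ⟨x, d, h2d, hd, ?_, ?_, hx⟩
  · rintro rfl
    apply hno (-x)
    rw [hx, map_neg]
    abel
  · rintro rfl
    apply hno (e - x)
    rw [hx, map_sub]
    have : e - x + (act w hw e - act w hw x) + (x + act w hw x + d) = (e + act w hw e) + d := by abel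
    rw [this, hec, ← two_nsmul, h2c]

/-- the relation between the squares of `w1`, `w2` and `w1 w2` -/
theorem sq_rel {w1 w2 : G} (n1 : ∀ t ∈ T, w1 * t * w1⁻¹ ∈ T) (n2 : ∀ t ∈ T, w2 * t * w2⁻¹ ∈ T)
    (s1 : w1 * w1 ∈ T) (s2 : w2 * w2 ∈ T) (s3 : w1 * w2 * (w1 * w2) ∈ T) :
    (ad _ s3 + act w1 n1 (ad _ s3) : Additive T) =
      (ad _ s1 + act w2 n2 (ad _ s1)) + (ad _ s2 + act w1 n1 (ad _ s2)) := by
  set σ : Additive T := ad _ s3 - ad _ s2 - ad _ s1 with hσ
  have hun : un σ = w1 * w2 * (w1 * w2) * (w2 * w2)⁻¹ * (w1 * w1)⁻¹ := by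
    rw [hσ, sub_eq_add_neg, sub_eq_add_neg]
    rfl
  have h1 : act w1 n1 σ + σ + ad _ s1 = act w2 n2 (ad _ s1) := by
    apply un_inj
    rw [un_add, un_add, un_act, un_act, un_ad]
    have h2 : w1 * un σ * w1⁻¹ = w1⁻¹ * un σ * w1 := by
      have h3 := comm_T s1 (un_mem σ)
      calc w1 * un σ * w1⁻¹ = w1⁻¹ * (w1 * w1 * un σ) * w1⁻¹ := by group
        _ = w1⁻¹ * (un σ * (w1 * w1)) * w1⁻¹ := by rw [h3]
        _ = w1⁻¹ * un σ * w1 := by group
    rw [h2, hun]
    group
  have h2 : act w1 n1 σ = act w1 n1 (ad _ s3) - act w1 n1 (ad _ s2) - act w1 n1 (ad _ s1) := by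
    rw [hσ, map_sub, map_sub]
  have h3 : act w1 n1 (ad _ s1) = (ad _ s1 : Additive T) := by
    apply un_inj
    rw [un_act, un_ad]
    group
  rw [← h1, h2, h3, hσ]
  abel

/-- **the contradiction** -/
theorem false_of_homocyclic {n : ℕ} {w1 w2 r : G} (n1 : ∀ t ∈ T, w1 * t * w1⁻¹ ∈ T)
    (n2 : ∀ t ∈ T, w2 * t * w2⁻¹ ∈ T) (nr : ∀ t ∈ T, r * t * r⁻¹ ∈ T)
    (s1 : w1 * w1 ∈ T) (s2 : w2 * w2 ∈ T) (s3 : w1 * w2 * (w1 * w2) ∈ T)
    (hinv : ∀ g : G, g * g = 1 → g ∈ T) {c a b : Additive T}
    (hexp : ∀ x : Additive T, 2 ^ (n + 1) • x = 0)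
    (hroot : ∀ x : Additive T, 2 • x = 0 → ∃ y : Additive T, 2 ^ n • y = x)
    (hsp : ∀ x : Additive T, 2 • x = 0 →
      x = 0 ∨ x = c ∨ x = a ∨ x = a + c ∨ x = b ∨ x = b + c ∨ x = a + b ∨ x = a + b + c)
    (h2a : 2 • a = 0) (h2b : 2 • b = 0) (h2c : 2 • c = 0) (hc0 : c ≠ 0)
    (vc : act w1 n1 c = c) (va : act w1 n1 a = a) (vb : act w1 n1 b = b + c)
    (wc : act w2 n2 c = c) (wa : act w2 n2 a = a + c) (wb : act w2 n2 b = b)
    (rc : act r nr c = c) (ra : act r nr a = b) (rb : act r nr b = a + b)
    (hr1 : ∀ x, act r nr (act w1 n1 x) = act w2 n2 (act r nr x))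
    (hr2 : ∀ x, act r nr (act w2 n2 x) = act w1 n1 (act w2 n2 (act r nr x))) : False := by
  have hsqT : ∀ {w : G} (hw : ∀ t ∈ T, w * t * w⁻¹ ∈ T), w * w ∈ T → ∀ x : Additive T, act w hw (act w hw x) = x := by
    intro w hw hww x
    apply un_inj
    rw [un_act, un_act]
    have h1 := comm_T hww (un_mem x)
    calc w * (w * un x * w⁻¹) * w⁻¹ = (w * w * un x) * (w⁻¹ * w⁻¹) := by group
      _ = (un x * (w * w)) * (w⁻¹ * w⁻¹) := by rw [h1]
      _ = un x := by group
  set v := act w1 n1 with hv
  set w := act w2 n2 with hw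
  have hvv : ∀ x, v (v x) = x := hsqT n1 s1
  have hww : ∀ x, w (w x) = x := hsqT n2 s2
  have n3 : ∀ t ∈ T, w1 * w2 * t * (w1 * w2)⁻¹ ∈ T := by
    intro t ht
    have := n1 _ (n2 t ht)
    have e : w1 * (w2 * t * w2⁻¹) * w1⁻¹ = w1 * w2 * t * (w1 * w2)⁻¹ := by group
    rwa [e] at this
  have hu : ∀ x, act (w1 * w2) n3 x = v (w x) := by
    intro x
    apply un_inj
    rw [hv, hw, un_act, un_act, un_act]
    group
  have huu : ∀ x, v (w (v (w x))) = x := by
    intro x
    rw [← hu (v (w x)), ← hu x]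
    exact hsqT n3 s3 x
  have hvw : ∀ x, v (w x) = w (v x) := by
    intro x
    have h1 := huu (v x)
    -- v w v w v x = v x
    have h2 : w (v (w (v x))) = x := by
      have := congrArg v h1
      rwa [hvv, hvv] at this
    have h3 : v (w (v x)) = w x := by
      have := congrArg w h2
      rwa [hww] at this
    have h4 := congrArg v h3
    rw [hvv] at h4
    exact h4.symm
  -- order two facts
  have ne1 : ∀ x : Additive T, x ≠ x + c := fun x hx => hc0 (left_eq_add.1 hx)
  have cc : c + c = 0 := by rw [← two_nsmul]; exact h2c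
  have hfix : ∀ x, 2 • x = 0 → v x = x → w x = x → x = 0 ∨ x = c := by
    intro x hx h1 h2
    rcases hsp x hx with h | h | h | h | h | h | h | h
    · exact Or.inl h
    · exact Or.inr h
    · rw [h, wa] at h2; exact absurd h2.symm (ne1 _)
    · rw [h, map_add, wa, wc] at h2
      exact absurd h2.symm (ne1 _)
    · rw [h, vb] at h1; exact absurd h1.symm (ne1 _)
    · rw [h, map_add, vb, vc] at h1
      exact absurd h1.symm (ne1 _)
    · rw [h, map_add, va, vb, ← add_assoc] at h1
      exact absurd h1.symm (ne1 _)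
    · rw [h, map_add, map_add, va, vb, vc, ← add_assoc] at h1
      exact absurd h1.symm (ne1 _)
  have hN := norm_zero (M := Additive T) hexp hroot hvv hww hvw hr1 hr2 hsp hfix h2a h2b h2c rc ra rb wa
  have hw1 : w1 ∉ T := by
    intro h
    have h1 : un (v b) = un b := by
      rw [hv, un_act, comm_T h (un_mem b)]
      group
    have := un_inj h1
    rw [vb] at this
    exact ne1 _ this.symm
  have hw2 : w2 ∉ T := by
    intro h
    have h1 : un (w a) = un a := by
      rw [hw, un_act, comm_T h (un_mem a)]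
      group
    have := un_inj h1
    rw [wa] at this
    exact ne1 _ this.symm
  have hva : v (w a) = a + c := by rw [wa, map_add, va, vc]
  have hw3 : w1 * w2 ∉ T := by
    intro h
    have h1 : un (act (w1 * w2) n3 a) = un a := by
      rw [un_act, comm_T h (un_mem a)]
      group
    have := un_inj h1
    rw [hu, hva] at this
    exact ne1 _ this.symm
  obtain ⟨x1, d1, h21, f1, z1, c1, e1⟩ := sq_form n1 s1 hw1 hinv (u := w) (c := c) (e := b) hexp hroot hN h2b
    (by rw [vb, ← add_assoc, ← two_nsmul, h2b, zero_add]) h2c hfix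
  obtain ⟨x2, d2, h22, f2, z2, c2, e2⟩ := sq_form n2 s2 hw2 hinv (u := v) (c := c) (e := a) hexp hroot
    (fun x => by
      change x + w x + (v x + v (w x)) = 0
      rw [hvw, ← hN x]; abel) h2a
    (by rw [wa, ← add_assoc, ← two_nsmul, h2a, zero_add]) h2c (fun x hx h1 h2 => hfix x hx h2 h1)
  obtain ⟨x3, d3, h23, f3, z3, c3, e3⟩ := sq_form n3 s3 hw3 hinv (u := v) (c := c) (e := a) hexp hroot
    (fun x => by
      rw [hu, hvv, ← hN x, hvw]; abel) h2a
    (by rw [hu, hva, ← add_assoc, ← two_nsmul, h2a, zero_add]) h2c (fun x hx h1 h2 => hfix x hx h2 (by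
      rw [hu] at h1
      have := congrArg v h1
      rw [hvv, h2] at this
      exact this))
  rw [hu] at f3 e3
  -- the values
  have hd1 : d1 + w d1 = c := by
    rcases hsp d1 h21 with h | h | h | h | h | h | h | h
    · exact absurd h z1
    · exact absurd h c1
    · rw [h, wa, ← add_assoc, ← two_nsmul, h2a, zero_add]
    · rw [h, map_add, wa, wc]
      have : a + c + (a + c + c) = (a + a) + ((c + c) + c) := by abel
      rw [this, cc, ← two_nsmul, h2a, zero_add, zero_add]
    · rw [h] at f1
      exact absurd (f1.symm.trans vb) (ne1 _)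
    · rw [h, map_add] at f1
      change v b + v c = b + c at f1
      rw [vb, vc] at f1
      exact absurd f1.symm (ne1 _)
    · rw [h, map_add] at f1
      change v a + v b = a + b at f1
      rw [va, vb, ← add_assoc] at f1
      exact absurd f1.symm (ne1 _)
    · rw [h, map_add, map_add] at f1
      change v a + v b + v c = a + b + c at f1
      rw [va, vb, vc, ← add_assoc] at f1
      exact absurd f1.symm (ne1 _)
  have hd2 : d2 + v d2 = c := by
    rcases hsp d2 h22 with h | h | h | h | h | h | h | h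
    · exact absurd h z2
    · exact absurd h c2
    · rw [h] at f2
      exact absurd (f2.symm.trans wa) (ne1 _)
    · rw [h, map_add] at f2
      change w a + w c = a + c at f2
      rw [wa, wc] at f2
      exact absurd f2.symm (ne1 _)
    · rw [h, vb, ← add_assoc, ← two_nsmul, h2b, zero_add]
    · rw [h, map_add, vb, vc]
      have : b + c + (b + c + c) = (b + b) + ((c + c) + c) := by abel
      rw [this, cc, ← two_nsmul, h2b, zero_add, zero_add]
    · rw [h, map_add] at f2
      change w a + w b = a + b at f2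
      rw [wa, wb] at f2
      have e : a + c + b = a + b + c := by abel
      rw [e] at f2
      exact absurd f2.symm (ne1 _)
    · rw [h, map_add, map_add] at f2
      change w a + w b + w c = a + b + c at f2
      rw [wa, wb, wc] at f2
      have e : a + c + b + c = (a + b + c) + c := by abel
      rw [e] at f2
      exact absurd f2.symm (ne1 _)
  have hd3 : d3 + v d3 = c := by
    rcases hsp d3 h23 with h | h | h | h | h | h | h | h
    · exact absurd h z3
    · exact absurd h c3
    · rw [h, hva] at f3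
      exact absurd f3.symm (ne1 _)
    · rw [h, map_add, map_add, hva, wc, vc] at f3
      exact absurd f3.symm (ne1 _)
    · rw [h, wb, vb] at f3
      exact absurd f3.symm (ne1 _)
    · rw [h, map_add, map_add, wb, vb, wc, vc] at f3
      exact absurd f3.symm (ne1 _)
    · rw [h, map_add, va, vb]
      have : a + b + (a + (b + c)) = (a + a) + ((b + b) + c) := by abel
      rw [this, ← two_nsmul, ← two_nsmul, h2a, h2b, zero_add, zero_add]
    · rw [h, map_add, map_add, va, vb, vc]
      have : a + b + c + (a + (b + c) + c) = (a + a) + ((b + b) + ((c + c) + c)) := by abel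
      rw [this, ← two_nsmul, ← two_nsmul, h2a, h2b, cc, zero_add, zero_add, zero_add]
  have hrel := sq_rel n1 n2 s1 s2 s3
  rw [e1, e2, e3] at hrel
  change (x3 + v (w x3) + d3 + v (x3 + v (w x3) + d3)) =
    (x1 + v x1 + d1 + w (x1 + v x1 + d1)) + (x2 + w x2 + d2 + v (x2 + w x2 + d2)) at hrel
  simp only [map_add, hvv] at hrel
  have t3 : x3 + v (w x3) + d3 + (v x3 + w x3 + v d3) = (x3 + v x3 + (w x3 + w (v x3))) + (d3 + v d3) := by
    rw [hvw]; abel
  have t1 : x1 + v x1 + d1 + (w x1 + w (v x1) + w d1) = (x1 + v x1 + (w x1 + w (v x1))) + (d1 + w d1) := by abel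
  have t2 : x2 + w x2 + d2 + (v x2 + v (w x2) + v d2) = (x2 + v x2 + (w x2 + w (v x2))) + (d2 + v d2) := by
    rw [hvw]; abel
  rw [t3, t1, t2, hN, hN, hN, hd1, hd2, hd3, zero_add, cc] at hrel
  exact hc0 hrel

end

end Cfsg.Agent.H512.TransvGroup
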