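import Mathlib
import Cfsg.Agent.H512.TransvGroup
import Cfsg.Agent.RankThreeON.AbelMain
import Cfsg.Agent.RankThreeON.Elems
import Cfsg.Agent.RankThreeON.FrameTwo

/-!
# No group induces `GL(3,2)` on a normal subgroup of order 8 containing all its involutions

For statement S3930: `G` is finite, `E` is a normal subgroup of order 8 which contains all elements of order two; then
`G` does not induce all automorphisms on `E` (`not_full`).
-/

set_option autoImplicit false
set_option linter.style.haveILetI false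

namespace Cfsg.Agent.H512.NoFull

open Subgroup Cfsg.Agent.StdL2
open Cfsg.Agent.RankThreeON.Setup Cfsg.Agent.RankThreeON.Pencil Cfsg.Agent.RankThreeON.EndL
open Cfsg.Agent.RankThreeON.FrameTwo
open Cfsg.Agent.H512.TransvGroup
open scoped IsMulCommutative

variable {G : Type*} [Group G]

/-- an element of `N` acting trivially on `A` acts trivially on `T` -/
theorem cent_T [Finite G] {A T N : Subgroup G} (h : FH A T N) (hcomm : ∀ x ∈ T, ∀ y ∈ T, x * y = y * x) {g : G}
    (hg : g ∈ N) (hgA : ∀ a ∈ A, g * a * g⁻¹ = a) : ∀ x ∈ T, g * x * g⁻¹ = x := by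
  have hf2 : Fact (Nat.Prime 2) := ⟨Nat.prime_two⟩
  obtain ⟨k, m, hm, hord⟩ := Nat.exists_eq_two_pow_mul_odd (n := orderOf g) (orderOf_pos g).ne'
  -- powers
  have hpowA : ∀ i : ℕ, ∀ a ∈ A, g ^ i * a * (g ^ i)⁻¹ = a := by
    intro i
    induction i with
    | zero => intro a _; simp
    | succ i ih =>
      intro a ha
      have : g ^ (i + 1) * a * (g ^ (i + 1))⁻¹ = g * (g ^ i * a * (g ^ i)⁻¹) * g⁻¹ := by
        rw [pow_succ']; group
      rw [this, ih a ha, hgA a ha]
  have hgm : g ^ m ∈ T := by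
    have hz : IsPGroup 2 (zpowers (g ^ m)) := by
      rintro ⟨y, j, rfl⟩
      refine ⟨k, ?_⟩
      apply Subtype.ext
      change ((g ^ m) ^ j) ^ 2 ^ k = 1
      rw [← zpow_natCast, zpow_comm, zpow_natCast, ← pow_mul, mul_comm m, ← hord, pow_orderOf_eq_one, one_zpow]
    exact h.mem_T hz (by rw [zpowers_le]; exact N.pow_mem hg m) (mem_zpowers _) (hpowA m)
  have hgmT : ∀ x ∈ T, g ^ m * x * (g ^ m)⁻¹ = x := by
    intro x hx
    rw [hcomm _ hgm _ hx, mul_inv_cancel_right]
  have key : ∀ j : ℕ, ∀ x ∈ T, x ^ 2 ^ j = 1 → g * x * g⁻¹ = x := by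
    intro j
    induction j with
    | zero =>
      intro x _ hx
      rw [pow_zero, pow_one] at hx
      rw [hx]; simp
    | succ j ih =>
      intro x hx hxj
      have h1 : g * (x * x) * g⁻¹ = x * x := by
        refine ih _ (T.mul_mem hx hx) ?_
        rw [← pow_two, ← pow_mul, ← pow_succ', hxj]
      have hgx : g * x * g⁻¹ ∈ T := h.NTm hg hx
      set δ := g * x * g⁻¹ * x⁻¹ with hδ
      have hδT : δ ∈ T := T.mul_mem hgx (T.inv_mem hx)
      have hδδ : δ * δ = 1 := by
        have h2 : x⁻¹ * (g * x * g⁻¹) = (g * x * g⁻¹) * x⁻¹ := hcomm _ (T.inv_mem hx) _ hgx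
        calc δ * δ = (g * x * g⁻¹) * (x⁻¹ * (g * x * g⁻¹)) * x⁻¹ := by rw [hδ]; group
          _ = (g * x * g⁻¹) * ((g * x * g⁻¹) * x⁻¹) * x⁻¹ := by rw [h2]
          _ = (g * (x * x) * g⁻¹) * (x⁻¹ * x⁻¹) := by group
          _ = 1 := by rw [h1]; group
      have hδA : δ ∈ A := h.om δ hδT hδδ
      have hgδ : g * x * g⁻¹ = δ * x := by rw [hδ]; group
      have hpow : ∀ i : ℕ, g ^ i * x * (g ^ i)⁻¹ = δ ^ i * x := by
        intro i
        induction i with
        | zero => simp
        | succ i ih2 =>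
          have e1 : g ^ (i + 1) * x * (g ^ (i + 1))⁻¹ = g * (g ^ i * x * (g ^ i)⁻¹) * g⁻¹ := by
            rw [pow_succ']; group
          have e2 : g * (δ ^ i * x) * g⁻¹ = (g * δ ^ i * g⁻¹) * (g * x * g⁻¹) := by group
          rw [e1, ih2, e2, hgA _ (A.pow_mem hδA i), hgδ, ← mul_assoc, ← pow_succ]
      have h3 := hpow m
      rw [hgmT x hx] at h3
      have h4 : δ ^ m = 1 := by
        have := h3.symm
        exact mul_eq_right.1 this
      have h5 : δ = 1 := by
        obtain ⟨i, hi⟩ := hm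
        rw [hi, pow_succ, pow_mul, pow_two, hδδ, one_pow, one_mul] at h4
        exact h4
      rw [hgδ, h5, one_mul]
  intro x hx
  obtain ⟨j, hj⟩ := h.pT ⟨x, hx⟩
  exact key j x hx (congrArg Subtype.val hj)

/-- elements of `N` with the same action on `A` have the same action on `T` -/
theorem same_T [Finite G] {A T N : Subgroup G} (h : FH A T N) (hcomm : ∀ x ∈ T, ∀ y ∈ T, x * y = y * x) {g k : G}
    (hg : g ∈ N) (hk : k ∈ N) (hgk : ∀ a ∈ A, g * a * g⁻¹ = k * a * k⁻¹) : ∀ x ∈ T, g * x * g⁻¹ = k * x * k⁻¹ := by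
  intro x hx
  have h1 := cent_T h hcomm (N.mul_mem (N.inv_mem k_mem') hg) (fun a ha => by
    have := hgk a ha
    calc k⁻¹ * g * a * (k⁻¹ * g)⁻¹ = k⁻¹ * (g * a * g⁻¹) * k := by group
      _ = a := by rw [this]; group) x hx
  calc g * x * g⁻¹ = k * (k⁻¹ * g * x * (k⁻¹ * g)⁻¹) * k⁻¹ := by group
    _ = k * x * k⁻¹ := by rw [h1]
where k_mem' := hk

/-- the element of order 3: `c ↦ c`, `a ↦ b ↦ a + b` -/
def eR : F ≃+ F where
  toFun f := (f.1, f.2.2, f.2.1 + f.2.2)
  invFun f := (f.1, f.2.1 + f.2.2, f.2.1)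
  left_inv := by intro v; revert v; decide
  right_inv := by intro v; revert v; decide
  map_add' := by intro v w; revert v w; decide

theorem false_of_FH [Finite G] {A T N : Subgroup G} (h : FH A T N) (hinv : ∀ g : G, g * g = 1 → g ∈ A) : False := by
  obtain ⟨hcomm, n, hcard, hexp, hroot⟩ := h.main
  obtain ⟨e, l, c⟩ := exists_crd h.oct
  obtain ⟨s, t, t', k, E⟩ := h.exists_els c
  obtain ⟨r, hr, hrσ⟩ := h.exists_ind c eR
  haveI : IsMulCommutative T := ⟨⟨fun x y => Subtype.ext (hcomm x x.2 y y.2)⟩⟩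
  have he : ∀ f, e f ∈ T := fun f => h.AT (c.mem f)
  have n1 : ∀ x ∈ T, s * x * s⁻¹ ∈ T := fun x hx => h.NTm E.sN hx
  have n2 : ∀ x ∈ T, t * x * t⁻¹ ∈ T := fun x hx => h.NTm E.tN hx
  have nr : ∀ x ∈ T, r * x * r⁻¹ ∈ T := fun x hx => h.NTm hr hx
  have s3 : s * t * (s * t) ∈ T := by
    have h1 : s * t * (s * t) = ((s * t) * (t * s)⁻¹) * (t * (s * s) * t⁻¹) * (t * t) := by group
    rw [h1]
    exact T.mul_mem (T.mul_mem E.st (n2 _ E.ss)) E.tt
  have hadd : ∀ f g : F, (ad (e (f + g)) (he _) : Additive T) = ad (e f) (he f) + ad (e g) (he g) := by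
    intro f g
    apply un_inj
    rw [un_ad, un_add, un_ad, un_ad, c.add]
  have hact : ∀ {g : G} (hg : ∀ x ∈ T, g * x * g⁻¹ ∈ T) {σ : F → F} (_ : ∀ f, g * e f * g⁻¹ = e (σ f)) (f : F),
      act g hg (ad (e f) (he f)) = ad (e (σ f)) (he _) := by
    intro g hg σ hσ f
    apply un_inj
    rw [un_act, un_ad, un_ad, hσ]
  have h2e : ∀ f, 2 • (ad (e f) (he f) : Additive T) = 0 := by
    intro f
    apply un_inj
    rw [un_two, un_ad, h.oct.sq _ (c.mem f), un_zero]
  have had : ∀ x : Additive T, 2 • x = 0 → ∃ f, x = ad (e f) (he f) := by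
    intro x hx
    have h1 : un x ∈ A := h.om _ (un_mem x) (by rw [← un_two, hx, un_zero])
    refine ⟨l (un x), ?_⟩
    apply un_inj
    rw [un_ad, c.el _ h1]
  refine false_of_homocyclic (n := n) n1 n2 nr E.ss E.tt s3 (fun g hg => h.AT (hinv g hg))
    (c := ad (e (1, 0, 0)) (he _)) (a := ad (e (0, 1, 0)) (he _)) (b := ad (e (0, 0, 1)) (he _))
    ?_ ?_ ?_ (h2e _) (h2e _) (h2e _) ?_ ?_ ?_ ?_ ?_ ?_ ?_ ?_ ?_ ?_ ?_ ?_
  · intro x
    apply un_inj
    rw [un_nsmul, hexp _ (un_mem x), un_zero]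
  · intro x hx
    have h1 : un x ∈ A := h.om _ (un_mem x) (by rw [← un_two, hx, un_zero])
    obtain ⟨m, hm, hmx⟩ := hroot _ h1
    refine ⟨ad m hm, ?_⟩
    apply un_inj
    rw [un_nsmul, un_ad, hmx]
  · intro x hx
    obtain ⟨f, rfl⟩ := had x hx
    have hcases : ∀ f : F, f = 0 ∨ f = (1, 0, 0) ∨ f = (0, 1, 0) ∨ f = (0, 1, 0) + (1, 0, 0) ∨ f = (0, 0, 1) ∨
        f = (0, 0, 1) + (1, 0, 0) ∨ f = (0, 1, 0) + (0, 0, 1) ∨ f = (0, 1, 0) + (0, 0, 1) + (1, 0, 0) := by decide
    rcases hcases f with rfl | rfl | rfl | rfl | rfl | rfl | rfl | rfl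
    · left
      apply un_inj
      rw [un_ad, c.e0, un_zero]
    · right; left; rfl
    · right; right; left; rfl
    · right; right; right; left; exact hadd _ _
    · right; right; right; right; left; rfl
    · right; right; right; right; right; left; exact hadd _ _
    · right; right; right; right; right; right; left; exact hadd _ _
    · right; right; right; right; right; right; right
      rw [hadd, hadd]
  · intro h0
    have h1 := congrArg un h0
    rw [un_ad, un_zero] at h1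
    exact c.e_ne (by decide) h1
  · exact hact n1 E.s_act _
  · exact hact n1 E.s_act _
  · exact (hact n1 E.s_act _).trans (hadd (0, 0, 1) (1, 0, 0))
  · exact hact n2 E.t_act _
  · exact (hact n2 E.t_act _).trans (hadd (0, 1, 0) (1, 0, 0))
  · exact hact n2 E.t_act _
  · exact hact nr hrσ _
  · exact hact nr hrσ _
  · exact (hact nr hrσ _).trans (hadd (0, 1, 0) (0, 0, 1))
  · intro x
    apply un_inj
    rw [un_act, un_act, un_act, un_act]
    have h1 := same_T h hcomm (N.mul_mem hr E.sN) (N.mul_mem E.tN hr) (fun a ha => by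
      rw [← c.el a ha, FH.act_mul hrσ E.s_act, FH.act_mul E.t_act hrσ]
      have hd : ∀ f : F, eR (mS f) = mT (eR f) := by decide
      rw [hd]) (un x) (un_mem x)
    calc r * (s * un x * s⁻¹) * r⁻¹ = r * s * un x * (r * s)⁻¹ := by group
      _ = t * r * un x * (t * r)⁻¹ := h1
      _ = t * (r * un x * r⁻¹) * t⁻¹ := by group
  · intro x
    apply un_inj
    rw [un_act, un_act, un_act, un_act, un_act]
    have h1 := same_T h hcomm (N.mul_mem hr E.tN) (N.mul_mem E.sN (N.mul_mem E.tN hr)) (fun a ha => by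
      rw [← c.el a ha, FH.act_mul hrσ E.t_act, FH.act_mul E.s_act (FH.act_mul E.t_act hrσ)]
      have hd : ∀ f : F, eR (mT f) = mS (mT (eR f)) := by decide
      rw [hd]) (un x) (un_mem x)
    calc r * (t * un x * t⁻¹) * r⁻¹ = r * t * un x * (r * t)⁻¹ := by group
      _ = s * (t * r) * un x * (s * (t * r))⁻¹ := h1
      _ = s * (t * (r * un x * r⁻¹) * t⁻¹) * s⁻¹ := by group

/-- **the exclusion of `GL(3,2)`** -/
theorem not_full [Finite G] (E : Subgroup G) (hEn : E.Normal) (hE8 : Nat.card E = 8)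
    (hE : ∀ x ∈ E, x * x = 1) (hinv : ∀ x : G, x * x = 1 → x ∈ E)
    (hfull : ∀ φ : MulAut E, ∃ g : G, ∀ v : E, g * (v : G) * g⁻¹ = φ v) : False := by
  have hf2 : Fact (Nat.Prime 2) := ⟨Nat.prime_two⟩
  have oct : G23Aut.Oct E := ⟨hE8, hE⟩
  have hnorm : normalizer (E : Set G) = ⊤ := normalizer_eq_top_iff.2 hEn
  obtain ⟨Q⟩ : Nonempty (Sylow 2 G) := inferInstance
  have hE2 : IsPGroup 2 E := IsPGroup.of_card (n := 3) (by rw [hE8]; norm_num)
  have hEQ : E ≤ (Q : Subgroup G) := by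
    have h1 := hE2.to_sup_of_normal_left Q.2
    have h2 : E ⊔ (Q : Subgroup G) = Q := Q.is_maximal' h1 le_sup_right
    rw [← h2]
    exact le_sup_left
  have hfull' : G23Aut.Full (⊤ : Subgroup G) E := fun φ => by
    obtain ⟨g, hg⟩ := hfull φ
    exact ⟨g, trivial, hg⟩
  have himg : G23Aut.img (⊤ : Subgroup G) E = ⊤ := (G23Aut.full_iff (by rw [hnorm])).1 hfull'
  have hcard := G23Aut.card_img_mul (K := (⊤ : Subgroup G)) (V := E) (by rw [hnorm])
  rw [himg, top_inf_eq, Subgroup.card_top, Subgroup.card_top, oct.card_aut] at hcard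
  have hidx : (centralizer (E : Set G)).index = 168 := by
    have h1 := (centralizer (E : Set G)).card_mul_index
    rw [← hcard, mul_comm] at h1
    exact Nat.eq_of_mul_eq_mul_right Nat.card_pos h1
  have hQ : HypQ (Q : Subgroup G) E :=
    { rank := ?_
      oct := oct
      AQ := hEQ
      pQ := Q.2
      norm := by rw [hnorm]; exact le_top
      odd := ?_
      seven := ?_ }
  · have hnc : ¬ (Q : Subgroup G) ≤ centralizer (E : Set G) := by
      intro hle
      have h1 : (centralizer (E : Set G)).index ∣ (Q : Subgroup G).index := Subgroup.index_dvd_of_le hle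
      rw [hidx] at h1
      exact Q.not_dvd_index ((by norm_num : 2 ∣ 168).trans h1)
    exact false_of_FH (hQ.fh hnc) hinv
  · intro B hB hB2
    have hle : B ≤ E := fun b hb => hinv b (by rw [← pow_two]; exact hB2 b hb)
    have h1 := Subgroup.card_le_of_le hle
    rw [hE8] at h1
    simpa using h1
  · rw [hnorm, relIndex_top_right]
    exact Q.not_dvd_index
  · rw [hnorm, relIndex_top_right, hidx]
    norm_num

end Cfsg.Agent.H512.NoFull
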