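import Mathlib
import Cfsg.Agent.H512.NoFull

/-!
# Reduction of the exclusion of `GL(n,2)`, `n` odd, to `n = 3`

For statement S3930: `G` is finite, `E` is a normal elementary abelian subgroup of order `2 ^ (2 k + 3)` which contains
all elements of order two; then `G` does not induce all automorphisms on `E` (`not_full_odd`).  An element `ρ` of order 3
of `GL(n,2)` with a fixed space of dimension 3 is lifted to a 3-subgroup `R` of `G`, and `N_G(R)` induces `GL(3,2)` on
`C_E(R)`.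
-/

set_option autoImplicit false
set_option linter.style.haveILetI false

namespace Cfsg.Agent.H512.NoFullOdd

open Subgroup

/-- the coordinate space -/
abbrev W (k : ℕ) := (Fin 3 → ZMod 2) × (Fin k → ZMod 2 × ZMod 2)

/-- coordinates on an elementary abelian group -/
structure Co {G : Type*} [Group G] (k : ℕ) (E : Subgroup G) (e : W k → G) (l : G → W k) : Prop where
  mem : ∀ f, e f ∈ E
  el : ∀ a ∈ E, e (l a) = a
  le : ∀ f, l (e f) = f
  add : ∀ f g, e (f + g) = e f * e g

theorem exists_co {G : Type*} [Group G] [Finite G] (k : ℕ) (E : Subgroup G) (hE : ∀ x ∈ E, x * x = 1)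
    (hcard : Nat.card E = 2 ^ (2 * k + 3)) : ∃ (e : W k → G) (l : G → W k), Co k E e l := by
  classical
  haveI : Fact (Nat.Prime 2) := ⟨Nat.prime_two⟩
  have hsq : ∀ v : E, v * v = 1 := fun v => Subtype.ext (hE v v.2)
  letI : CommGroup E :=
    { (inferInstance : Group E) with mul_comm := Cfsg.Agent.StdL2.G23Aut.comm_of_sq hsq }
  letI : Module (ZMod 2) (Additive E) := AddCommGroup.zmodModule (n := 2) (fun x => by
    rw [two_nsmul]
    exact hsq (Additive.toMul x))
  haveI : Finite (Additive E) := inferInstanceAs (Finite E)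
  have h1 : Module.finrank (ZMod 2) (Additive E) = 2 * k + 3 := by
    have h2 := Module.natCard_eq_pow_finrank (K := ZMod 2) (V := Additive E)
    rw [Nat.card_zmod] at h2
    have h3 : Nat.card (Additive E) = 2 ^ (2 * k + 3) := hcard
    rw [h3] at h2
    exact (Nat.pow_right_injective le_rfl h2).symm
  have h2 : Module.finrank (ZMod 2) (W k) = 2 * k + 3 := by
    simp [W, Module.finrank_prod, Module.finrank_pi_fintype]
    ring
  let L : Additive E ≃ₗ[ZMod 2] W k := LinearEquiv.ofFinrankEq _ _ (h1.trans h2.symm)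
  refine ⟨fun f => ((Additive.toMul (L.symm f) : E) : G), fun g => if hg : g ∈ E then L (Additive.ofMul ⟨g, hg⟩) else 0,
    ?_, ?_, ?_, ?_⟩
  · intro f
    exact (Additive.toMul (L.symm f) : E).2
  · intro a ha
    rw [dif_pos ha, LinearEquiv.symm_apply_apply]
    rfl
  · intro f
    rw [dif_pos (Additive.toMul (L.symm f) : E).2]
    exact L.apply_symm_apply f
  · intro f g
    rw [map_add]
    rfl

namespace Co

variable {G : Type*} [Group G] {k : ℕ} {E : Subgroup G} {e : W k → G} {l : G → W k}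

theorem e0 (c : Co k E e l) : e 0 = 1 := by
  have h := c.add 0 0
  rw [add_zero] at h
  exact left_eq_mul.1 h

theorem inj (c : Co k E e l) {x y : W k} (h : e x = e y) : x = y := by rw [← c.le x, h, c.le]

theorem ladd (c : Co k E e l) {x y : G} (hx : x ∈ E) (hy : y ∈ E) : l (x * y) = l x + l y := by
  have h1 : x * y = e (l x + l y) := by rw [c.add, c.el x hx, c.el y hy]
  rw [h1, c.le]

/-- every automorphism of the coordinates is induced -/
theorem exists_ind (c : Co k E e l) (hfull : ∀ φ : MulAut E, ∃ g : G, ∀ v : E, g * (v : G) * g⁻¹ = φ v)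
    (σ : W k ≃+ W k) : ∃ n : G, ∀ f, n * e f * n⁻¹ = e (σ f) := by
  let φ : MulAut E :=
    { toFun := fun a => ⟨e (σ (l a)), c.mem _⟩
      invFun := fun a => ⟨e (σ.symm (l a)), c.mem _⟩
      left_inv := fun a => by
        apply Subtype.ext
        change e (σ.symm (l (e (σ (l a))))) = a
        rw [c.le, AddEquiv.symm_apply_apply, c.el _ a.2]
      right_inv := fun a => by
        apply Subtype.ext
        change e (σ (l (e (σ.symm (l a))))) = a
        rw [c.le, AddEquiv.apply_symm_apply, c.el _ a.2]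
      map_mul' := fun a b => by
        apply Subtype.ext
        change e (σ (l (a * b))) = e (σ (l a)) * e (σ (l b))
        rw [c.ladd a.2 b.2, map_add, c.add] }
  obtain ⟨n, hv⟩ := hfull φ
  refine ⟨n, fun f => ?_⟩
  have h1 := hv ⟨e f, c.mem f⟩
  rw [h1]
  change e (σ (l (e f))) = e (σ f)
  rw [c.le]

end Co

/-- conjugacy of Sylow subgroups of a subgroup -/
theorem exists_conj_le {G : Type*} [Group G] [Finite G] {p : ℕ} (hp : p.Prime) {C P Q : Subgroup G}
    (hP2 : IsPGroup p P) (hidx : ¬ p ∣ P.relIndex C) (hQ : Q ≤ C) (hQ2 : IsPGroup p Q) :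
    ∃ c ∈ C, ∀ x ∈ Q, c * x * c⁻¹ ∈ P := by
  have hf : Fact p.Prime := ⟨hp⟩
  have h1 : IsPGroup p (P.subgroupOf C) := hP2.comap_subtype
  have h2 : IsPGroup p (Q.subgroupOf C) := hQ2.comap_subtype
  obtain ⟨R, hR⟩ := h2.exists_le_sylow
  obtain ⟨c, hc⟩ := MulAction.exists_smul_eq C R (h1.toSylow hidx)
  refine ⟨c, c.2, fun x hx => ?_⟩
  have h3 : (⟨x, hQ hx⟩ : C) ∈ (R : Subgroup C) := hR (mem_subgroupOf.2 hx)
  have h4 : c * ⟨x, hQ hx⟩ * c⁻¹ ∈ ((c • R : Sylow p C) : Subgroup C) := by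
    have : c * ⟨x, hQ hx⟩ * c⁻¹ = (MulAut.conj c) • (⟨x, hQ hx⟩ : C) := rfl
    rw [this]
    exact Subgroup.smul_mem_pointwise_smul _ _ _ h3
  rw [hc] at h4
  exact mem_subgroupOf.1 h4

/-- the element of order three of the second factor -/
def tau (v : ZMod 2 × ZMod 2) : ZMod 2 × ZMod 2 := (v.2, v.1 + v.2)

theorem tau3 : ∀ v, tau (tau (tau v)) = v := by decide
theorem tau_fix : ∀ v, tau v = v → v = 0 := by decide
theorem tau2_fix : ∀ v, tau (tau v) = v → v = 0 := by decide
theorem tau_add : ∀ v w, tau (v + w) = tau v + tau w := by decide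
theorem tau_zero : tau 0 = 0 := by decide

/-- `ρ` -/
def rho (k : ℕ) : W k ≃+ W k where
  toFun f := (f.1, fun i => tau (f.2 i))
  invFun f := (f.1, fun i => tau (tau (f.2 i)))
  left_inv := by
    intro f
    ext i <;> simp [tau3]
  right_inv := by
    intro f
    ext i <;> simp [tau3]
  map_add' := by
    intro f g
    ext i <;> simp [tau_add]

theorem rho3 (k : ℕ) (f : W k) : rho k (rho k (rho k f)) = f := by
  ext i <;> simp [rho, tau3]

/-- an automorphism of the first factor -/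
def ext1 (k : ℕ) (α : (Fin 3 → ZMod 2) ≃+ (Fin 3 → ZMod 2)) : W k ≃+ W k where
  toFun f := (α f.1, f.2)
  invFun f := (α.symm f.1, f.2)
  left_inv := by intro f; simp
  right_inv := by intro f; simp
  map_add' := by intro f g; simp

theorem ext1_rho (k : ℕ) (α : (Fin 3 → ZMod 2) ≃+ (Fin 3 → ZMod 2)) (f : W k) :
    ext1 k α (rho k f) = rho k (ext1 k α f) := rfl

section

variable {G : Type*} [Group G] {k : ℕ} {E : Subgroup G} {e : W k → G} {l : G → W k}

/-- the elements acting as a power of `ρ` -/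
def K0 (_c : Co k E e l) : Subgroup G where
  carrier := {g | (∀ f, g * e f * g⁻¹ = e f) ∨ (∀ f, g * e f * g⁻¹ = e (rho k f)) ∨
    (∀ f, g * e f * g⁻¹ = e (rho k (rho k f)))}
  one_mem' := Or.inl (fun f => by simp)
  mul_mem' := by
    have key : ∀ {g h : G} {σ τ υ : W k → W k}, (∀ f, g * e f * g⁻¹ = e (σ f)) → (∀ f, h * e f * h⁻¹ = e (τ f)) →
        (∀ f, σ (τ f) = υ f) → ∀ f, g * h * e f * (g * h)⁻¹ = e (υ f) := by
      intro g h σ τ υ hg hh hu f
      have : g * h * e f * (g * h)⁻¹ = g * (h * e f * h⁻¹) * g⁻¹ := by group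
      rw [this, hh, hg, hu]
    rintro g h (hg | hg | hg) (hh | hh | hh)
    · exact Or.inl (key hg hh fun _ => rfl)
    · exact Or.inr (Or.inl (key hg hh fun _ => rfl))
    · exact Or.inr (Or.inr (key hg hh fun _ => rfl))
    · exact Or.inr (Or.inl (key hg hh fun _ => rfl))
    · exact Or.inr (Or.inr (key hg hh fun _ => rfl))
    · exact Or.inl (key hg hh fun f => rho3 k f)
    · exact Or.inr (Or.inr (key hg hh fun _ => rfl))
    · exact Or.inl (key hg hh fun f => rho3 k f)
    · exact Or.inr (Or.inl (key hg hh fun f => rho3 k (rho k f)))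
  inv_mem' := by
    have key : ∀ {g : G} {σ τ : W k → W k}, (∀ f, g * e f * g⁻¹ = e (σ f)) → (∀ f, σ (τ f) = f) →
        ∀ f, g⁻¹ * e f * g⁻¹⁻¹ = e (τ f) := by
      intro g σ τ hg hs f
      have := hg (τ f)
      rw [hs] at this
      rw [← this]; group
    rintro g (hg | hg | hg)
    · exact Or.inl (key hg fun _ => rfl)
    · exact Or.inr (Or.inr (key hg fun f => rho3 k f))
    · exact Or.inr (Or.inl (key hg fun f => rho3 k f))

theorem K0_fix (c : Co k E e l) {g : G} (hg : g ∈ K0 c) (u : Fin 3 → ZMod 2) : g * e (u, 0) * g⁻¹ = e (u, 0) := by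
  have h1 : rho k (u, 0) = (u, 0) := by
    ext i <;> simp [rho, tau_zero]
  rcases hg with hg | hg | hg
  · exact hg _
  · rw [hg, h1]
  · rw [hg, h1, h1]

end

/-- **the exclusion of `GL(n,2)`, `n ≥ 3` odd** -/
theorem not_full_odd {G : Type*} [Group G] [Finite G] (k : ℕ) (E : Subgroup G) (hcard : Nat.card E = 2 ^ (2 * k + 3))
    (hE : ∀ x ∈ E, x * x = 1) (hinv : ∀ x : G, x * x = 1 → x ∈ E)
    (hfull : ∀ φ : MulAut E, ∃ g : G, ∀ v : E, g * (v : G) * g⁻¹ = φ v) : False := by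
  have hf3 : Fact (Nat.Prime 3) := ⟨Nat.prime_three⟩
  obtain ⟨e, l, c⟩ := exists_co k E hE hcard
  obtain ⟨g0, hg0⟩ := c.exists_ind hfull (rho k)
  -- a 3-element
  obtain ⟨a, m, hm, hord⟩ : ∃ a m, ¬ 3 ∣ m ∧ orderOf g0 = 3 ^ a * m := by
    obtain ⟨a, m, hm, h⟩ := Nat.exists_eq_pow_mul_and_not_dvd (n := orderOf g0) (orderOf_pos g0).ne' 3 (by norm_num)
    exact ⟨a, m, hm, h⟩
  set g := g0 ^ m with hg
  have hg3 : g ^ 3 ^ a = 1 := by rw [hg, ← pow_mul, mul_comm m, ← hord, pow_orderOf_eq_one]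
  have hpow : ∀ j : ℕ, ∀ f, g0 ^ (3 * j) * e f * (g0 ^ (3 * j))⁻¹ = e f := by
    intro j
    induction j with
    | zero => intro f; simp
    | succ j ih =>
      intro f
      have h2 : g0 ^ (3 * (j + 1)) * e f * (g0 ^ (3 * (j + 1)))⁻¹ =
          g0 ^ (3 * j) * (g0 * (g0 * (g0 * e f * g0⁻¹) * g0⁻¹) * g0⁻¹) * (g0 ^ (3 * j))⁻¹ := by
        rw [mul_add, pow_add, mul_one, pow_succ g0 2, pow_two]; group
      rw [h2, hg0, hg0, hg0, rho3, ih]
  have hgact : (∀ f, g * e f * g⁻¹ = e (rho k f)) ∨ (∀ f, g * e f * g⁻¹ = e (rho k (rho k f))) := by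
    have hm3 : m % 3 = 1 ∨ m % 3 = 2 := by omega
    rcases hm3 with h | h
    · left
      intro f
      obtain ⟨j, hj⟩ : ∃ j, m = 3 * j + 1 := ⟨m / 3, by omega⟩
      rw [hg, hj, pow_succ]
      have : g0 ^ (3 * j) * g0 * e f * (g0 ^ (3 * j) * g0)⁻¹ = g0 ^ (3 * j) * (g0 * e f * g0⁻¹) * (g0 ^ (3 * j))⁻¹ := by
        group
      rw [this, hg0, hpow]
    · right
      intro f
      obtain ⟨j, hj⟩ : ∃ j, m = 3 * j + 2 := ⟨m / 3, by omega⟩
      rw [hg, hj, pow_add, pow_two]
      have : g0 ^ (3 * j) * (g0 * g0) * e f * (g0 ^ (3 * j) * (g0 * g0))⁻¹ =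
          g0 ^ (3 * j) * (g0 * (g0 * e f * g0⁻¹) * g0⁻¹) * (g0 ^ (3 * j))⁻¹ := by
        group
      rw [this, hg0, hg0, hpow]
  have hgK : g ∈ K0 c := by
    rcases hgact with h | h
    · exact Or.inr (Or.inl h)
    · exact Or.inr (Or.inr h)
  -- a Sylow 3-subgroup of `K0` containing `g`
  have hz3 : IsPGroup 3 (zpowers (⟨g, hgK⟩ : K0 c)) := by
    rintro ⟨y, j, rfl⟩
    refine ⟨a, ?_⟩
    apply Subtype.ext
    apply Subtype.ext
    change ((g ^ j) ^ 3 ^ a) = 1
    rw [← zpow_natCast, zpow_comm, zpow_natCast, hg3, one_zpow]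
  obtain ⟨R0, hR0⟩ := hz3.exists_le_sylow
  set R : Subgroup G := (R0 : Subgroup (K0 c)).map (K0 c).subtype with hR
  have hRK : R ≤ K0 c := Subgroup.map_subtype_le _
  have hR3 : IsPGroup 3 R := R0.2.map _
  have hRidx : ¬ 3 ∣ R.relIndex (K0 c) := by
    have h1 : R.subgroupOf (K0 c) = R0 := Subgroup.comap_map_eq_self_of_injective (K0 c).subtype_injective _
    rw [Subgroup.relIndex, h1]
    exact R0.not_dvd_index
  have hgR : g ∈ R := ⟨⟨g, hgK⟩, hR0 (mem_zpowers _), rfl⟩
  -- elements of `N(R)` of order two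
  have hE2 : IsPGroup 2 E := IsPGroup.of_card hcard
  have hdisj : Disjoint E R := IsPGroup.disjoint_of_ne 2 3 (by norm_num) _ _ hE2 hR3
  have hEn : ∀ h : G, ∀ x ∈ E, h * x * h⁻¹ ∈ E := by
    intro h x hx
    apply hinv
    have : h * x * h⁻¹ * (h * x * h⁻¹) = h * (x * x) * h⁻¹ := by group
    rw [this, hE x hx, mul_one, mul_inv_cancel]
  have hfixE : ∀ x ∈ E, x ∈ normalizer (R : Set G) → ∃ u : Fin 3 → ZMod 2, x = e (u, 0) := by
    intro x hx hxn
    have h1 : x * g * x⁻¹ * g⁻¹ ∈ R := R.mul_mem ((mem_normalizer_iff.1 hxn g).1 hgR) (R.inv_mem hgR)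
    have h2 : x * g * x⁻¹ * g⁻¹ ∈ E := by
      have : x * g * x⁻¹ * g⁻¹ = x * (g * x⁻¹ * g⁻¹) := by group
      rw [this]
      exact E.mul_mem hx (hEn g _ (E.inv_mem hx))
    have h3 : x * g * x⁻¹ * g⁻¹ = 1 := (Subgroup.disjoint_def.1 hdisj) h2 h1
    have h4 : g * x * g⁻¹ = x := by
      have h5 : x * g = g * x := by
        calc x * g = (x * g * x⁻¹ * g⁻¹) * (g * x) := by group
          _ = g * x := by rw [h3, one_mul]
      rw [← h5]; group
    have h5 : (l x).2 = 0 := by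
      rw [← c.el x hx] at h4
      rcases hgact with h | h
      · rw [h] at h4
        have h6 := c.inj h4
        funext i
        have h7 := congrFun (congrArg Prod.snd h6) i
        exact tau_fix _ h7
      · rw [h] at h4
        have h6 := c.inj h4
        funext i
        have h7 := congrFun (congrArg Prod.snd h6) i
        exact tau2_fix _ h7
    refine ⟨(l x).1, ?_⟩
    have : ((l x).1, 0) = l x := by rw [← h5]
    rw [this, c.el x hx]
  have hmemN : ∀ u : Fin 3 → ZMod 2, e (u, 0) ∈ normalizer (R : Set G) := by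
    intro u
    have hcom : ∀ x ∈ R, e (u, 0) * x * (e (u, 0))⁻¹ = x := by
      intro x hx
      have := K0_fix c (hRK hx) u
      have h1 : x * e (u, 0) = e (u, 0) * x := mul_inv_eq_iff_eq_mul.1 this
      rw [← h1]; group
    rw [mem_normalizer_iff]
    intro x
    constructor
    · intro hx
      rw [hcom x hx]; exact hx
    · intro hx
      have h1 := hcom _ hx
      have h2 : e (u, 0) * (e (u, 0) * x * (e (u, 0))⁻¹) * (e (u, 0))⁻¹ =
          (e (u, 0) * e (u, 0)) * x * (e (u, 0) * e (u, 0))⁻¹ := by group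
      rw [h2, hE _ (c.mem _), one_mul, inv_one, mul_one] at h1
      rw [← h1] at hx
      exact hx
  -- the subgroup
  let H : Subgroup G := normalizer (R : Set G)
  let E0 : Subgroup G :=
    { carrier := {x | ∃ u : Fin 3 → ZMod 2, x = e (u, 0)}
      one_mem' := ⟨0, c.e0.symm⟩
      mul_mem' := by
        rintro _ _ ⟨u, rfl⟩ ⟨v, rfl⟩
        refine ⟨u + v, ?_⟩
        rw [← c.add]
        congr 1
      inv_mem' := by
        rintro _ ⟨u, rfl⟩
        refine ⟨u, inv_eq_of_mul_eq_one_left (hE _ (c.mem _))⟩ }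
  have hE0E : E0 ≤ E := by
    rintro _ ⟨u, rfl⟩
    exact c.mem _
  have hE0H : E0 ≤ H := by
    rintro _ ⟨u, rfl⟩
    exact hmemN u
  have hE0card : Nat.card E0 = 8 := by
    let q : (Fin 3 → ZMod 2) ≃ E0 :=
      Equiv.ofBijective (fun u => ⟨e (u, 0), u, rfl⟩) ⟨by
        intro u v huv
        have h1 : e (u, 0) = e (v, 0) := congrArg Subtype.val huv
        exact congrArg Prod.fst (c.inj h1), by
        rintro ⟨_, u, rfl⟩
        exact ⟨u, rfl⟩⟩
    rw [← Nat.card_congr q]
    simp [Nat.card_eq_fintype_card, ZMod.card]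
  have hinvH : ∀ x : H, x * x = 1 → x ∈ E0.subgroupOf H := by
    intro x hx
    have h1 : (x : G) * x = 1 := congrArg Subtype.val hx
    rw [mem_subgroupOf]
    exact hfixE _ (hinv _ h1) x.2
  have hsqH : ∀ x ∈ E0.subgroupOf H, x * x = 1 := by
    intro x hx
    apply Subtype.ext
    exact hE _ (hE0E (mem_subgroupOf.1 hx))
  have hnorm : (E0.subgroupOf H).Normal := by
    refine ⟨fun x hx h => hinvH _ ?_⟩
    have : h * x * h⁻¹ * (h * x * h⁻¹) = h * (x * x) * h⁻¹ := by group
    rw [this, hsqH x hx, mul_one, mul_inv_cancel]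
  have hcard0 : Nat.card (E0.subgroupOf H) = 8 := by
    rw [Nat.card_congr (subgroupOfEquivOfLe hE0H).toEquiv, hE0card]
  refine Cfsg.Agent.H512.NoFull.not_full (G := H) (E0.subgroupOf H) hnorm hcard0 hsqH hinvH ?_
  intro φ
  -- the automorphism of the coordinates
  have hfst : ∀ x : E0.subgroupOf H, ((x : H) : G) = e ((l ((x : H) : G)).1, 0) := by
    intro x
    obtain ⟨u, hu⟩ := mem_subgroupOf.1 x.2
    have hu' : ((x : H) : G) = e (u, 0) := hu
    rw [hu', c.le]
  let pt : (Fin 3 → ZMod 2) → E0.subgroupOf H := fun u => ⟨⟨e (u, 0), hmemN u⟩, mem_subgroupOf.2 ⟨u, rfl⟩⟩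
  have hpt : ∀ x : E0.subgroupOf H, pt (l ((x : H) : G)).1 = x := by
    intro x
    apply Subtype.ext
    apply Subtype.ext
    exact (hfst x).symm
  have hlpt : ∀ u, (l ((pt u : H) : G)).1 = u := by
    intro u
    change (l (e (u, 0))).1 = u
    rw [c.le]
  have hptadd : ∀ u v, pt (u + v) = pt u * pt v := by
    intro u v
    apply Subtype.ext
    apply Subtype.ext
    change e (u + v, 0) = e (u, 0) * e (v, 0)
    rw [← c.add]
    congr 1
  have hladd : ∀ x y : E0.subgroupOf H, (l ((x * y : E0.subgroupOf H) : H)).1 = (l ((x : H) : G)).1 + (l ((y : H) : G)).1 := by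
    intro x y
    have h1 : x * y = pt ((l ((x : H) : G)).1 + (l ((y : H) : G)).1) := by rw [hptadd, hpt, hpt]
    rw [h1, hlpt]
  let α : (Fin 3 → ZMod 2) ≃+ (Fin 3 → ZMod 2) :=
    { toFun := fun u => (l ((φ (pt u) : H) : G)).1
      invFun := fun u => (l ((φ.symm (pt u) : H) : G)).1
      left_inv := fun u => by
        change (l ((φ.symm (pt (l ((φ (pt u) : H) : G)).1) : H) : G)).1 = u
        rw [hpt, MulEquiv.symm_apply_apply, hlpt]
      right_inv := fun u => by
        change (l ((φ (pt (l ((φ.symm (pt u) : H) : G)).1) : H) : G)).1 = u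
        rw [hpt, MulEquiv.apply_symm_apply, hlpt]
      map_add' := fun u v => by
        change (l ((φ (pt (u + v)) : H) : G)).1 = _
        rw [hptadd, map_mul, hladd] }
  obtain ⟨n, hn⟩ := c.exists_ind hfull (ext1 k α)
  have hni : ∀ f, n⁻¹ * e f * n = e ((ext1 k α).symm f) := by
    intro f
    have h1 := hn ((ext1 k α).symm f)
    rw [AddEquiv.apply_symm_apply] at h1
    rw [← h1]; group
  have hnK : ∀ x ∈ K0 c, n * x * n⁻¹ ∈ K0 c := by
    have key : ∀ (x : G) (σ : W k → W k), (∀ f, x * e f * x⁻¹ = e (σ f)) → (∀ f, ext1 k α (σ f) = σ (ext1 k α f)) →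
        ∀ f, n * x * n⁻¹ * e f * (n * x * n⁻¹)⁻¹ = e (σ f) := by
      intro x σ hx hc f
      have : n * x * n⁻¹ * e f * (n * x * n⁻¹)⁻¹ = n * (x * (n⁻¹ * e f * n) * x⁻¹) * n⁻¹ := by group
      rw [this, hni, hx, hn, hc, AddEquiv.apply_symm_apply]
    rintro x (hx | hx | hx)
    · exact Or.inl (key x _ hx fun _ => rfl)
    · exact Or.inr (Or.inl (key x _ hx fun _ => rfl))
    · exact Or.inr (Or.inr (key x _ hx fun _ => rfl))
  obtain ⟨d, hd, hdR⟩ := exists_conj_le Nat.prime_three (C := K0 c) (P := R) (Q := R.map (MulAut.conj n).toMonoidHom)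
    hR3 hRidx (by
      rintro _ ⟨x, hx, rfl⟩
      exact hnK x (hRK hx)) (hR3.map _)
  have hdn : ∀ x ∈ R, (d * n) * x * (d * n)⁻¹ ∈ R := by
    intro x hx
    have h1 := hdR _ (Subgroup.mem_map_of_mem (MulAut.conj n).toMonoidHom hx)
    have h2 : d * ((MulAut.conj n).toMonoidHom x) * d⁻¹ = (d * n) * x * (d * n)⁻¹ := by
      change d * (n * x * n⁻¹) * d⁻¹ = _
      group
    rwa [h2] at h1
  have hdnN : d * n ∈ normalizer (R : Set G) := by
    have h3 : R.map (MulAut.conj (d * n)).toMonoidHom = R := by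
      apply eq_of_le_of_card_ge
      · rintro _ ⟨x, hx, rfl⟩
        exact hdn x hx
      · exact (Nat.card_congr (R.equivMapOfInjective _ (MulAut.conj (d * n)).injective).toEquiv).le
    rw [mem_normalizer_iff]
    intro x
    refine ⟨hdn x, fun hx => ?_⟩
    have hx' : d * n * x * (d * n)⁻¹ ∈ R.map (MulAut.conj (d * n)).toMonoidHom := by rw [h3]; exact hx
    obtain ⟨y, hy, hyx⟩ := hx'
    have h4 : d * n * y * (d * n)⁻¹ = d * n * x * (d * n)⁻¹ := hyx
    rw [← mul_left_cancel (mul_right_cancel h4)]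
    exact hy
  refine ⟨⟨d * n, hdnN⟩, fun v => ?_⟩
  apply Subtype.ext
  change d * n * ((v : H) : G) * (d * n)⁻¹ = ((φ v : H) : G)
  have h1 : d * n * ((v : H) : G) * (d * n)⁻¹ = d * (n * ((v : H) : G) * n⁻¹) * d⁻¹ := by group
  have h2 : ext1 k α ((l ((v : H) : G)).1, 0) = ((l ((φ v : H) : G)).1, 0) := by
    change (α (l ((v : H) : G)).1, (0 : Fin k → ZMod 2 × ZMod 2)) = _
    change ((l ((φ (pt (l ((v : H) : G)).1) : H) : G)).1, (0 : Fin k → ZMod 2 × ZMod 2)) = _
    rw [hpt]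
  rw [h1, hfst v, hn, h2, K0_fix c hd, ← hfst (φ v)]

end Cfsg.Agent.H512.NoFullOdd
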