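import Mathlib
import Cfsg.Agent.H535.MersFinal
import Cfsg.Agent.H512.NoFullOdd

/-!
# Groups all of whose involutions form, with 1, an elementary abelian subgroup of order `2 ^ a`, `2 ^ a - 1` prime

For statement S3930: if all elements of order two of the finite group `G` lie in the elementary abelian group `E` of
order `2 ^ a`, `2 ^ a - 1` prime, and `G` is transitive on `E \ 1`, then `G / C_G(E)` is solvable (`range_solvable`,
`solvable_of_centralizer`).
-/

set_option autoImplicit false
set_option linter.style.haveILetI false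

universe u

namespace Cfsg.Agent.H512.Mersenne

open Subgroup

theorem solvable_of_prime_card {X : Type*} [Group X] {p : ℕ} (hp : p.Prime) (h : Nat.card X = p) :
    Group.IsSolvable X := by
  haveI : Fact p.Prime := ⟨hp⟩
  haveI : IsCyclic X := isCyclic_of_prime_card h
  letI : CommGroup X := IsCyclic.commGroup
  infer_instance

theorem solvable_of_cyclic {X : Type*} [Group X] [IsCyclic X] : Group.IsSolvable X := by
  letI : CommGroup X := IsCyclic.commGroup
  infer_instance

theorem solvable_of_card_six {X : Type*} [Group X] (h : Nat.card X = 6) : Group.IsSolvable X := by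
  haveI : Finite X := Nat.finite_of_card_ne_zero (by rw [h]; norm_num)
  haveI : Fact (Nat.Prime 3) := ⟨Nat.prime_three⟩
  obtain ⟨P⟩ : Nonempty (Sylow 3 X) := inferInstance
  have h1 : Nat.card P = 3 := by
    rw [P.card_eq_multiplicity, h]
    have : Nat.factorization 6 3 = 1 := by
      rw [show 6 = 2 * 3 from rfl, Nat.factorization_mul (by norm_num) (by norm_num)]
      simp [Nat.Prime.factorization Nat.prime_two, Nat.Prime.factorization Nat.prime_three]
    rw [this, pow_one]
  have h2 : (P : Subgroup X).index = 2 := by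
    have := (P : Subgroup X).card_mul_index
    rw [h] at this
    have h1' : Nat.card (P : Subgroup X) = 3 := h1
    rw [h1'] at this
    omega
  haveI : (P : Subgroup X).Normal := Subgroup.normal_of_index_eq_two h2
  rw [Group.isSolvable_iff_subgroup_quotient (P : Subgroup X)]
  exact ⟨solvable_of_prime_card Nat.prime_three h1, solvable_of_prime_card Nat.prime_two h2⟩

theorem range_solvable (known : ∀ (X : Type u) [Group X] [Finite X] [IsSimpleGroup X], Cfsg.IsKnownSimple' X)
    {G : Type u} [Group G] [Finite G] (E : Subgroup G) [E.Normal] (a : ℕ)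
    (hcard : Nat.card E = 2 ^ a) (hp : (2 ^ a - 1).Prime) (hinv : ∀ x : G, x * x = 1 → x ∈ E)
    (hE : ∀ x ∈ E, x * x = 1)
    (htr : ∀ x ∈ E, ∀ y ∈ E, x ≠ 1 → y ≠ 1 → ∃ g : G, g * x * g⁻¹ = y) :
    Group.IsSolvable (MulAut.conjNormal : G →* MulAut E).range := by
  classical
  haveI : Fact (Nat.Prime 2) := ⟨Nat.prime_two⟩
  have hsq : ∀ v : E, v * v = 1 := fun v => Subtype.ext (hE v v.2)
  have hap : a.Prime := Nat.Prime.of_mersenne hp
  letI : CommGroup E :=
    { (inferInstance : Group E) with mul_comm := Cfsg.Agent.StdL2.G23Aut.comm_of_sq hsq }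
  letI : Module (ZMod 2) (Additive E) := AddCommGroup.zmodModule (n := 2) (fun x => by
    rw [two_nsmul]
    exact hsq (Additive.toMul x))
  haveI : Finite (Additive E) := inferInstanceAs (Finite E)
  have hfr : Module.finrank (ZMod 2) (Additive E) = a := by
    have h2 := Module.natCard_eq_pow_finrank (K := ZMod 2) (V := Additive E)
    rw [Nat.card_zmod] at h2
    have h3 : Nat.card (Additive E) = 2 ^ a := hcard
    rw [h3] at h2
    exact (Nat.pow_right_injective le_rfl h2).symm
  let Θ : MulAut E ≃* (Additive E ≃ₗ[ZMod 2] Additive E) := Cfsg.Agent.Lib.ElemAbGL.mulAutEquivLinear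
  let f : G →* MulAut E := MulAut.conjNormal
  let H : Subgroup (Additive E ≃ₗ[ZMod 2] Additive E) := f.range.map Θ.toMonoidHom
  have hfH : Nonempty (f.range ≃* H) := ⟨f.range.equivMapOfInjective _ Θ.injective⟩
  obtain ⟨eH⟩ := hfH
  suffices hH : Group.IsSolvable H from Group.isSolvable_of_isSolvable_injective (f := eH.toMonoidHom) eH.injective
  have htrans : ∀ v w : Additive E, v ≠ 0 → w ≠ 0 → ∃ h ∈ H, h v = w := by
    intro v w hv hw
    obtain ⟨g, hg⟩ := htr (Additive.toMul v : E) (Additive.toMul v : E).2 (Additive.toMul w : E)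
      (Additive.toMul w : E).2
      (fun h => hv (by
        have h1 : (Additive.toMul v : E) = 1 := Subtype.ext h
        exact Additive.toMul.injective h1))
      (fun h => hw (by
        have h1 : (Additive.toMul w : E) = 1 := Subtype.ext h
        exact Additive.toMul.injective h1))
    refine ⟨Θ (f g), ⟨f g, ⟨g, rfl⟩, rfl⟩, ?_⟩
    change Additive.ofMul (f g (Additive.toMul v)) = w
    apply Additive.toMul.injective
    apply Subtype.ext
    exact hg
  rcases (Cfsg.Agent.H535.MersFinal.main known a hfr hp H).1 htrans with ⟨hc, -⟩ | ⟨hc, C, hCH, hCn, hCc, hCcard⟩ | htop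
  · exact solvable_of_cyclic
  · haveI : Finite H := Nat.finite_of_card_ne_zero (by
      rw [hc]
      exact Nat.mul_ne_zero hap.ne_zero hp.ne_zero)
    rw [Group.isSolvable_iff_subgroup_quotient (C.subgroupOf H)]
    have e1 : C.subgroupOf H ≃* C := subgroupOfEquivOfLe hCH
    constructor
    · haveI : Group.IsSolvable C := solvable_of_cyclic
      exact Group.isSolvable_of_isSolvable_injective (f := e1.toMonoidHom) e1.injective
    · apply solvable_of_prime_card hap
      have h1 := (C.subgroupOf H).card_mul_index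
      rw [hc, Nat.card_congr e1.toEquiv, hCcard, mul_comm] at h1
      exact Nat.eq_of_mul_eq_mul_right hp.pos h1
  · -- all automorphisms are induced
    have hfull : ∀ φ : MulAut E, ∃ g : G, ∀ v : E, g * (v : G) * g⁻¹ = φ v := by
      intro φ
      have h1 : Θ φ ∈ H := by rw [htop]; trivial
      obtain ⟨_, ⟨g, rfl⟩, hg⟩ := h1
      have h2 : f g = φ := Θ.injective hg
      refine ⟨g, fun v => ?_⟩
      rw [← h2]
      rfl
    rcases hap.eq_two_or_odd' with h2 | hodd
    · -- `a = 2`
      subst h2
      apply solvable_of_card_six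
      rw [htop, Subgroup.card_top, Cfsg.Agent.H535.MersFinal.card_gl 2 hfr (by norm_num)]
      rfl
    · exfalso
      obtain ⟨k, hk⟩ : ∃ k, a = 2 * k + 3 := by
        obtain ⟨j, hj⟩ := hodd
        have := hap.two_le
        exact ⟨j - 1, by omega⟩
      subst hk
      exact Cfsg.Agent.H512.NoFullOdd.not_full_odd k E hcard hE hinv hfull

/-- reduction of the solvability of `G` to that of `C_G(E)` -/
theorem solvable_of_centralizer
    (known : ∀ (X : Type u) [Group X] [Finite X] [IsSimpleGroup X], Cfsg.IsKnownSimple' X)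
    {G : Type u} [Group G] [Finite G] (E : Subgroup G) (hEn : E.Normal) (a : ℕ)
    (hcard : Nat.card E = 2 ^ a) (hp : (2 ^ a - 1).Prime) (hinv : ∀ x : G, x * x = 1 → x ∈ E)
    (hE : ∀ x ∈ E, x * x = 1)
    (htr : ∀ x ∈ E, ∀ y ∈ E, x ≠ 1 → y ≠ 1 → ∃ g : G, g * x * g⁻¹ = y)
    (hC : Group.IsSolvable (centralizer (E : Set G))) : Group.IsSolvable G := by
  haveI := hEn
  haveI := hC
  haveI := range_solvable known E a hcard hp hinv hE htr
  refine Group.isSolvable_of_ker_le_range (centralizer (E : Set G)).subtype
    (MulAut.conjNormal : G →* MulAut E).rangeRestrict ?_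
  intro g hg
  rw [MonoidHom.mem_ker] at hg
  have h1 : (MulAut.conjNormal g : MulAut E) = 1 := congrArg Subtype.val hg
  refine ⟨⟨g, ?_⟩, rfl⟩
  rw [mem_centralizer_iff]
  intro x hx
  have h2 := congrArg (fun φ : MulAut E => ((φ ⟨x, hx⟩ : E) : G)) h1
  have h3 : g * x * g⁻¹ = x := h2
  exact (mul_inv_eq_iff_eq_mul.1 h3).symm

end Cfsg.Agent.H512.Mersenne
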