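import Mathlib
import Cfsg.Agent.H512.CentSolv
import Cfsg.Agent.H512.Mersenne

/-!
# Groups all of whose involutions form, with 1, an elementary abelian subgroup of order `2 ^ a`, `2 ^ a - 1` prime

For statement S3930: such a group, if it is transitive on the involutions, is solvable (`mersenne`).
-/

set_option autoImplicit false

universe u

namespace Cfsg.Agent.H512.MersFull

open Subgroup Cfsg
open Cfsg.Agent

/-- an element of `p`-power order normalising `T` which permutes `E#` transitively -/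
theorem exists_elt {G : Type u} [Group G] [Finite G] (N E : Subgroup G) (hE : E.Normal) {p : ℕ} (hp : p.Prime)
    (hcard : Nat.card E = p + 1)
    (htr : ∀ x ∈ E, ∀ y ∈ E, x ≠ 1 → y ≠ 1 → ∃ g ∈ N, g * x * g⁻¹ = y) :
    ∃ y ∈ N, (∃ k : ℕ, orderOf y = p ^ k) ∧ ∀ v ∈ E, ∀ w ∈ E, v ≠ 1 → w ≠ 1 → ∃ n : ℕ, y ^ n * v * (y ^ n)⁻¹ = w := by
  classical
  have hf : Fact p.Prime := ⟨hp⟩
  let Ω : Type u := {v : G // v ∈ E ∧ v ≠ 1}
  have hΩ : Nat.card Ω = p := by
    have e1 : Nat.card E = Nat.card {y : E // y ≠ 1} + 1 := by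
      rw [← Finite.card_option]
      exact Nat.card_congr (Equiv.optionSubtypeNe (1 : E)).symm
    have e2 : Nat.card {y : E // y ≠ 1} = Nat.card Ω := by
      refine Nat.card_congr ((Equiv.subtypeEquivRight fun y => ?_).trans
        (Equiv.subtypeSubtypeEquivSubtypeInter (fun y => y ∈ E) (fun y => y ≠ 1)))
      rw [ne_eq, ne_eq, ← OneMemClass.coe_eq_one]
    omega
  let act : MulAction N Ω :=
    { smul := fun n v => ⟨n.1 * v.1 * n.1⁻¹, hE.conj_mem _ v.2.1 _, fun h => v.2.2 (by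
        have := conj_eq_one_iff.1 h
        exact this)⟩
      one_smul := fun v => Subtype.ext (by show 1 * v.1 * 1⁻¹ = v.1; group)
      mul_smul := fun m n v => Subtype.ext (by
        show (m.1 * n.1) * v.1 * (m.1 * n.1)⁻¹ = m.1 * (n.1 * v.1 * n.1⁻¹) * m.1⁻¹
        group) }
  have hsm : ∀ (n : N) (v : Ω), ((n • v : Ω) : G) = n.1 * v.1 * n.1⁻¹ := fun _ _ => rfl
  have hne : Nonempty Ω := by
    have : 0 < Nat.card Ω := by rw [hΩ]; exact hp.pos
    exact (Nat.card_pos_iff.1 this).1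
  obtain ⟨v₀⟩ := hne
  have hpre : MulAction.IsPretransitive N Ω := ⟨fun v w => by
    obtain ⟨g, hg, hgv⟩ := htr v.1 v.2.1 w.1 w.2.1 v.2.2 w.2.2
    exact ⟨⟨g, hg⟩, Subtype.ext hgv⟩⟩
  obtain ⟨Q⟩ : Nonempty (Sylow p N) := inferInstance
  obtain ⟨y, hyQ, hy⟩ : ∃ y ∈ (Q : Subgroup N), y • v₀ ≠ v₀ := by
    by_contra hcon
    push Not at hcon
    have h1 : (Q : Subgroup N) ≤ MulAction.stabilizer N v₀ := fun y hy => hcon y hy
    have h2 : (MulAction.stabilizer N v₀).index = Nat.card Ω := MulAction.index_stabilizer_of_transitive N v₀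
    have h3 := Subgroup.index_dvd_of_le h1
    rw [h2, hΩ] at h3
    exact Q.not_dvd_index h3
  obtain ⟨k, hk⟩ := Q.isPGroup' ⟨y, hyQ⟩
  have hyk : y ^ p ^ k = 1 := congrArg Subtype.val hk
  obtain ⟨m, -, hm⟩ := (Nat.dvd_prime_pow hp).1 (orderOf_dvd_of_pow_eq_one hyk)
  -- the orbit
  have hfin : Finite Ω := inferInstance
  have horb : Nat.card (MulAction.orbit (zpowers y) v₀) = p := by
    have h1 : Nat.card (MulAction.orbit (zpowers y) v₀) ∣ p ^ m := by
      have h0 : (MulAction.stabilizer (zpowers y) v₀).index = Nat.card (MulAction.orbit (zpowers y) v₀) :=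
        MulAction.index_stabilizer (zpowers y) v₀
      rw [← hm, ← Nat.card_zpowers, ← h0]
      exact Subgroup.index_dvd_card _
    obtain ⟨i, -, hi⟩ := (Nat.dvd_prime_pow hp).1 h1
    have h2 : Nat.card (MulAction.orbit (zpowers y) v₀) ≤ p := by
      rw [← hΩ]
      exact Nat.card_le_card_of_injective _ Subtype.val_injective
    have h3 : 1 < Nat.card (MulAction.orbit (zpowers y) v₀) := by
      rw [Finite.one_lt_card_iff_nontrivial]
      refine ⟨⟨v₀, MulAction.mem_orbit_self _⟩, ⟨y • v₀, ⟨⟨y, mem_zpowers y⟩, rfl⟩⟩, ?_⟩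
      intro h
      exact hy (congrArg Subtype.val h).symm
    rw [hi] at h2 h3 ⊢
    have h4 : i ≠ 0 := by rintro rfl; rw [pow_zero] at h3; omega
    have h5 : i ≤ 1 := by
      by_contra hlt
      push Not at hlt
      have h6 : p ^ 2 ≤ p ^ i := Nat.pow_le_pow_right hp.pos hlt
      have h7 := hp.two_le
      nlinarith
    have h6 : i = 1 := by omega
    rw [h6, pow_one]
  have huniv : MulAction.orbit (zpowers y) v₀ = Set.univ := by
    apply Set.eq_univ_of_forall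
    intro w
    by_contra hw
    have h1 : MulAction.orbit (zpowers y) v₀ ⊂ Set.univ :=
      ⟨Set.subset_univ _, fun h => hw (h (Set.mem_univ w))⟩
    have h2 := Set.ncard_lt_ncard h1 (Set.toFinite _)
    rw [Set.ncard_univ, hΩ] at h2
    have h3 : (MulAction.orbit (zpowers y) v₀).ncard = p := horb
    omega
  refine ⟨y.1, y.2, ⟨m, by rw [← hm, Subgroup.orderOf_coe]⟩, ?_⟩
  intro v hv w hw hv1 hw1
  obtain ⟨⟨g, hg⟩, hgv⟩ : (⟨v, hv, hv1⟩ : Ω) ∈ MulAction.orbit (zpowers y) v₀ := by rw [huniv]; trivial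
  obtain ⟨⟨h, hh⟩, hhw⟩ : (⟨w, hw, hw1⟩ : Ω) ∈ MulAction.orbit (zpowers y) v₀ := by rw [huniv]; trivial
  obtain ⟨n, hn⟩ := (isOfFinOrder_of_finite y).mem_powers_iff_mem_zpowers.2 (mul_mem hh (inv_mem hg))
  have hgv' : g • v₀ = (⟨v, hv, hv1⟩ : Ω) := hgv
  have hhw' : h • v₀ = (⟨w, hw, hw1⟩ : Ω) := hhw
  have hn' : y ^ n = h * g⁻¹ := hn
  have h1 : (y ^ n) • (⟨v, hv, hv1⟩ : Ω) = ⟨w, hw, hw1⟩ := by
    rw [hn', ← hgv', ← hhw', mul_smul, inv_smul_smul]
  refine ⟨n, ?_⟩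
  have h2 := congrArg Subtype.val h1
  rw [hsm] at h2
  exact h2

/-- **Part (B1).** -/
theorem centralizer_solvable (hFT : ∀ (K : Type u) [Group K] [Finite K], Odd (Nat.card K) → Group.IsSolvable K)
    {G : Type u} [Group G] [Finite G] (hO : pPrimeCore 2 G = ⊥) (E : Subgroup G) (hEn : E.Normal) (a : ℕ)
    (ha : 2 ≤ a) (hcard : Nat.card E = 2 ^ a) (hp : (2 ^ a - 1).Prime) (hinv : ∀ x : G, x * x = 1 → x ∈ E)
    (hE : ∀ x ∈ E, x * x = 1)
    (htr : ∀ x ∈ E, ∀ y ∈ E, x ≠ 1 → y ≠ 1 → ∃ g : G, g * x * g⁻¹ = y) :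
    Group.IsSolvable (centralizer (E : Set G)) := by
  classical
  have hf2 : Fact (Nat.Prime 2) := ⟨Nat.prime_two⟩
  set p := 2 ^ a - 1 with hpdef
  have h4 : 4 ≤ 2 ^ a := by
    calc 4 = 2 ^ 2 := by norm_num
      _ ≤ 2 ^ a := Nat.pow_le_pow_right (by norm_num) ha
  have hpa : p + 1 = 2 ^ a := by omega
  set D := centralizer (E : Set G) with hD
  have hDn : D.Normal := inferInstance
  have hEc : ∀ x ∈ E, ∀ y ∈ E, x * y = y * x := by
    intro x hx y hy
    have h1 := hE _ (mul_mem hx hy)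
    have h2 : x⁻¹ = x := inv_eq_of_mul_eq_one_left (hE x hx)
    have h3 : y⁻¹ = y := inv_eq_of_mul_eq_one_left (hE y hy)
    have h4 : x * y = (x * y)⁻¹ := (inv_eq_of_mul_eq_one_left h1).symm
    rw [mul_inv_rev, h2, h3] at h4
    exact h4
  have hED : E ≤ D := fun x hx => mem_centralizer_iff.2 fun y hy => hEc y hy x hx
  obtain ⟨T⟩ : Nonempty (Sylow 2 D) := inferInstance
  -- Frattini
  have hfr := T.normalizer_sup_eq_top
  set N := normalizer (((T : Subgroup D).map D.subtype : Subgroup G) : Set G) with hN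
  have htrN : ∀ x ∈ E, ∀ y ∈ E, x ≠ 1 → y ≠ 1 → ∃ g ∈ N, g * x * g⁻¹ = y := by
    intro x hx y hy hx1 hy1
    obtain ⟨g, hg⟩ := htr x hx y hy hx1 hy1
    have hgt : g ∈ N ⊔ D := by rw [hfr]; trivial
    obtain ⟨n, hn, d, hd, rfl⟩ := mem_sup_of_normal_right.1 hgt
    refine ⟨n, hn, ?_⟩
    have h1 : d * x = x * d := (mem_centralizer_iff.1 hd x hx).symm
    rw [← hg]
    calc n * x * n⁻¹ = n * (x * d) * d⁻¹ * n⁻¹ := by group
      _ = n * (d * x) * d⁻¹ * n⁻¹ := by rw [h1]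
      _ = n * d * x * (n * d)⁻¹ := by group
  obtain ⟨y, hyN, ⟨k, hk⟩, hytr⟩ := exists_elt N E hEn hp (by rw [hcard, hpa]) htrN
  let φ : MulAut D := MulAut.conjNormal y
  have hφ : ∀ x : D, ((φ x : D) : G) = y * x * y⁻¹ := fun x => MulAut.conjNormal_apply y x
  have hφn : ∀ (n : ℕ) (x : D), (((φ ^ n) x : D) : G) = y ^ n * x * (y ^ n)⁻¹ := by
    intro n x
    have h1 : φ ^ n = MulAut.conjNormal (y ^ n) := (map_pow _ _ _).symm
    rw [h1]
    exact MulAut.conjNormal_apply _ _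
  obtain ⟨j, -, hj⟩ : ∃ j, j ≤ k ∧ orderOf φ = p ^ j := by
    refine (Nat.dvd_prime_pow hp).1 ?_
    rw [← hk]
    exact orderOf_map_dvd (MulAut.conjNormal : G →* MulAut D) y
  refine Cfsg.Agent.H512.CentSolv.main hFT (E.subgroupOf D) ?_ ?_ ha
    (by rw [Nat.card_congr (Subgroup.subgroupOfEquivOfLe hED).toEquiv, hcard]) hp hpa ?_ T φ ?_ hj ?_
  · rintro ⟨x, hx⟩ hxE
    rw [mem_center_iff]
    rintro ⟨g, hg⟩
    exact Subtype.ext (mem_centralizer_iff.1 hg x hxE).symm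
  · rintro ⟨x, hx⟩
    rw [mem_subgroupOf]
    exact ⟨fun h => Subtype.ext (hE x h), fun h => hinv x (congrArg Subtype.val h)⟩
  · have h1 := Lib.Cores.map_subtype_pPrimeCore 2 hDn
    rw [hO, inf_bot_eq, Subgroup.map_eq_bot_iff_of_injective _ D.subtype_injective] at h1
    exact h1
  · intro x hx
    have h1 : (x : G) ∈ (T : Subgroup D).map D.subtype := ⟨x, hx, rfl⟩
    have h2 := (mem_normalizer_iff.1 hyN (x : G)).1 h1
    obtain ⟨z, hz, hzx⟩ := h2
    have h3 : z = φ x := Subtype.ext (by rw [hφ]; exact hzx)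
    rw [← h3]
    exact hz
  · rintro ⟨x, hxD⟩ hx ⟨w, hwD⟩ hw hx1 hw1
    obtain ⟨n, hn⟩ := hytr x hx w hw (fun h => hx1 (Subtype.ext h)) (fun h => hw1 (Subtype.ext h))
    exact ⟨n, Subtype.ext (by rw [hφn]; exact hn)⟩

/-- **The Mersenne case.** -/
theorem mersenne (known : ∀ (X : Type u) [Group X] [Finite X] [IsSimpleGroup X], Cfsg.IsKnownSimple' X)
    (hFT : ∀ (K : Type u) [Group K] [Finite K], Odd (Nat.card K) → Group.IsSolvable K)
    (G : Type u) [Group G] [Finite G] (E : Subgroup G) (hEn : E.Normal) (a : ℕ)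
    (ha : 2 ≤ a) (hcard : Nat.card E = 2 ^ a) (hp : (2 ^ a - 1).Prime) (hinv : ∀ x : G, x * x = 1 → x ∈ E)
    (hE : ∀ x ∈ E, x * x = 1)
    (htr : ∀ x ∈ E, ∀ y ∈ E, x ≠ 1 → y ≠ 1 → ∃ g : G, g * x * g⁻¹ = y) : Group.IsSolvable G := by
  classical
  have hf2 : Fact (Nat.Prime 2) := ⟨Nat.prime_two⟩
  set O := pPrimeCore 2 G with hOdef
  have hOn : O.Normal := Lib.Cores.pPrimeCore_normal 2
  have hOodd : Odd (Nat.card O) := Nat.coprime_two_right.1 (Lib.Cores.pPrimeCore_coprime (G := G) 2)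
  have hOs : Group.IsSolvable O := hFT O hOodd
  let π : G →* G ⧸ O := QuotientGroup.mk' O
  have hπs : Function.Surjective π := QuotientGroup.mk'_surjective O
  have hπ1 : ∀ x : G, π x = 1 ↔ x ∈ O := fun x => QuotientGroup.eq_one_iff x
  -- elements of `E` in `O`
  have hEO : ∀ x ∈ E, x ∈ O → x = 1 := by
    intro x hx hxO
    have h1 : orderOf x ∣ Nat.card O := Subgroup.orderOf_dvd_natCard O hxO
    have h2 : orderOf x ∣ 2 := orderOf_dvd_of_pow_eq_one (by rw [pow_two]; exact hE x hx)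
    have h3 : orderOf x ∣ 1 := by
      have h4 : Nat.Coprime 2 (Nat.card O) := (Nat.coprime_two_left).2 hOodd
      rw [← h4]
      exact Nat.dvd_gcd h2 h1
    exact orderOf_eq_one_iff.1 (Nat.dvd_one.1 h3)
  have hq : Group.IsSolvable (G ⧸ O) := by
    have hEn' : (E.map π).Normal := hEn.map π hπs
    have hcard' : Nat.card (E.map π) = 2 ^ a := by
      rw [← hcard]
      refine (Nat.card_congr (Equiv.ofBijective (fun x : E => (⟨π x, ⟨x, x.2, rfl⟩⟩ : E.map π)) ⟨?_, ?_⟩)).symm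
      · rintro ⟨x, hx⟩ ⟨y, hy⟩ h
        have h1 : π x = π y := congrArg Subtype.val h
        have h2 : x⁻¹ * y ∈ O := by rw [← hπ1, map_mul, map_inv, h1, inv_mul_cancel]
        have h3 := hEO _ (mul_mem (inv_mem hx) hy) h2
        exact Subtype.ext (inv_mul_eq_one.1 h3)
      · rintro ⟨_, x, hx, rfl⟩
        exact ⟨⟨x, hx⟩, rfl⟩
    have hinv' : ∀ x : G ⧸ O, x * x = 1 → x ∈ E.map π := by
      intro x' hx'
      obtain ⟨x, rfl⟩ := hπs x'
      rw [← map_mul, hπ1] at hx'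
      -- an odd power
      refine ⟨x ^ Nat.card O, hinv _ ?_, ?_⟩
      · rw [← (Commute.refl x).mul_pow]
        have h1 : (⟨x * x, hx'⟩ : O) ^ Nat.card O = 1 := pow_card_eq_one'
        exact congrArg Subtype.val h1
      · obtain ⟨c, hc⟩ := hOodd
        have h1 : π (x * x) = 1 := (hπ1 _).2 hx'
        rw [map_pow, hc, pow_succ, pow_mul, pow_two, ← map_mul, h1, one_pow, one_mul]
    have hE' : ∀ x ∈ E.map π, x * x = 1 := by
      rintro _ ⟨x, hx, rfl⟩
      rw [← map_mul, hE x hx, map_one]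
    have htr' : ∀ x ∈ E.map π, ∀ y ∈ E.map π, x ≠ 1 → y ≠ 1 → ∃ g : G ⧸ O, g * x * g⁻¹ = y := by
      rintro _ ⟨x, hx, rfl⟩ _ ⟨y, hy, rfl⟩ hx1 hy1
      obtain ⟨g, hg⟩ := htr x hx y hy (fun h => hx1 (by rw [h, map_one])) (fun h => hy1 (by rw [h, map_one]))
      exact ⟨π g, by rw [← hg, map_mul, map_mul, map_inv]⟩
    have hOq : pPrimeCore 2 (G ⧸ O) = ⊥ := Lib.Cores.pPrimeCore_quotient_pPrimeCore 2
    have hC := centralizer_solvable hFT hOq (E.map π) hEn' a ha hcard' hp hinv' hE' htr'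
    exact Cfsg.Agent.H512.Mersenne.solvable_of_centralizer known (E.map π) hEn' a hcard' hp hinv' hE' htr' hC
  refine Group.isSolvable_of_ker_le_range O.subtype (QuotientGroup.mk' O) ?_
  rw [QuotientGroup.ker_mk', range_subtype]

end Cfsg.Agent.H512.MersFull
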