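import Mathlib
import Cfsg.Agent.H512.MersFull
import Cfsg.Agent.H544.PyrD
import Cfsg.Agent.S0205
import Cfsg.Agent.S4037

/-!
# `p ^ k`-pyramidal groups (S3930), assembly
-/

set_option autoImplicit false

namespace Cfsg.Agent.H512.PyrMain

theorem main (known : ∀ (X : Type) [Group X] [Finite X] [IsSimpleGroup X], Cfsg.IsKnownSimple' X)
    (p k : ℕ) (hp : p.Prime) (hp2 : p ≠ 2) (hk : 1 ≤ k) :
    (∀ (G : Type) [Group G] [Finite G], Nat.card {x : G // orderOf x = 2} = p ^ k →
      (∀ x y : G, orderOf x = 2 → orderOf y = 2 → ∃ g : G, g * x * g⁻¹ = y) → Group.IsSolvable G) ↔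
      (Odd k ∨ p ^ k = 9) := by
  have hFT : ∀ (K : Type) [Group K] [Finite K], Odd (Nat.card K) → Group.IsSolvable K :=
    fun K _ _ h => Cfsg.Agent.S0205.result h
  exact Cfsg.Agent.H544.PyrD.main
    (fun G _ _ E hEn a ha hcard hp hinv hE htr =>
      Cfsg.Agent.H512.MersFull.mersenne known hFT G E hEn a ha hcard hp hinv hE htr)
    hFT (fun G _ _ x p hp k h => Cfsg.Agent.S4037.result x hp k h) p k hp hp2 hk

end Cfsg.Agent.H512.PyrMain
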