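import Cfsg.Agent.H512.RGDTor
import Cfsg.Agent.OddHalf.Small.ChevCent

/-!
# The torus of the exceptional groups: exponent (for S3932)

`q_group`, `q_twE6`, `q_twD4`: the torus elements satisfy `t ^ (|K| - 1) = 1`.
-/

set_option autoImplicit false
set_option linter.unusedSectionVars false

namespace Cfsg.Agent.H512.SylNum

open Cfsg
open Cfsg.Agent.ChevalleyStructure Cfsg.Agent.ChevalleyStructure.CoxeterGeom Cfsg.Agent.Tits.Roots
open Cfsg.Agent.Nodes.Comb Cfsg.Agent.Nodes.Reps Cfsg.Agent.Nodes.BNOf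
open Cfsg.Agent.Nodes Cfsg.Agent.Nodes.RGDLib Cfsg.Agent.Nodes.RGDChev

universe u

/-- torus elements have exponent `|K| - 1` -/
theorem diag_pow {D : Cfsg.Lie.ChevalleyDatum} (hD : Cfsg.Agent.ChevalleyStructure.Elts.InList D) {F : Type u} [Field F] [Finite F]
    {h : GL D.Idx F} (hh : h ∈ D.diagonalSubgroup F) : h ^ (Nat.card F - 1) = 1 := by
  have e := TorusRange.diagonalSubgroup_eq_range (D := D) (F := F)
    (fun i hi c hc => Cfsg.Agent.S1033.result D hD i hi c hc)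
    (fun i hi => (Cfsg.Agent.ChevalleyStructure.RootComb.good_of_mem hD).simple_lt hi)
    (fun g hg => Cfsg.Agent.S1034.result D hD g hg)
  rw [e] at hh
  obtain ⟨a, rfl⟩ := hh
  rw [← map_pow]
  have : a ^ (Nat.card F - 1) = 1 := by
    funext i
    rw [Pi.pow_apply, ← Nat.card_units, pow_card_eq_one']
    rfl
  rw [this, map_one]

theorem q_group {D : Cfsg.Lie.ChevalleyDatum} {l : ℕ} {M : CoxeterMatrix (Fin l)} (hp : IsType D l M) (hl : 0 < l)
    (K : Type u) [Field K] [Finite K] (p : ℕ) [CharP K p] :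
    HasRGDQ p ↥(D.group K) (fun t => t ^ (Nat.card K - 1) = 1) := by
  have : Fact p.Prime := ⟨CharP.char_is_prime K p⟩
  exact ⟨l, M, Cfsg.Agent.ChevalleyStructure.CoxeterGeomTypes.cartanOf D l, hp.isCartan, _, _, _, hl,
    finite_W hp M.toCoxeterSystem,
    rgd (K := K) hp M.toCoxeterSystem p, G1_eq_top hp _, fun t ht =>
      Subtype.ext (diag_pow hp.inList (Subgroup.mem_subgroupOf.1 ht))⟩

theorem q_twE6 {K : Type u} [Field K] [Fintype K] {q : ℕ} (hq : IsPrimePow q) (hK : Fintype.card K = q ^ 2)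
    (p : ℕ) [CharP K p] : HasRGDQ p ↥(Cfsg.Lie.twistedE6 K q) (fun t => t ^ (Nat.card K - 1) = 1) := by
  obtain ⟨φ, hφ, hqq⟩ := Cfsg.Agent.ChevalleyStructure.TwE6Basic.exists_frob hq hK
  have : Fact p.Prime := ⟨CharP.char_is_prime K p⟩
  exact ⟨_, _, _, RGDTwE6.isCartan, _, _, _, by norm_num,
    RGDFold.finite_W (hp := RGDTwE6.hp) (CoxeterMatrix.F₄).toCoxeterSystem RGDTwE6.isCartan RGDTwE6.foldData,
    RGDFold.rgd _ RGDTwE6.isCartan RGDTwE6.foldData (RGDTwE6.foldGrp hφ hqq) p,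
    RGDFold.G1_eq_top _ RGDTwE6.isCartan RGDTwE6.foldData (RGDTwE6.foldGrp hφ hqq) p, fun s hs =>
      Subtype.ext (diag_pow RGDTwE6.hp.inList (Subgroup.mem_subgroupOf.1 hs).1)⟩

theorem q_twD4 {K : Type u} [Field K] [Fintype K] {q : ℕ} (hq : IsPrimePow q) (hK : Fintype.card K = q ^ 3)
    (p : ℕ) [CharP K p] : HasRGDQ p ↥(Cfsg.Lie.twistedD4 K q) (fun t => t ^ (Nat.card K - 1) = 1) := by
  obtain ⟨φ, hφ⟩ := Cfsg.Agent.ChevalleyStructure.D4Fixed.exists_frob hq hK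
  have : Fact p.Prime := ⟨CharP.char_is_prime K p⟩
  exact ⟨_, _, _, RGDTwD4.isCartan, _, _, _, by norm_num,
    RGDFold.finite_W (hp := RGDTwD4.hp) (CoxeterMatrix.G₂).toCoxeterSystem RGDTwD4.isCartan RGDTwD4.foldData,
    RGDFold.rgd _ RGDTwD4.isCartan RGDTwD4.foldData (RGDTwD4.foldGrp hφ (Cfsg.Agent.ChevalleyStructure.D4Fixed.twisted_le_fix hK hφ)) p,
    RGDFold.G1_eq_top _ RGDTwD4.isCartan RGDTwD4.foldData
      (RGDTwD4.foldGrp hφ (Cfsg.Agent.ChevalleyStructure.D4Fixed.twisted_le_fix hK hφ)) p, fun s hs =>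
      Subtype.ext (diag_pow RGDTwD4.hp.inList (Subgroup.mem_subgroupOf.1 hs).1)⟩

end Cfsg.Agent.H512.SylNum
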