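import Cfsg.Agent.H512.RowExc
import Cfsg.Agent.H378.TwRowsF
import Cfsg.Agent.QTNorm.Main

/-!
# Sylow numbers of `²F₄(q)`, `p` odd (for S3932)
-/

set_option autoImplicit false
set_option linter.unusedSectionVars false
set_option linter.style.haveILetI false

namespace Cfsg.Agent.H512.SylNum

open Subgroup Cfsg Cfsg.Lie

/-- one Sylow subgroup is enough -/
theorem exp_of_one {G : Type*} [Group G] [Finite G] {ℓ : ℕ} [hl : Fact ℓ.Prime] (S : Sylow ℓ G) {m : ℕ}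
    (h : ∀ x ∈ normalizer ((S : Subgroup G) : Set G), x ^ m ∈ S) (U : Sylow ℓ G) :
    ∀ x ∈ normalizer ((U : Subgroup G) : Set G), x ^ m ∈ U := by
  intro x hx
  obtain ⟨g, hg⟩ := MulAction.exists_smul_eq G U S
  have h2 := Sylow.smul_eq_iff_mem_normalizer.2 hx
  have h1 : g * x * g⁻¹ ∈ normalizer ((S : Subgroup G) : Set G) := by
    refine Sylow.smul_eq_iff_mem_normalizer.1 ?_
    rw [← hg, ← mul_smul]
    have h4 : g * x * g⁻¹ * g = g * x := by group
    rw [h4, mul_smul, h2]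
  have h3 := h _ h1
  rw [conj_pow] at h3
  rw [← hg] at h3
  have h4 : g * x ^ m * g⁻¹ ∈ ((g • U : Sylow ℓ G) : Subgroup G) := h3
  rw [Sylow.coe_subgroup_smul] at h4
  obtain ⟨y, hy, hyx⟩ := h4
  have h5 : g * y * g⁻¹ = g * x ^ m * g⁻¹ := hyx
  have h6 : y = x ^ m := by
    calc y = g⁻¹ * (g * y * g⁻¹) * g := by group
      _ = g⁻¹ * (g * x ^ m * g⁻¹) * g := by rw [h5]
      _ = x ^ m := by group
  rw [← h6]
  exact hy

section

open Cfsg.Agent.ChevalleyStructure.TwF4.TwistedFix Cfsg.Agent.ChevalleyStructure.TwF4.BN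
open Cfsg.Agent.Schreier.TwFFour Cfsg.Agent.QTNorm

universe u

variable {K : Type u} [Field K] [Fintype K] {m : ℕ}

theorem exp_2F4 (hK : Fintype.card K = 2 ^ (2 * m + 1)) (h2 : Fact (Nat.Prime 2))
    (U : Sylow 2 ↥(twistedF4 K (2 ^ m))) :
    ∀ x ∈ normalizer ((U : Subgroup ↥(twistedF4 K (2 ^ m))) : Set ↥(twistedF4 K (2 ^ m))),
      x ^ (2 ^ (2 * m + 1) - 1) ∈ U := by
  have : CharP K 2 := charP_two hK
  obtain ⟨φ, hφ⟩ := exists_rln hK
  obtain ⟨P, hPB, hPN, -⟩ := exists_bnPair hφ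
  obtain ⟨h2, h3, h4, h5⟩ := twF4_data hK hφ hPB hPN
  obtain ⟨hsup, S, hS⟩ := exists_sylow_of_bn P _ (isPGroup_U0 hK) h2 h3 h4 (odd_exp m) h5
  refine exp_of_one S (fun x hx => ?_) U
  rw [hS] at hx
  have hxB : x ∈ P.B := bn_normalizer_le P _ h3 hsup hx
  obtain ⟨u, hu, hN⟩ := h4 x hxB
  have h6 : (u⁻¹ * x) ^ (2 ^ (2 * m + 1) - 1) = 1 := h5 _ (mul_mem (inv_mem (h2 hu)) hxB) hN
  show x ^ (2 ^ (2 * m + 1) - 1) ∈ (S : Subgroup ↥(twistedF4 K (2 ^ m)))
  rw [hS]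
  -- `x = u t` with `t` normalising `U`
  have key : ∀ (n : ℕ) (t : ↥(twistedF4 K (2 ^ m))), t ∈ P.B → ∃ v ∈ U0 K (2 ^ m), (u * t) ^ n = v * t ^ n := by
    intro n t ht
    induction n with
    | zero => exact ⟨1, one_mem _, by simp⟩
    | succ n ih =>
      obtain ⟨v, hv, e⟩ := ih
      refine ⟨v * (t ^ n * u * (t ^ n)⁻¹), mul_mem hv ?_, ?_⟩
      · exact (mem_normalizer_iff.1 (h3 (pow_mem ht n)) u).1 hu
      · rw [pow_succ, e, pow_succ]
        group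
  obtain ⟨v, hv, e⟩ := key (2 ^ (2 * m + 1) - 1) (u⁻¹ * x) (mul_mem (inv_mem (h2 hu)) hxB)
  rw [h6, mul_one, mul_inv_cancel_left] at e
  rw [e]
  exact hv

theorem row_2F4 (hm : 1 ≤ m) (hK : Fintype.card K = 2 ^ (2 * m + 1)) {p : ℕ} [hp : Fact p.Prime] (hp2 : p ≠ 2)
    (hd : p ∣ Nat.card ↥(twistedF4 K (2 ^ m))) : Row p ↥(twistedF4 K (2 ^ m)) := by
  have hcard := Cfsg.Agent.S1068.result hK
  have hq8 : 8 ≤ 2 ^ (2 * m + 1) := by
    calc 8 = 2 ^ 3 := by norm_num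
      _ ≤ 2 ^ (2 * m + 1) := Nat.pow_le_pow_right (by norm_num) (by omega)
  have hm0 : 2 ^ (2 * m + 1) - 1 ≠ 0 := by omega
  have hKc : Nat.card K = 2 ^ (2 * m + 1) := by rw [Nat.card_eq_fintype_card, hK]
  refine row_of_exp hp2 hd Nat.prime_two hp2.symm hm0 (exp_2F4 hK) (fun hpm => ?_) fun hpm => ?_
  · refine pow_succ_dvd hp.out hm0 hpm (c := 1) ?_ (by rw [Nat.dvd_one]; exact hp.out.one_lt.ne')
    rw [one_mul, hcard, pow_two]
    exact dvd_mul_of_dvd_left (mul_dvd_mul (dvd_mul_of_dvd_left (dvd_mul_of_dvd_right dvd_rfl _) _)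
      (sub_dvd_pow _ _)) _
  · obtain ⟨r, hr, hr2, hr4, -, hrq, hrm, hcyc⟩ := H150.exists_prim (q := 2 ^ (2 * m + 1)) (m := 12) (by omega)
      (by norm_num) (by omega)
    refine ⟨r, hr, ?_, ?_, ?_⟩
    · rintro rfl
      have := Nat.le_of_dvd (by norm_num) ((hrm 1).1 (by rwa [pow_one]))
      omega
    · rw [hcard]
      exact dvd_mul_of_dvd_right (H150.dvd_pow_add_one_of_primitive hr (by norm_num) hrm) _
    · intro a x ha _ hx hax
      have h1 := (H378.TwRowsF.cent_2F4 hK hr hx (by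
        rw [hKc]
        exact H150.orderOf_eq_of_primitive (by omega) hrm)).2
      have h2 : orderOf a ∣ Nat.card ↥(Subgroup.centralizer {x}) := by
        have ha' : a ∈ Subgroup.centralizer {x} := Subgroup.mem_centralizer_singleton_iff.2 hax
        rw [← Subgroup.orderOf_mk a ha']
        exact orderOf_dvd_natCard _
      rw [ha] at h2
      refine not_dvd_cyc (p := p) (q := 2 ^ (2 * m + 1)) (m := 12) (by omega) hpm ?_ ?_
      · rw [cyc_twelve]
        have := not_dvd_of_lt (p := p) (n := 1) (by norm_num) hp.out.one_lt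
        exact_mod_cast this
      · rw [← hKc]
        exact Int.natCast_dvd.2 (h2.trans h1)

end

end Cfsg.Agent.H512.SylNum
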