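import Cfsg.Agent.H512.RGDExc
import Cfsg.Agent.H150.FarExc
import Cfsg.Agent.H150.FarE7
import Cfsg.Agent.H150.FarTw
import Cfsg.Agent.S1064
import Cfsg.Agent.S1066
import Cfsg.Agent.S1067

/-!
# Sylow numbers of the exceptional groups, `p` prime to the characteristic (for S3932)
-/

set_option autoImplicit false
set_option linter.unusedSectionVars false
set_option linter.style.haveILetI false

namespace Cfsg.Agent.H512.SylNum

open Cfsg Cfsg.Lie Cfsg.Agent.H150 Cfsg.Agent.Nodes.RGDChev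
open Cfsg.Agent.ChevalleyStructure Cfsg.Agent.ChevalleyStructure.CoxeterGeom

universe u

theorem pow_succ_dvd {p m N c : ℕ} (hp : p.Prime) (hm0 : m ≠ 0) (hpm : p ∣ m) (h : m ^ 2 ∣ c * N) (hc : ¬ p ∣ c) :
    p ^ (m.factorization p + 1) ∣ N := by
  have hv : 1 ≤ m.factorization p := (hp.dvd_iff_one_le_factorization hm0).1 hpm
  have h1 : p ^ (m.factorization p + 1) ∣ m ^ 2 := by
    refine (pow_dvd_pow p (show m.factorization p + 1 ≤ m.factorization p * 2 by omega)).trans ?_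
    rw [pow_mul]
    exact pow_dvd_pow_of_dvd (Nat.ordProj_dvd m p) 2
  exact (Nat.Coprime.pow_left _ ((hp.coprime_iff_not_dvd).2 hc)).dvd_of_dvd_mul_left (h1.trans h)

theorem not_dvd_cyc {p q m : ℕ} (hq : 1 ≤ q) (hpq : p ∣ q - 1) (h1 : ¬ (p : ℤ) ∣ (Polynomial.cyclotomic m ℤ).eval 1) :
    ¬ (p : ℤ) ∣ (Polynomial.cyclotomic m ℤ).eval (q : ℤ) := by
  intro h
  apply h1
  have h2 : (p : ℤ) ∣ (Polynomial.cyclotomic m ℤ).eval (q : ℤ) - (Polynomial.cyclotomic m ℤ).eval 1 := by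
    refine dvd_trans ?_ (Polynomial.sub_dvd_eval_sub (q : ℤ) 1 _)
    have h3 : (p : ℤ) ∣ ((q - 1 : ℕ) : ℤ) := Int.natCast_dvd_natCast.2 hpq
    rwa [Nat.cast_sub hq, Nat.cast_one] at h3
  have h3 := dvd_sub h h2
  rwa [sub_sub_cancel] at h3

theorem cyc_three : (Polynomial.cyclotomic 3 ℤ).eval 1 = 3 := by
  have : Fact (Nat.Prime 3) := ⟨Nat.prime_three⟩
  rw [Polynomial.eval_one_cyclotomic_prime (R := ℤ) (p := 3)]
  rfl

theorem cyc_nine : (Polynomial.cyclotomic 9 ℤ).eval 1 = 3 := by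
  have : Fact (Nat.Prime 3) := ⟨Nat.prime_three⟩
  have h : (Polynomial.cyclotomic 9 ℤ).eval 1 = ((3 : ℕ) : ℤ) :=
    Polynomial.eval_one_cyclotomic_prime_pow (R := ℤ) (p := 3) 1
  rw [h]
  rfl

theorem cyc_twelve : (Polynomial.cyclotomic 12 ℤ).eval 1 = 1 := by
  refine Polynomial.eval_one_cyclotomic_not_prime_pow (R := ℤ) (n := 12) ?_
  intro p hp k hk
  have h3 : (2 : ℕ) ∣ p ^ k := by rw [hk]; norm_num
  have h4 : (3 : ℕ) ∣ p ^ k := by rw [hk]; norm_num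
  have h5 := (Nat.prime_dvd_prime_iff_eq Nat.prime_two hp).1 (Nat.prime_two.dvd_of_dvd_pow h3)
  have h6 := (Nat.prime_dvd_prime_iff_eq Nat.prime_three hp).1 (Nat.prime_three.dvd_of_dvd_pow h4)
  omega

theorem cyc_twentyfour : (Polynomial.cyclotomic 24 ℤ).eval 1 = 1 := by
  refine Polynomial.eval_one_cyclotomic_not_prime_pow (R := ℤ) (n := 24) ?_
  intro p hp k hk
  have h3 : (2 : ℕ) ∣ p ^ k := by rw [hk]; norm_num
  have h4 : (3 : ℕ) ∣ p ^ k := by rw [hk]; norm_num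
  have h5 := (Nat.prime_dvd_prime_iff_eq Nat.prime_two hp).1 (Nat.prime_two.dvd_of_dvd_pow h3)
  have h6 := (Nat.prime_dvd_prime_iff_eq Nat.prime_three hp).1 (Nat.prime_three.dvd_of_dvd_pow h4)
  omega

theorem not_dvd_of_lt {p n : ℕ} (hn : 0 < n) (h : n < p) : ¬ (p : ℤ) ∣ (n : ℤ) := by
  intro hd
  have := Nat.le_of_dvd hn (Int.natCast_dvd_natCast.1 hd)
  omega

theorem exists_char (F : Type*) [Field F] [Finite F] : ∃ ℓ : ℕ, ℓ.Prime ∧ CharP F ℓ ∧ ∀ s : ℕ, s.Prime → s ∣ Nat.card F → s = ℓ := by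
  haveI : Fintype F := Fintype.ofFinite F
  obtain ⟨ℓ, hℓ⟩ := CharP.exists F
  obtain ⟨n, hl, hn⟩ := FiniteField.card F ℓ
  refine ⟨ℓ, hl, hℓ, fun s hs hd => ?_⟩
  rw [Nat.card_eq_fintype_card, hn] at hd
  exact (Nat.prime_dvd_prime_iff_eq hs hl).1 (hs.dvd_of_dvd_pow hd)

theorem char_ne {F : Type*} [Field F] [Finite F] {ℓ p : ℕ} [CharP F ℓ] (h : ¬ p ∣ Nat.card F) : ℓ ≠ p := by
  rintro rfl
  apply h
  haveI : Fintype F := Fintype.ofFinite F
  obtain ⟨n, hl, hn⟩ := FiniteField.card F ℓ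
  rw [Nat.card_eq_fintype_card, hn]
  exact dvd_pow_self _ n.ne_zero

/-- no commuting elements of orders `p`, `r` -/
theorem no_pair_of_T {G : Type*} [Group G] [Finite G] {T : Subgroup G} {p r : ℕ} (hr : r.Prime)
    (hrT : r ∣ Nat.card ↥T) (hpT : ¬ p ∣ Nat.card ↥T)
    (hcent : ∀ y ∈ T, orderOf y = r → Subgroup.centralizer {y} ≤ T) (a x : G) (ha : orderOf a = p)
    (hx : orderOf x = r) : a * x ≠ x * a := by
  intro hax
  haveI : Fact r.Prime := ⟨hr⟩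
  obtain ⟨⟨y, hy⟩, hyr⟩ := exists_prime_orderOf_dvd_card' (G := ↥T) r hrT
  rw [Subgroup.orderOf_mk] at hyr
  have hpg : ∀ x : G, orderOf x = r → IsPGroup r (Subgroup.zpowers x) := fun x hx =>
    IsPGroup.of_card (n := 1) (by rw [Nat.card_zpowers, hx, pow_one])
  obtain ⟨P, hP⟩ := (hpg y hyr).exists_le_sylow
  obtain ⟨Q, hQ⟩ := (hpg x hx).exists_le_sylow
  have hPT : (P : Subgroup G) ≤ T := le_of_cent hr hcent P.2 (hP (Subgroup.mem_zpowers y)) hy hyr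
  obtain ⟨c, hc⟩ := MulAction.exists_smul_eq G Q P
  have hmem : c * x * c⁻¹ ∈ (P : Subgroup G) := by
    rw [← hc, Sylow.coe_subgroup_smul]
    exact Subgroup.smul_mem_pointwise_smul x (MulAut.conj c) Q.1 (hQ (Subgroup.mem_zpowers _))
  have ho : orderOf (c * x * c⁻¹) = r := by
    rw [← hx]
    exact orderOf_injective (MulAut.conj c).toMonoidHom (MulAut.conj c).injective x
  have hi : c * a * c⁻¹ ∈ T := by
    refine hcent _ (hPT hmem) ho ?_
    rw [Subgroup.mem_centralizer_singleton_iff]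
    calc c * a * c⁻¹ * (c * x * c⁻¹) = c * (a * x) * c⁻¹ := by group
      _ = c * (x * a) * c⁻¹ := by rw [hax]
      _ = _ := by group
  have ho2 : orderOf (c * a * c⁻¹) = p := by
    rw [← ha]
    exact orderOf_injective (MulAut.conj c).toMonoidHom (MulAut.conj c).injective a
  apply hpT
  have := orderOf_dvd_natCard (⟨c * a * c⁻¹, hi⟩ : ↥T)
  rwa [Subgroup.orderOf_mk, ho2] at this

section Cyc

variable {D : ChevalleyDatum} {l : ℕ} {M : CoxeterMatrix (Fin l)} (hD : IsType D l M)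
  {W : Type*} [Group W] (cs : CoxeterSystem M W)

include hD cs

/-- the rows with a cyclotomic torus -/
theorem row_cyc [Finite W] {F : Type u} [Field F] [Finite F] (hl : 0 < l) {p : ℕ} [hp : Fact p.Prime] (hp2 : p ≠ 2)
    [IsSimpleGroup ↥(D.group F)] (hd : p ∣ Nat.card ↥(D.group F)) (hpF : ¬ p ∣ Nat.card F) {c : ℕ} (hc : ¬ p ∣ c)
    (hord : (Nat.card F - 1) ^ 2 ∣ c * Nat.card ↥(D.group F)) {m : ℕ} (hm : 0 < m) (hml : m.totient = l)
    (hcyc : ¬ (p : ℤ) ∣ (Polynomial.cyclotomic m ℤ).eval 1)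
    (hr : p ∣ Nat.card F - 1 → ∃ r : ℕ, r.Prime ∧ r ≠ p ∧ ¬ r ∣ Nat.card F ∧ r ∣ Nat.card ↥(D.group F) ∧ ¬ r ∣ Nat.card W ∧ ¬ r ∣ m ∧
      (r : ℤ) ∣ (Polynomial.cyclotomic m ℤ).eval ((Nat.card F : ℕ) : ℤ)) : Row p ↥(D.group F) := by
  obtain ⟨ℓ, hl', hch, -⟩ := exists_char F
  have hF1 : 1 < Nat.card F := Finite.one_lt_card
  have hm0 : Nat.card F - 1 ≠ 0 := by omega
  refine row_of_Q hl' (q_group hD hl F ℓ) hp2 (char_ne hpF) hd hm0 (fun t ht => ht)
    (fun hpm => pow_succ_dvd hp.out hm0 hpm hord hc) fun hpm => ?_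
  obtain ⟨r, hr, hrp, hrF, hrd, hrW, hrm, hrc⟩ := hr hpm
  refine ⟨r, hr, hrp, hrd, fun a x ha _ hx hax => ?_⟩
  have h1 := orderOf_dvd_cyc hD cs hr hrF hx hrW hm hml hrm hrc hax
  rw [ha] at h1
  exact not_dvd_cyc hF1.le hpm hcyc h1

end Cyc

section Rows

variable {F : Type u} [Field F] [Fintype F] {p : ℕ} [hp : Fact p.Prime]

theorem sub_dvd_pow (q n : ℕ) : q - 1 ∣ q ^ n - 1 := by
  simpa using Nat.sub_dvd_pow_sub_pow q 1 n

theorem row_G2 [IsSimpleGroup ↥(chevG2.group F)] (hp5 : 5 ≤ p) (hd : p ∣ Nat.card ↥(chevG2.group F))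
    (hpF : ¬ p ∣ Nat.card F) : Row p ↥(chevG2.group F) := by
  have hq2 : 2 ≤ Nat.card F := by rw [Nat.card_eq_fintype_card]; exact Fintype.one_lt_card
  have hW : Nat.card (CoxeterMatrix.G₂).Group = 12 := WeylData.certG2.card_group.trans WeylData.size_G2
  haveI : Finite (CoxeterMatrix.G₂).Group := Nat.finite_of_card_ne_zero (by rw [hW]; norm_num)
  have hcard := Cfsg.Agent.S1059.result (F := F) rfl
  rw [← Nat.card_eq_fintype_card] at hcard
  refine row_cyc (D := chevG2) (by simp [IsType, typeList]) (CoxeterMatrix.G₂).toCoxeterSystem (by norm_num) (by omega)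
    hd hpF (c := 1) (by rw [Nat.dvd_one]; omega) ?_ (m := 3) (by norm_num) (by decide)
    (by rw [cyc_three]; exact_mod_cast not_dvd_of_lt (p := p) (n := 3) (by norm_num) (by omega)) fun hpm => ?_
  · rw [one_mul, hcard, pow_two]
    exact mul_dvd_mul (dvd_mul_of_dvd_right (sub_dvd_pow _ _) _) (sub_dvd_pow _ _)
  · obtain ⟨r, hr, hr2, hr4, -, hrq, hrm, hcyc⟩ := exists_prim (q := Nat.card F) (m := 3) hq2 le_rfl (by omega)
    refine ⟨r, hr, ?_, hrq, ?_, ?_, ?_, hcyc⟩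
    · rintro rfl
      have := Nat.le_of_dvd (by norm_num) ((hrm 1).1 (by rwa [pow_one]))
      omega
    · rw [hcard]
      refine dvd_mul_of_dvd_right ?_ _
      rw [hrm]
      norm_num
    · rw [hW]
      exact not_dvd_of_lt_smooth hr [2, 2, 3] (by norm_num) (by simp; omega)
    · exact not_dvd_of_lt_smooth hr [3] (by norm_num) (by simp; omega)

theorem row_F4 [IsSimpleGroup ↥(chevF4.group F)] (hp5 : 5 ≤ p) (hd : p ∣ Nat.card ↥(chevF4.group F))
    (hpF : ¬ p ∣ Nat.card F) : Row p ↥(chevF4.group F) := by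
  have hq2 : 2 ≤ Nat.card F := by rw [Nat.card_eq_fintype_card]; exact Fintype.one_lt_card
  have hW : Nat.card (CoxeterMatrix.F₄).Group = 1152 := WeylData.certF4.card_group.trans WeylData.size_F4
  haveI : Finite (CoxeterMatrix.F₄).Group := Nat.finite_of_card_ne_zero (by rw [hW]; norm_num)
  have hcard := Cfsg.Agent.S1062.result (F := F) rfl
  rw [← Nat.card_eq_fintype_card] at hcard
  refine row_cyc (D := chevF4) (by simp [IsType, typeList]) (CoxeterMatrix.F₄).toCoxeterSystem (by norm_num) (by omega)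
    hd hpF (c := 1) (by rw [Nat.dvd_one]; omega) ?_ (m := 12) (by norm_num) (by decide)
    (by rw [cyc_twelve]; exact_mod_cast not_dvd_of_lt (p := p) (n := 1) (by norm_num) (by omega)) fun hpm => ?_
  · rw [one_mul, hcard, pow_two]
    exact mul_dvd_mul (dvd_mul_of_dvd_right (sub_dvd_pow _ _) _) (sub_dvd_pow _ _)
  · obtain ⟨r, hr, hr2, hr4, -, hrq, hrm, hcyc⟩ := exists_prim (q := Nat.card F) (m := 12) hq2 (by norm_num) (by omega)
    refine ⟨r, hr, ?_, hrq, ?_, ?_, ?_, hcyc⟩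
    · rintro rfl
      have := Nat.le_of_dvd (by norm_num) ((hrm 1).1 (by rwa [pow_one]))
      omega
    · rw [hcard]
      refine dvd_mul_of_dvd_right ?_ _
      rw [hrm]
    · rw [hW]
      exact not_dvd_of_lt_smooth hr [2, 2, 2, 2, 2, 2, 2, 3, 3] (by norm_num) (by simp; omega)
    · exact not_dvd_of_lt_smooth hr [12] (by norm_num) (by simp; omega)

theorem row_E6 [IsSimpleGroup ↥(chevE6.group F)] (hp5 : 5 ≤ p) (hd : p ∣ Nat.card ↥(chevE6.group F))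
    (hpF : ¬ p ∣ Nat.card F) : Row p ↥(chevE6.group F) := by
  have hq2 : 2 ≤ Nat.card F := by rw [Nat.card_eq_fintype_card]; exact Fintype.one_lt_card
  have hW : Nat.card (CoxeterMatrix.E₆).Group = 51840 := WeylData.certE6.card_group.trans WeylData.size_E6
  haveI : Finite (CoxeterMatrix.E₆).Group := Nat.finite_of_card_ne_zero (by rw [hW]; norm_num)
  have hcard := Cfsg.Agent.S1063.result (F := F) rfl
  rw [← Nat.card_eq_fintype_card] at hcard
  have hpc : ¬ p ∣ Nat.gcd 3 (Nat.card F - 1) := fun h => by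
    have := Nat.le_of_dvd (by norm_num) (h.trans (Nat.gcd_dvd_left _ _))
    omega
  refine row_cyc (D := chevE6) (by simp [IsType, typeList]) (CoxeterMatrix.E₆).toCoxeterSystem (by norm_num) (by omega)
    hd hpF hpc ?_ (m := 9) (by norm_num) (by decide)
    (by rw [cyc_nine]; exact_mod_cast not_dvd_of_lt (p := p) (n := 3) (by norm_num) (by omega)) fun hpm => ?_
  · rw [hcard, pow_two]
    exact mul_dvd_mul (dvd_mul_of_dvd_right (sub_dvd_pow _ _) _) (sub_dvd_pow _ _)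
  · obtain ⟨r, hr, hr2, hr4, -, hrq, hrm, hcyc⟩ := exists_prim (q := Nat.card F) (m := 9) hq2 (by norm_num) (by omega)
    refine ⟨r, hr, ?_, hrq, ?_, ?_, ?_, hcyc⟩
    · rintro rfl
      have := Nat.le_of_dvd (by norm_num) ((hrm 1).1 (by rwa [pow_one]))
      omega
    · have hT : r ∣ Nat.gcd 3 (Nat.card F - 1) * Nat.card ↥(chevE6.group F) := by
        rw [hcard]
        refine dvd_mul_of_dvd_left (dvd_mul_of_dvd_right ?_ _) _
        rw [hrm]
      refine (hr.dvd_mul.1 hT).resolve_left fun h1 => ?_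
      have := Nat.le_of_dvd (by norm_num) (h1.trans (Nat.gcd_dvd_left 3 _))
      omega
    · rw [hW]
      exact not_dvd_of_lt_smooth hr [2, 2, 2, 2, 2, 2, 2, 3, 3, 3, 3, 5] (by norm_num) (by simp; omega)
    · exact not_dvd_of_lt_smooth hr [9] (by norm_num) (by simp; omega)

theorem row_E8 [IsSimpleGroup ↥(chevE8.group F)] (hp5 : 5 ≤ p) (hd : p ∣ Nat.card ↥(chevE8.group F))
    (hpF : ¬ p ∣ Nat.card F) : Row p ↥(chevE8.group F) := by
  have hq2 : 2 ≤ Nat.card F := by rw [Nat.card_eq_fintype_card]; exact Fintype.one_lt_card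
  have hW : Nat.card (CoxeterMatrix.E₈).Group = 696729600 := WeylData.certE8.card_group.trans WeylData.size_E8
  haveI : Finite (CoxeterMatrix.E₈).Group := Nat.finite_of_card_ne_zero (by rw [hW]; norm_num)
  have hcard := Cfsg.Agent.S1065.result (F := F) rfl
  rw [← Nat.card_eq_fintype_card] at hcard
  refine row_cyc (D := chevE8) (by simp [IsType, typeList]) (CoxeterMatrix.E₈).toCoxeterSystem (by norm_num) (by omega)
    hd hpF (c := 1) (by rw [Nat.dvd_one]; omega) ?_ (m := 24) (by norm_num) (by decide)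
    (by rw [cyc_twentyfour]; exact_mod_cast not_dvd_of_lt (p := p) (n := 1) (by norm_num) (by omega)) fun hpm => ?_
  · rw [one_mul, hcard, pow_two]
    exact mul_dvd_mul (dvd_mul_of_dvd_right (sub_dvd_pow _ _) _) (sub_dvd_pow _ _)
  · obtain ⟨r, hr, hr2, hr4, -, hrq, hrm, hcyc⟩ := exists_prim (q := Nat.card F) (m := 24) hq2 (by norm_num) (by omega)
    refine ⟨r, hr, ?_, hrq, ?_, ?_, ?_, hcyc⟩
    · rintro rfl
      have := Nat.le_of_dvd (by norm_num) ((hrm 1).1 (by rwa [pow_one]))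
      omega
    · rw [hcard]
      refine dvd_mul_of_dvd_left (dvd_mul_of_dvd_right ?_ _) _
      rw [hrm]
    · rw [hW]
      exact not_dvd_of_lt_smooth hr [2, 2, 2, 2, 2, 2, 2, 2, 2, 2, 2, 2, 2, 2, 3, 3, 3, 3, 3, 5, 5, 7] (by norm_num)
        (by simp; omega)
    · exact not_dvd_of_lt_smooth hr [24] (by norm_num) (by simp; omega)

/-- the torus of order `q⁷ + 1`, `q` even -/
theorem torus_E7_even_add {q : ℕ} (hF : Fintype.card F = q) (h2 : ¬ 2 ∣ q - 1) :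
    ∃ T : Subgroup ↥(chevE7.group F), Nat.card ↥T = q ^ 7 + 1 ∧
      ∀ r : ℕ, r.Prime → 8 ≤ r → (r : ℤ) ∣ 1 - (q : ℤ) + (q : ℤ) ^ 2 - (q : ℤ) ^ 3 + (q : ℤ) ^ 4 - (q : ℤ) ^ 5 + (q : ℤ) ^ 6 →
        ∀ y ∈ T, orderOf y = r → Subgroup.centralizer {y} ≤ T := by
  have hq2 : 2 ≤ q := by rw [← hF]; exact Fintype.one_lt_card
  have hp : IsType chevE7 7 CoxeterMatrix.E₇ := by simp
  have : Finite CoxeterMatrix.E₇.Group := Nat.finite_of_card_ne_zero (by rw [card_W7]; norm_num)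
  have hco : Nat.gcd 2 (q - 1) = 1 := (Nat.Prime.coprime_iff_not_dvd Nat.prime_two).2 h2
  have hFd : ∀ a : F, ∃ b : F, b ^ 2 = a := by
    intro a
    by_cases ha : a = 0
    · exact ⟨0, by rw [ha]; exact zero_pow (by norm_num)⟩
    · have h1 : (Nat.card Fˣ).Coprime 2 := by
        rw [Nat.card_units, Nat.card_eq_fintype_card, hF]
        exact Nat.Coprime.symm hco
      obtain ⟨b, hb⟩ := (powCoprime h1).surjective (Units.mk0 a ha)
      refine ⟨b, ?_⟩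
      have h2 := congrArg Units.val hb
      rw [powCoprime_apply, Units.val_pow_eq_pow_val] at h2
      exact h2
  obtain ⟨T, h3, h4, h5, h6, -⟩ := H129.UntwT.untw_T hp CoxeterMatrix.E₇.toCoxeterSystem (by norm_num) hF
    H129.TorusChar.invC_E7 (by norm_num) H129.DataE7m.hA H129.DataE7m.chainOK H129.DataE7m.cycOK H129.DataE7m.rootOK
    (N := q ^ 7 + 1) (by rw [H129.DataE7m.fN_eq]; push_cast; ring) coprime_add (d := 1)
    (Or.inr ⟨rfl, hFd⟩)
  refine ⟨T, Nat.dvd_antisymm h4 (by rwa [one_mul] at h5), fun r hr hr8 hrd y hy hyr => ?_⟩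
  refine h6 r hr (not_dvd_W7 hr hr8) (fun s hs => ?_) y hy hyr
  rcases H129.DataE7m.dvd_of_G hrd s hs with h | h | h
  · have := Nat.le_of_dvd (by norm_num) (Int.natCast_dvd_natCast.1 (by exact_mod_cast h) : r ∣ 1)
    omega
  · have := Nat.le_of_dvd (by norm_num) (Int.natCast_dvd_natCast.1 (by exact_mod_cast h) : r ∣ 2)
    omega
  · have := Nat.le_of_dvd (by norm_num) (Int.natCast_dvd_natCast.1 (by exact_mod_cast h) : r ∣ 7)
    omega

theorem row_E7 [IsSimpleGroup ↥(chevE7.group F)] (hp5 : 5 ≤ p) (hd : p ∣ Nat.card ↥(chevE7.group F))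
    (hpF : ¬ p ∣ Nat.card F) : Row p ↥(chevE7.group F) := by
  have hq2 : 2 ≤ Nat.card F := by rw [Nat.card_eq_fintype_card]; exact Fintype.one_lt_card
  have hqF : Fintype.card F = Nat.card F := Nat.card_eq_fintype_card.symm
  have hcard := Cfsg.Agent.S1064.result (F := F) rfl
  rw [← Nat.card_eq_fintype_card] at hcard
  have hpc : ¬ p ∣ Nat.gcd 2 (Nat.card F - 1) := fun h => by
    have := Nat.le_of_dvd (by norm_num) (h.trans (Nat.gcd_dvd_left _ _))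
    omega
  obtain ⟨ℓ, hl', hch, -⟩ := exists_char F
  have hm0 : Nat.card F - 1 ≠ 0 := by omega
  refine row_of_Q hl' (q_group (D := chevE7) (l := 7) (M := CoxeterMatrix.E₇) (by simp) (by norm_num) F ℓ) (by omega)
    (char_ne hpF) hd hm0 (fun t ht => ht) (fun hpm => pow_succ_dvd hp.out hm0 hpm (c := Nat.gcd 2 (Nat.card F - 1)) ?_ hpc)
    fun hpm => ?_
  · rw [hcard, pow_two]
    exact mul_dvd_mul (dvd_mul_of_dvd_right (sub_dvd_pow _ _) _) (sub_dvd_pow _ _)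
  · obtain ⟨r, hr, hr2, hr4, -, hrq, hrm, hcyc⟩ := exists_prim (q := Nat.card F) (m := 14) hq2 (by norm_num) (by omega)
    have hdv := dvd_phi_fourteen hq2 hr hrm
    have hrT : r ∣ Nat.card F ^ 7 + 1 := dvd_pow_add_one_of_primitive hr (by norm_num) hrm
    have hpT : ¬ p ∣ Nat.card F ^ 7 + 1 := by
      intro h
      have h1 : p ∣ (Nat.card F ^ 7 + 1) - (Nat.card F ^ 7 - 1) := Nat.dvd_sub h (hpm.trans (sub_dvd_pow _ _))
      have h2 : 1 ≤ Nat.card F ^ 7 := Nat.one_le_pow _ _ (by omega)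
      have h3 : (Nat.card F ^ 7 + 1) - (Nat.card F ^ 7 - 1) = 2 := by omega
      rw [h3] at h1
      have := Nat.le_of_dvd (by norm_num) h1
      omega
    refine ⟨r, hr, ?_, ?_, ?_⟩
    · rintro rfl
      have := Nat.le_of_dvd (by norm_num) ((hrm 1).1 (by rwa [pow_one]))
      omega
    · have hT : r ∣ Nat.gcd 2 (Nat.card F - 1) * Nat.card ↥(chevE7.group F) := by
        rw [hcard]
        refine dvd_mul_of_dvd_left (dvd_mul_of_dvd_right ?_ _) _
        rw [hrm]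
      refine (hr.dvd_mul.1 hT).resolve_left fun h1 => ?_
      have := Nat.le_of_dvd (by norm_num) (h1.trans (Nat.gcd_dvd_left 2 _))
      omega
    · intro a x ha _ hx
      by_cases h2 : 2 ∣ Nat.card F - 1
      · obtain ⟨T, -, h3, h4⟩ := torus_E7_add hqF h2
        refine no_pair_of_T hr ?_ ?_ (h4 r hr (by omega) hdv) a x ha hx
        · exact (hr.dvd_mul.1 (h3 ▸ hrT)).resolve_left fun h => hr2 ((Nat.prime_dvd_prime_iff_eq hr Nat.prime_two).1 h)
        · exact fun h => hpT (h3 ▸ dvd_mul_of_dvd_right h _)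
      · obtain ⟨T, h3, h4⟩ := torus_E7_even_add hqF h2
        exact no_pair_of_T hr (h3 ▸ hrT) (h3 ▸ hpT) (h4 r hr (by omega) hdv) a x ha hx

end Rows

section Twisted

open Cfsg.Agent.H129 Cfsg.Agent.H129.TorusTw Cfsg.Agent.H129.RealT

variable {K : Type u} [Field K] [Fintype K] {q p : ℕ} [hp : Fact p.Prime]

theorem row_3D4 (hq : IsPrimePow q) (hK : Fintype.card K = q ^ 3) [IsSimpleGroup ↥(twistedD4 K q)] (hp5 : 5 ≤ p)
    (hd : p ∣ Nat.card ↥(twistedD4 K q)) (hpF : ¬ p ∣ Nat.card K) : Row p ↥(twistedD4 K q) := by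
  have hq2 : 2 ≤ q := hq.two_le
  have hKc : Nat.card K = q ^ 3 := by rw [Nat.card_eq_fintype_card, hK]
  have hpq : ¬ p ∣ q := fun h => hpF (by rw [hKc]; exact dvd_pow h (by norm_num))
  have hcard := Cfsg.Agent.S1067.result hq hK
  obtain ⟨ℓ, hl', hch, -⟩ := exists_char K
  have h8 : 8 ≤ q ^ 3 := by
    calc 8 = 2 ^ 3 := by norm_num
      _ ≤ q ^ 3 := Nat.pow_le_pow_left hq2 3
  have hm0 : Nat.card K - 1 ≠ 0 := by rw [hKc]; omega
  refine row_of_Q hl' (q_twD4 hq hK ℓ) (by omega) (char_ne hpF) hd hm0 (fun t ht => ht)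
    (fun hpm => pow_succ_dvd hp.out hm0 hpm (c := 1) ?_ (by rw [Nat.dvd_one]; omega)) fun hpm => ?_
  · rw [one_mul, hcard, hKc]
    have h1 : ((q : ℤ) ^ 3 - 1) ^ 2 ∣ (q : ℤ) ^ 12 * ((q : ℤ) ^ 2 - 1) * ((q : ℤ) ^ 6 - 1) * ((q : ℤ) ^ 8 + (q : ℤ) ^ 4 + 1) :=
      ⟨(q : ℤ) ^ 12 * (((q : ℤ) + 1) * ((q : ℤ) ^ 2 - q + 1) * ((q : ℤ) ^ 4 - (q : ℤ) ^ 2 + 1) * ((q : ℤ) ^ 3 + 1)), by ring⟩
    have a1 : 1 ≤ q ^ 3 := by omega
    have a2 : 1 ≤ q ^ 2 := Nat.one_le_pow _ _ (by omega)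
    have a3 : 1 ≤ q ^ 6 := Nat.one_le_pow _ _ (by omega)
    refine Int.natCast_dvd_natCast.1 ?_
    push_cast [Nat.cast_sub a1, Nat.cast_sub a2, Nat.cast_sub a3]
    exact h1
  · rw [hKc] at hpm
    have h0 : q ^ 2 ≤ q ^ 4 := Nat.pow_le_pow_right (by omega) (by norm_num)
    have hN : ((q ^ 4 - q ^ 2 + 1 : ℕ) : ℤ) = 1 - (q : ℤ) ^ 2 + (q : ℤ) ^ 4 := by
      push_cast [Nat.cast_sub h0]; ring
    obtain ⟨r, hr, hrq, hr2, hr3, hr5, hr7⟩ := S2373.exists_prime hq2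
    have hrN : r ∣ q ^ 4 - q ^ 2 + 1 := by
      have h1 := hrq
      rw [← hN] at h1
      exact Int.natCast_dvd_natCast.1 h1
    have hrW := TwD4Cyc.not_dvd_W hr hr2 hr3
    have hG : ∀ s, ¬ (r : ℤ) ∣ Gq DataD4C.B (q : ℤ) (DataD4C.R s) := by
      intro s hs
      have h1 := DataD4C.dvd_of_G hrq s hs
      exact hr.one_lt.ne' (Nat.dvd_one.1 (by exact_mod_cast h1))
    obtain ⟨T, -, h3, h5, -⟩ := TwT.tri_T hq hK DataD4C.hA DataD4C.chainOK DataD4C.hd_pi DataD4C.cycOK DataD4C.rootOK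
      DataD4C.chain2OK DataD4C.hd2_eq (N := q ^ 4 - q ^ 2 + 1)
      (by rw [DataD4C.fN_eq, hN]) (UntwData.coprime_of_eq (a := -(q : ℤ) + (q : ℤ) ^ 3) (by rw [hN]; ring))
    have hpT : ¬ p ∣ Nat.card ↥T := by
      rw [h3]
      intro h
      have b1 : (p : ℤ) ∣ 1 - (q : ℤ) ^ 2 + (q : ℤ) ^ 4 := by
        rw [← hN]; exact Int.natCast_dvd_natCast.2 h
      have b2 : (p : ℤ) ∣ (q : ℤ) ^ 3 - 1 := by
        have := Int.natCast_dvd_natCast.2 hpm
        have a1 : 1 ≤ q ^ 3 := by omega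
        push_cast [Nat.cast_sub a1] at this
        exact this
      have b3 : (p : ℤ) ∣ ((2 * q : ℕ) : ℤ) := by
        have e : ((2 * q : ℕ) : ℤ) = (1 - (q : ℤ) ^ 2 + (q : ℤ) ^ 4) * (1 + q) +
            ((q : ℤ) ^ 3 - 1) * (1 - (q : ℤ) - (q : ℤ) ^ 2) := by
          push_cast
          ring
        rw [e]
        exact dvd_add (dvd_mul_of_dvd_left b1 _) (dvd_mul_of_dvd_left b2 _)
      have b4 : p ∣ 2 * q := Int.natCast_dvd_natCast.1 b3
      rcases hp.out.dvd_mul.1 b4 with h | h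
      · have := Nat.le_of_dvd (by norm_num) h
        omega
      · exact hpq h
    refine ⟨r, hr, ?_, ?_, fun a x ha _ hx => no_pair_of_T hr (h3 ▸ hrN) hpT (h5 r hr hrW hG) a x ha hx⟩
    · rintro rfl
      exact hpT (h3 ▸ hrN)
    · exact (h3 ▸ hrN : r ∣ Nat.card ↥T).trans (Subgroup.card_subgroup_dvd_card T)

theorem row_2E6 (hq : IsPrimePow q) (hK : Fintype.card K = q ^ 2) [IsSimpleGroup ↥(twistedE6 K q)] (hp5 : 5 ≤ p)
    (hd : p ∣ Nat.card ↥(twistedE6 K q)) (hpF : ¬ p ∣ Nat.card K) : Row p ↥(twistedE6 K q) := by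
  have hq2 : 2 ≤ q := hq.two_le
  have hKc : Nat.card K = q ^ 2 := by rw [Nat.card_eq_fintype_card, hK]
  have hpq : ¬ p ∣ q := fun h => hpF (by rw [hKc]; exact dvd_pow h (by norm_num))
  have hcard := Cfsg.Agent.S1066.result hq hK
  obtain ⟨ℓ, hl', hch, -⟩ := exists_char K
  have h8 : 4 ≤ q ^ 2 := by nlinarith
  have hm0 : Nat.card K - 1 ≠ 0 := by rw [hKc]; omega
  have hpc : ¬ p ∣ Nat.gcd 3 (q + 1) := fun h => by
    have := Nat.le_of_dvd (by norm_num) (h.trans (Nat.gcd_dvd_left _ _))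
    omega
  refine row_of_Q hl' (q_twE6 hq hK ℓ) (by omega) (char_ne hpF) hd hm0 (fun t ht => ht)
    (fun hpm => pow_succ_dvd hp.out hm0 hpm (c := Nat.gcd 3 (q + 1)) ?_ hpc) fun hpm => ?_
  · rw [hcard, hKc, pow_two (q ^ 2 - 1)]
    have e1 : q ^ 2 - 1 ∣ q ^ 12 - 1 := by
      have := sub_dvd_pow (q ^ 2) 6
      rwa [← pow_mul] at this
    exact mul_dvd_mul (dvd_mul_of_dvd_left (dvd_mul_of_dvd_left (dvd_mul_of_dvd_left (dvd_mul_of_dvd_left
      (dvd_mul_of_dvd_right dvd_rfl _) _) _) _) _) e1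
  · rw [hKc] at hpm
    have h0 : q ^ 2 ≤ q ^ 4 := Nat.pow_le_pow_right (by omega) (by norm_num)
    have hle : q ≤ q ^ 2 := by nlinarith
    have hN : (((q ^ 4 - q ^ 2 + 1) * (q ^ 2 - q + 1) : ℕ) : ℤ) =
        1 - (q : ℤ) + (q : ℤ) ^ 3 - (q : ℤ) ^ 5 + (q : ℤ) ^ 6 := by
      push_cast [Nat.cast_sub h0, Nat.cast_sub hle]; ring
    obtain ⟨r, hr, hrq, hr2, hr3, hr5, hr7⟩ := S2373.exists_prime hq2
    have hr12 : r ∣ q ^ 4 - q ^ 2 + 1 := by
      have hN : ((q ^ 4 - q ^ 2 + 1 : ℕ) : ℤ) = 1 - (q : ℤ) ^ 2 + (q : ℤ) ^ 4 := by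
        push_cast [Nat.cast_sub h0]; ring
      have h1 := hrq
      rw [← hN] at h1
      exact Int.natCast_dvd_natCast.1 h1
    have hrW : ¬ r ∣ Nat.card CoxeterMatrix.E₆.Group := by
      rw [TwT.card_W6, show (51840 : ℕ) = 2 ^ 7 * 3 ^ 4 * 5 ^ 1 * 7 ^ 0 by norm_num]
      exact not_dvd_of hr hr2 hr3 hr5 hr7
    have hG : ∀ s, ¬ (r : ℤ) ∣ Gq DataTE6c.B (q : ℤ) (DataTE6c.R s) := by
      intro s hs
      rcases DataTE6c.dvd_of_G hrq s hs with h1 | h1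
      · exact hr.one_lt.ne' (Nat.dvd_one.1 (by exact_mod_cast h1))
      · exact hr2 ((Nat.prime_dvd_prime_iff_eq hr Nat.prime_two).1 (by exact_mod_cast h1))
    obtain ⟨T, -, h3, h4, h5, -⟩ := TwT.flip_T hq hK DataTE6c.hA DataTE6c.chainOK DataTE6c.hd_pi DataTE6c.cycOK
      DataTE6c.rootOK DataTE6c.chain2OK DataTE6c.hd2_eq (N := (q ^ 4 - q ^ 2 + 1) * (q ^ 2 - q + 1))
      (by rw [DataTE6c.fN_eq, hN]) (UntwData.coprime_of_eq (a := -1 + (q : ℤ) ^ 2 - (q : ℤ) ^ 4 + (q : ℤ) ^ 5)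
        (by rw [hN]; ring))
    have hrd : ¬ r ∣ Nat.gcd 3 (q + 1) := fun h =>
      hr3 ((Nat.prime_dvd_prime_iff_eq hr Nat.prime_three).1 (h.trans (Nat.gcd_dvd_left _ _)))
    have hrT : r ∣ Nat.card ↥T := dvd_of_dvd_mul hr (hr12.mul_right _) hrd h4
    have hpT : ¬ p ∣ Nat.card ↥T := by
      intro h
      have b1 : (p : ℤ) ∣ 1 - (q : ℤ) + (q : ℤ) ^ 3 - (q : ℤ) ^ 5 + (q : ℤ) ^ 6 := by
        rw [← hN]; exact Int.natCast_dvd_natCast.2 (h.trans h3)
      have b2 : (p : ℤ) ∣ (q : ℤ) ^ 2 - 1 := by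
        have := Int.natCast_dvd_natCast.2 hpm
        have a1 : 1 ≤ q ^ 2 := by omega
        push_cast [Nat.cast_sub a1] at this
        exact this
      have b3 : (p : ℤ) ∣ ((3 : ℕ) : ℤ) := by
        have e : ((3 : ℕ) : ℤ) = (1 - (q : ℤ) + (q : ℤ) ^ 3 - (q : ℤ) ^ 5 + (q : ℤ) ^ 6) * (2 + q) +
            ((q : ℤ) ^ 2 - 1) * (-(q : ℤ) ^ 5 - (q : ℤ) ^ 4 + (q : ℤ) ^ 3 - 2 * (q : ℤ) ^ 2 - (q : ℤ) - 1) := by
          push_cast
          ring
        rw [e]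
        exact dvd_add (dvd_mul_of_dvd_left b1 _) (dvd_mul_of_dvd_left b2 _)
      have := Nat.le_of_dvd (by norm_num) (Int.natCast_dvd_natCast.1 b3)
      omega
    refine ⟨r, hr, ?_, hrT.trans (Subgroup.card_subgroup_dvd_card T), fun a x ha _ hx =>
      no_pair_of_T hr hrT hpT (h5 r hr hrW hG) a x ha hx⟩
    rintro rfl
    exact hpT hrT

end Twisted

end Cfsg.Agent.H512.SylNum
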