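import Cfsg.Agent.H512.LinReal
import Cfsg.Agent.H512.RowExc
import Cfsg.Agent.H150.FarOrthThree
import Cfsg.Agent.H150.FarPSUTwo
import Cfsg.Agent.H150.FarPSL
import Cfsg.Agent.H150.FarSp

/-!
# Rows of the classical groups with an irreducible cyclic torus (for S3932)

`row_PSp`, `row_PO_minus`, `row_PSU_odd`, `row_PSL`.
-/

set_option autoImplicit false
set_option linter.style.haveILetI false
set_option linter.unusedSectionVars false

namespace Cfsg.Agent.H512.SylNum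

open Module Cfsg Cfsg.Agent.H150
open Cfsg.Agent.ChevalleyStructure.CoxeterGeom Cfsg.Agent.Tits.Roots
open Cfsg.Agent.Nodes.Comb Cfsg.Agent.Nodes.Reps Cfsg.Agent.Nodes.WittRoot Cfsg.Agent.Nodes.BNOf
open Cfsg.Agent.Nodes Cfsg.Agent.Nodes.RGDLib Cfsg.Agent.Nodes.WittAll Cfsg.Agent.Nodes.WittU Cfsg.Agent.Nodes.RGDChev
open Cfsg.Agent.Nodes.WittInst
open Cfsg.Agent.Nodes.WittRGD (Tor mem_Tor)
open Cfsg.Agent.TitsThree Cfsg.Agent.TitsThree.Siegel Cfsg.Agent.TitsThree.SiegelGen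
  Cfsg.Agent.TitsThree.WittFrame Cfsg.Agent.TitsThree.WBridge Cfsg.Agent.TitsThree.WittWeyl
  Cfsg.Agent.TitsThree.FrameCN
open Cfsg.Agent.H716.RGDAb (eq_one_of_fix finrank_V0)

/-! ### Arithmetic -/

/-- from a cube -/
theorem sq_dvd_of_cube {m N c : ℕ} (hc0 : c ≠ 0) (hc : c ∣ m) (h : m ^ 3 ∣ c * N) : m ^ 2 ∣ N := by
  obtain ⟨d, rfl⟩ := hc
  have h1 : c * ((c * d) ^ 2 * d) ∣ c * N := by
    have : c * ((c * d) ^ 2 * d) = (c * d) ^ 3 := by ring
    rwa [this]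
  exact (Dvd.intro _ rfl).trans (Nat.dvd_of_mul_dvd_mul_left (Nat.pos_of_ne_zero hc0) h1)

theorem pow_succ_dvd_of_sq {p m N : ℕ} (hp : p.Prime) (hm0 : m ≠ 0) (hpm : p ∣ m) (h : m ^ 2 ∣ N) :
    p ^ (m.factorization p + 1) ∣ N :=
  pow_succ_dvd hp hm0 hpm (c := 1) (by rwa [one_mul]) (by
    rw [Nat.dvd_one]
    exact hp.one_lt.ne')

theorem card_sub_one_dvd (q : ℕ) (k : ℕ) : q - 1 ∣ q ^ k - 1 := sub_dvd_pow q k

/-- the first factors of the product -/
theorem sq_dvd_prod {q n : ℕ} (hn : 2 ≤ n) : (q - 1) ^ 2 ∣ ∏ i ∈ Finset.range n, (q ^ (2 * (i + 1)) - 1) := by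
  obtain ⟨k, rfl⟩ := Nat.exists_eq_add_of_le hn
  rw [Finset.prod_range_add, Finset.prod_range_succ, Finset.prod_range_one, pow_two]
  exact dvd_mul_of_dvd_left (mul_dvd_mul (sub_dvd_pow _ _) (sub_dvd_pow _ _)) _

theorem sq_sub_dvd (q k : ℕ) : q ^ 2 - 1 ∣ q ^ (2 * k) - 1 := by
  rw [pow_mul]
  exact sub_dvd_pow _ _

/-- the first factors of the product -/
theorem cube_dvd_prod {q n : ℕ} (hn : 3 ≤ n) : (q ^ 2 - 1) ^ 3 ∣ ∏ i ∈ Finset.range n, (q ^ (2 * (i + 1)) - 1) := by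
  obtain ⟨k, rfl⟩ := Nat.exists_eq_add_of_le hn
  rw [Finset.prod_range_add, Finset.prod_range_succ, Finset.prod_range_succ, Finset.prod_range_one, pow_succ, pow_two]
  exact dvd_mul_of_dvd_left (mul_dvd_mul (mul_dvd_mul (sq_sub_dvd _ _) (sq_sub_dvd _ _)) (sq_sub_dvd _ _)) _

theorem not_dvd_gcd_two {p c : ℕ} (hp : p.Prime) (hp2 : p ≠ 2) : ¬ p ∣ Nat.gcd 2 c := fun h =>
  hp2 ((Nat.prime_dvd_prime_iff_eq hp Nat.prime_two).1 (h.trans (Nat.gcd_dvd_left _ _)))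

theorem not_dvd_gcd_four {p c : ℕ} (hp : p.Prime) (hp2 : p ≠ 2) : ¬ p ∣ Nat.gcd 4 c := fun h => by
  have h3 : p ∣ 2 ^ 2 := h.trans (Nat.gcd_dvd_left _ _)
  exact hp2 ((Nat.prime_dvd_prime_iff_eq hp Nat.prime_two).1 (hp.dvd_of_dvd_pow h3))

/-- a prime with order at least 3 is not a divisor of `q - 1` -/
theorem ne_of_primitive {q p r k : ℕ} (hk : 2 ≤ k) (hpm : p ∣ q - 1) (hrm : ∀ j, r ∣ q ^ j - 1 ↔ k ∣ j) : r ≠ p := by
  rintro rfl
  have h1 := (hrm 1).1 (by rwa [pow_one])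
  have := Nat.le_of_dvd one_pos h1
  omega

/-! ### Symplectic groups -/

section Rows

variable {F : Type*} [Field F] [Fintype F] {p : ℕ} [hp : Fact p.Prime]

theorem card_ne {F : Type*} [Field F] [Fintype F] (n : ℕ) (hn : 1 ≤ n) :
    Nat.gcd 2 (Fintype.card F - 1) * Nat.card (PSp n F) =
      Fintype.card F ^ (n ^ 2) * ∏ i ∈ Finset.range n, (Fintype.card F ^ (2 * (i + 1)) - 1) := by
  rw [← Cfsg.Agent.S0245.result (F := F) rfl n, ← Cfsg.Agent.S0246.result (F := F) rfl n hn, mul_comm]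
  exact ((Subgroup.center (Matrix.symplecticGroup (Fin n) F)).card_eq_card_quotient_mul_card_subgroup).symm

theorem row_PSp {n : ℕ} (hn : 2 ≤ n) [IsSimpleGroup (PSp n F)] (hna : ∃ a b : PSp n F, a * b ≠ b * a) (hp5 : 5 ≤ p)
    (hpF : ¬ p ∣ Fintype.card F) (hd : p ∣ Nat.card (PSp n F)) : Row p (PSp n F) := by
  obtain ⟨ℓ, hl, hch, -⟩ := exists_char F
  haveI := Fact.mk hl
  have hqe : Nat.card F = Fintype.card F := Nat.card_eq_fintype_card
  have hA := AmbT.of_amb (amb_Sp (F := F) (m := n)) ℓ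
  have hF1 : 1 < Fintype.card F := Fintype.one_lt_card
  have hm0 : Nat.card F - 1 ≠ 0 := by omega
  have hcard := card_ne (F := F) n (by omega)
  refine row_full hl ?_ hna (real_C (KInstSp.model n F) hA (p0 := SpIdent.adm 1) one_ne_zero (by omega)
    (m := Nat.card F - 1) fun g hg => tor_pow_of_le_one hA ⟨0, fun w hw => ⟨0, ?_⟩⟩ dvd_rfl hg) ?_ (by omega)
    (char_ne (by rwa [hqe])) hd hm0 (fun hpm => pow_succ_dvd hp.out hm0 hpm (c := Nat.gcd 2 (Fintype.card F - 1)) ?_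
      (not_dvd_gcd_two hp.out (by omega))) fun hpm => ?_
  · rw [Module.finrank_fintype_fun_eq_card, Fintype.card_sum, Fintype.card_fin]
    omega
  · rw [smul_zero]
    exact (Submodule.mem_bot F).1 hw
  · exact exists_frame_ne _ (by omega)
  · rw [hcard, hqe]
    exact dvd_mul_of_dvd_right (sq_dvd_prod hn) _
  · obtain ⟨r, hr, hr2, hrF, hk, hrm⟩ := exists_primitive_prime (F := F) (k := 2 * n) (by omega) (by
      rintro ⟨h, -⟩
      rw [hqe, h] at hpm
      have := Nat.le_of_dvd (by norm_num) hpm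
      omega)
    refine ⟨r, hr, ne_of_primitive (by omega) (by rwa [hqe] at hpm) hrm, ?_, hrF, ?_⟩
    · refine dvd_card_psp (by omega) hr hr2 (dvd_card_sp (k := 2 * n) (ηk := n) (m := n) ?_ dvd_rfl (by omega) le_rfl)
      have := pow_orderOf_modEq (F := F) (r := r)
      rwa [hk, hqe] at this
    · rw [hk, Module.finrank_fintype_fun_eq_card, Fintype.card_sum, Fintype.card_fin]
      omega

/-! ### Unitary groups of odd degree -/

theorem V0_le_one {V : Type*} [AddCommGroup V] [Module F V] [FiniteDimensional F V] {H : HForm F V} {n : ℕ}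
    {Fr : Frame H (Fin n)} (h : finrank F V ≤ 2 * n + 1) : ∃ w0 : V, ∀ w ∈ Fr.V0, ∃ a : F, w = a • w0 := by
  have hdim := finrank_V0 (Fr := Fr)
  have h1 : Module.finrank F ↥Fr.V0 ≤ 1 := by omega
  obtain ⟨v, hv⟩ := finrank_le_one_iff.1 h1
  refine ⟨v.1, fun w hw => ?_⟩
  obtain ⟨c, hc⟩ := hv ⟨w, hw⟩
  exact ⟨c, (congrArg Subtype.val hc).symm⟩

/-- the factors of the order of the unitary group -/
theorem psu_card {q n : ℕ} (hF : Fintype.card F = q ^ 2) (hn : 2 ≤ n) :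
    (∏ i ∈ Finset.range (n - 1), (if Even i then q ^ (i + 2) - 1 else q ^ (i + 2) + 1)) ∣
      Nat.gcd n (q + 1) * Nat.card (PSU n F q) := by
  have h := Cfsg.Agent.S0280.result (F := F) hF n hn
  obtain ⟨k, rfl⟩ : ∃ k, n = k + 1 := ⟨n - 1, by omega⟩
  rw [Finset.prod_range_succ'] at h
  rw [if_pos (by decide), zero_add, pow_one] at h
  have h1 : (q + 1) * (Nat.gcd (k + 1) (q + 1) * Nat.card (PSU (k + 1) F q)) =
      (q + 1) * (q ^ ((k + 1) * (k + 1 - 1) / 2) * ∏ i ∈ Finset.range k,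
        (if Even (i + 1) then q ^ (i + 1 + 1) + 1 else q ^ (i + 1 + 1) - 1)) := by
    calc (q + 1) * (Nat.gcd (k + 1) (q + 1) * Nat.card (PSU (k + 1) F q)) =
        Nat.gcd (k + 1) (q + 1) * ((q + 1) * Nat.card (PSU (k + 1) F q)) := by ring
      _ = _ := by rw [h]; ring
  have h2 := Nat.eq_of_mul_eq_mul_left (by omega) h1
  rw [h2, Nat.add_sub_cancel]
  refine dvd_mul_of_dvd_right (dvd_of_eq (Finset.prod_congr rfl fun i _ => ?_)) _
  by_cases hi : Even i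
  · rw [if_pos hi, if_neg (by rw [Nat.even_add_one]; exact not_not.2 hi)]
  · rw [if_neg hi, if_pos (by rw [Nat.even_add_one]; exact hi)]

theorem add_one_dvd (q : ℕ) (k : ℕ) (hk : Odd k) : q + 1 ∣ q ^ k + 1 := by
  have h1 := hk.nat_add_dvd_pow_add_pow q 1
  rwa [one_pow] at h1

/-- the square of the exponent of the torus divides the order, `n ≥ 4` -/
theorem psu_sq {q n : ℕ} (hF : Fintype.card F = q ^ 2) (hn : 4 ≤ n) :
    (q ^ 2 - 1) ^ 2 ∣ Nat.card (PSU n F q) := by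
  have h := psu_card (F := F) hF (n := n) (by omega)
  obtain ⟨k, hk⟩ := Nat.exists_eq_add_of_le (show 3 ≤ n - 1 by omega)
  rw [hk, Finset.prod_range_add, Finset.prod_range_succ, Finset.prod_range_succ, Finset.prod_range_one,
    if_pos (by decide), if_neg (by decide), if_pos (by decide)] at h
  have h1 : (q ^ 2 - 1) * (q ^ 3 + 1) * (q ^ 4 - 1) ∣ Nat.gcd n (q + 1) * Nat.card (PSU n F q) :=
    (Dvd.intro _ rfl).trans h
  obtain ⟨d, hd⟩ := Nat.gcd_dvd_right n (q + 1)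
  have hg : 0 < Nat.gcd n (q + 1) := Nat.gcd_pos_of_pos_left _ (by omega)
  have h2 : Nat.gcd n (q + 1) * ((q ^ 2 - 1) ^ 2 * d) ∣ Nat.gcd n (q + 1) * Nat.card (PSU n F q) := by
    refine dvd_trans ?_ h1
    have e : Nat.gcd n (q + 1) * ((q ^ 2 - 1) ^ 2 * d) = (q ^ 2 - 1) * (q + 1) * (q ^ 2 - 1) := by
      calc Nat.gcd n (q + 1) * ((q ^ 2 - 1) ^ 2 * d) = (q ^ 2 - 1) * (Nat.gcd n (q + 1) * d) * (q ^ 2 - 1) := by ring
        _ = _ := by rw [← hd]
    rw [e]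
    exact mul_dvd_mul (mul_dvd_mul dvd_rfl (add_one_dvd q 3 (by decide))) (sq_sub_dvd q 2)
  exact (Dvd.intro _ rfl).trans (Nat.dvd_of_mul_dvd_mul_left hg h2)

/-- the case `n = 3` -/
theorem psu_three {q : ℕ} (hF : Fintype.card F = q ^ 2) (hp5 : 5 ≤ p) (hpq : p ∣ q + 1) :
    p ^ ((q ^ 2 - 1).factorization p + 1) ∣ Nat.card (PSU 3 F q) := by
  have h := psu_card (F := F) hF (n := 3) (by omega)
  rw [show 3 - 1 = 2 from rfl, Finset.prod_range_succ, Finset.prod_range_one, if_pos (by decide),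
    if_neg (by decide)] at h
  have h1 : p ^ ((q ^ 2 - 1).factorization p + 1) ∣ Nat.gcd 3 (q + 1) * Nat.card (PSU 3 F q) := by
    refine dvd_trans ?_ h
    rw [pow_succ]
    exact mul_dvd_mul (Nat.ordProj_dvd _ _) (hpq.trans (add_one_dvd q 3 (by decide)))
  refine (Nat.Coprime.pow_left _ ((hp.out.coprime_iff_not_dvd).2 fun h3 => ?_)).dvd_of_dvd_mul_left h1
  have := Nat.le_of_dvd (by norm_num) (h3.trans (Nat.gcd_dvd_left 3 (q + 1)))
  omega

theorem row_PSU_odd {q n : ℕ} (hF : Fintype.card F = q ^ 2) (hn : 3 ≤ n) (hodd : Odd n) (hex : ¬ (n = 3 ∧ q = 2))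
    [IsSimpleGroup (PSU n F q)] (hna : ∃ a b : PSU n F q, a * b ≠ b * a) (hp5 : 5 ≤ p) (hn3 : n = 3 → ¬ p ∣ q - 1)
    (hpF : ¬ p ∣ Fintype.card F) (hd : p ∣ Nat.card (PSU n F q)) : Row p (PSU n F q) := by
  obtain ⟨ℓ, hl, hch, -⟩ := exists_char F
  haveI := Fact.mk hl
  have hqe : Nat.card F = Fintype.card F := Nat.card_eq_fintype_card
  obtain ⟨m, hm⟩ : ∃ m, n = 2 * m ∨ n = 2 * m + 1 := ⟨n / 2, by omega⟩
  obtain ⟨W, -⟩ := exists_wframe hF hm
  obtain ⟨p0, hp0, -⟩ := exists_adm hF W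
  have hA := AmbT.of_amb (amb_U hF W) ℓ
  have hF1 : 1 < Fintype.card F := Fintype.one_lt_card
  have hm0 : q ^ 2 - 1 ≠ 0 := by rw [← hF]; omega
  have hq2 : 2 ≤ q := by
    rcases Nat.lt_or_ge q 2 with h | h
    · interval_cases q <;> omega
    · exact h
  have hVn : finrank F (Fin n → F) = n := by rw [Module.finrank_fintype_fun_eq_card, Fintype.card_fin]
  refine row_full hl (by rw [hVn]; omega) hna (real_C (KInstU.model hF hn W) hA hp0 (by omega)
    (m := q ^ 2 - 1) fun g hg => tor_pow_of_le_one hA (V0_le_one (by rw [hVn]; omega)) (by rw [hqe, hF]) hg)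
    (exists_frame_ne _ (by omega)) (by omega)
    (char_ne (by rwa [hqe])) hd hm0 (fun hpm => ?_) fun hpm => ?_
  · rcases Nat.lt_or_ge n 4 with h4 | h4
    · obtain rfl : n = 3 := by omega
      have h5 : q ^ 2 - 1 = (q + 1) * (q - 1) := by
        have := Nat.sq_sub_sq q 1
        rwa [one_pow] at this
      have hpq : p ∣ q + 1 := by
        rw [h5] at hpm
        exact (hp.out.dvd_mul.1 hpm).resolve_right (hn3 rfl)
      exact psu_three hF hp5 hpq
    · exact pow_succ_dvd_of_sq hp.out hm0 hpm (psu_sq hF h4)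
  · obtain ⟨r, hr, hrm, hrd, hrq⟩ := Cfsg.Agent.Lib.Zsigmondy.exists_primitive (a := q) (n := 2 * n)
      hq2 (by omega) (by omega) (by omega)
    refine ⟨r, hr, ?_, dvd_card_psu hF (by omega) hr (not_dvd_add_one hrm (by omega)) (i := n - 1) (by omega) ?_,
      ?_, ?_⟩
    · rintro rfl
      have := Nat.le_of_dvd two_pos ((hrm 2).1 hpm)
      omega
    · have hev2 : Even (n - 1) := by
        obtain ⟨a, ha⟩ := hodd
        exact ⟨a, by omega⟩
      rw [if_pos hev2, show n - 1 + 1 = n by omega]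
      exact dvd_pow_add_one_of_primitive hr (by omega) hrm
    · refine natCast_ne_zero_of_not_dvd hr ?_
      rw [hqe, hF]
      exact fun h => hrq (hr.dvd_of_dvd_pow h)
    · rw [orderOf_card_sq hF (by omega) hrm fun m => Nat.mul_dvd_mul_iff_left two_pos, hVn]

end Rows

end Cfsg.Agent.H512.SylNum
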