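import Cfsg.Agent.H512.RowClassI

/-!
# The rows of `PSU_n`, `n` even, and `PΩ_{2n+1}` (for S3932)
-/

set_option autoImplicit false
set_option linter.style.haveILetI false
set_option linter.unusedSectionVars false

namespace Cfsg.Agent.H512.SylNum

open Module Cfsg Cfsg.Agent.H150
open Cfsg.Agent.ChevalleyStructure.CoxeterGeom Cfsg.Agent.Tits.Roots
open Cfsg.Agent.Nodes.Comb Cfsg.Agent.Nodes.Reps Cfsg.Agent.Nodes.WittRoot Cfsg.Agent.Nodes.BNOf
open Cfsg.Agent.Nodes Cfsg.Agent.Nodes.RGDLib Cfsg.Agent.Nodes.WittAll Cfsg.Agent.Nodes.WittU Cfsg.Agent.Nodes.RGDChev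
open Cfsg.Agent.Nodes.WittInst
open Cfsg.Agent.Nodes.WittRGD (Tor mem_Tor)
open Cfsg.Agent.TitsThree Cfsg.Agent.TitsThree.Siegel Cfsg.Agent.TitsThree.SiegelGen
  Cfsg.Agent.TitsThree.WittFrame Cfsg.Agent.TitsThree.WBridge Cfsg.Agent.TitsThree.WittWeyl
  Cfsg.Agent.TitsThree.FrameCN
open Cfsg.Agent.H716.RGDAb (eq_one_of_fix finrank_V0)
open QuadraticMap
open Cfsg.Agent.LieClassical Cfsg.Agent.LieClassical.OrthCore Cfsg.Agent.LieClassical.OrthTrans
open Cfsg.Agent.LieClassical.OrthSimple Cfsg.Agent.LieClassical.OrthFinite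
open Cfsg.Agent.LieClassical.OrthForms
open Cfsg.Agent.TitsThree.KSideO Cfsg.Agent.TitsThree.StdData

section Move

variable {F : Type*} [Field F] {V : Type*} [AddCommGroup V] [Module F V] [FiniteDimensional F V] {H : HForm F V}

theorem finrank_ker_le [Finite F] {r : ℕ} (hr : r.Prime) (hrF : (r : F) ≠ 0) {x : V →ₗ[F] V} (hx : x ^ r = 1)
    (hx1 : x ≠ 1) : finrank F (LinearMap.ker (x - 1)) + orderOf ((Nat.card F : ℕ) : ZMod r) ≤ finrank F V := by
  have hxW : ∀ w ∈ LinearMap.range (x - 1), x w ∈ LinearMap.range (x - 1) := by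
    rintro _ ⟨v, rfl⟩
    refine ⟨x v, ?_⟩
    rw [LinearMap.sub_apply, LinearMap.sub_apply, Module.End.one_apply, Module.End.one_apply, map_sub]
  have h1 := dvd_finrank_of_fpf_submodule hr x hx _ hxW (fpf_range hrF x hx)
  have h2 : 0 < finrank F (LinearMap.range (x - 1)) := by
    rw [Nat.pos_iff_ne_zero]
    intro h
    have h3 := Submodule.finrank_eq_zero.1 h
    rw [LinearMap.range_eq_bot, sub_eq_zero] at h3
    exact hx1 h3
  have h3 := Nat.le_of_dvd h2 h1
  have h4 := LinearMap.finrank_range_add_finrank_ker (x - 1)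
  omega

/-- an isometry with a one-dimensional fixed space moves all isotropic vectors -/
theorem move_of_line {r : ℕ} (hrF : (r : F) ≠ 0) {X : V ≃ₗ[F] V} (hiso : ∀ v w, H.h (X v) (X w) = H.h v w)
    (hXr : (X : V →ₗ[F] V) ^ r = 1) (hker : finrank F (LinearMap.ker ((X : V →ₗ[F] V) - 1)) ≤ 1)
    (hnd : ∀ v, (∀ w, H.h v w = 0) → v = 0) {b : V} (hb0 : b ≠ 0) (hb : H.h b b = 0) : X b ≠ b := by
  intro hX
  apply hb0
  apply hnd
  intro w
  have hbK : b ∈ LinearMap.ker ((X : V →ₗ[F] V) - 1) := by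
    rw [LinearMap.mem_ker, LinearMap.sub_apply, Module.End.one_apply, sub_eq_zero]
    exact hX
  obtain ⟨v0, hv0⟩ := finrank_le_one_iff.1 hker
  have hline : ∀ k ∈ LinearMap.ker ((X : V →ₗ[F] V) - 1), ∃ c : F, k = c • b := by
    intro k hk
    obtain ⟨c, hc⟩ := hv0 ⟨k, hk⟩
    obtain ⟨d, hd⟩ := hv0 ⟨b, hbK⟩
    have hd' : d • v0.1 = b := congrArg Subtype.val hd
    have hc' : c • v0.1 = k := congrArg Subtype.val hc
    have hd0 : d ≠ 0 := fun h => hb0 (by rw [← hd', h, zero_smul])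
    refine ⟨c * d⁻¹, ?_⟩
    rw [← hd', smul_smul, mul_assoc, inv_mul_cancel₀ hd0, mul_one, hc']
  obtain ⟨k, hk, u, ⟨y, rfl⟩, rfl⟩ := Submodule.mem_sup.1
    (show w ∈ LinearMap.ker ((X : V →ₗ[F] V) - 1) ⊔ LinearMap.range ((X : V →ₗ[F] V) - 1) by
      rw [(isCompl_fix hrF _ hXr).sup_eq_top]; trivial)
  obtain ⟨c, rfl⟩ := hline k hk
  rw [H.add_right, H.smul_right, hb, mul_zero, zero_add, LinearMap.sub_apply, Module.End.one_apply]
  have h1 : H.h b (X y - y) = H.h b (X y) - H.h b y := by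
    rw [sub_eq_add_neg, H.add_right, ← neg_one_smul F y, H.smul_right, map_neg, map_one]
    ring
  have h2 : H.h b (X y) = H.h b y := by
    conv_lhs => rw [← hX]
    exact hiso b y
  show H.h b (X y - y) = 0
  rw [h1, h2, sub_self]

end Move

section Frame

variable {F : Type*} [Field F] {V : Type*} [AddCommGroup V] [Module F V] {H : HForm F V} {n : ℕ}
  {Fr : Frame H (Fin n)} {G0 : Subgroup (V ≃ₗ[F] V)}

theorem frame_isotropic (x : Fin n × Bool) : H.h (Fr.b x) (Fr.b x) = 0 := by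
  rw [Fr.hb, if_neg]
  rintro ⟨-, h⟩
  exact h rfl

theorem frame_ne_zero (x : Fin n × Bool) : Fr.b x ≠ 0 := by
  intro h
  have h1 := Fr.hb_neg_self x
  have h2 := Fr.η_ne x
  rw [h] at h1
  rw [← h1] at h2
  exact h2 (H.zero_right _)

/-- a linear map scalar on the frame is scalar if there is no anisotropic part -/
theorem scalar_of_frame (hV : ∀ v, (∀ x, H.h v (Fr.b x) = 0) → v ∈ Fr.V0) (h0 : Fr.V0 = ⊥) (hn : 0 < n)
    {A : V ≃ₗ[F] V} {c : F} (hA : ∀ b ∈ Set.range Fr.b, A b = c • b) : ∀ v, A v = c • v := by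
  have hc : c ≠ 0 := by
    rintro rfl
    have h1 := hA _ ⟨(⟨0, hn⟩, true), rfl⟩
    rw [zero_smul] at h1
    exact frame_ne_zero _ ((LinearEquiv.map_eq_zero_iff A).1 h1)
  let s : V ≃ₗ[F] V := LinearEquiv.smulOfNeZero F V c⁻¹ (inv_ne_zero hc)
  have hs : ∀ v, s v = c⁻¹ • v := fun v => rfl
  have h1 : s * A = 1 := by
    refine eq_one_of_fix hV (fun x => ?_) fun w hw => ?_
    · show s (A (Fr.b x)) = _
      rw [hA _ ⟨x, rfl⟩, hs, smul_smul, inv_mul_cancel₀ hc, one_smul]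
    · rw [h0, Submodule.mem_bot] at hw
      rw [hw, map_zero]
  intro v
  have h2 : s (A v) = v := by
    show (s * A) v = v
    rw [h1]
    rfl
  rw [hs] at h2
  calc A v = c • (c⁻¹ • A v) := by rw [smul_smul, mul_inv_cancel₀ hc, one_smul]
    _ = c • v := by rw [h2]

end Frame

section Rows

variable {F : Type*} [Field F] [Fintype F] {p : ℕ} [hp : Fact p.Prime]

theorem row_PSU_even {q n : ℕ} (hF : Fintype.card F = q ^ 2) (hn : 4 ≤ n) (hev : Even n)
    [IsSimpleGroup (PSU n F q)] (hna : ∃ a b : PSU n F q, a * b ≠ b * a) (hp5 : 5 ≤ p)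
    (hpF : ¬ p ∣ Fintype.card F) (hd : p ∣ Nat.card (PSU n F q)) : Row p (PSU n F q) := by
  obtain ⟨ℓ, hl, hch, -⟩ := exists_char F
  haveI := Fact.mk hl
  have hqe : Nat.card F = Fintype.card F := Nat.card_eq_fintype_card
  obtain ⟨m, hm2⟩ : ∃ m, n = 2 * m := ⟨n / 2, by obtain ⟨a, ha⟩ := hev; omega⟩
  have hm : n = 2 * m ∨ n = 2 * m + 1 := Or.inl hm2
  obtain ⟨W, -⟩ := exists_wframe hF hm
  obtain ⟨p0, hp0, -⟩ := exists_adm hF W
  have hA := AmbT.of_amb (amb_U hF W) ℓ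
  have hF1 : 1 < Fintype.card F := Fintype.one_lt_card
  have hm0 : q ^ 2 - 1 ≠ 0 := by rw [← hF]; omega
  have hq2 : 2 ≤ q := by
    rcases Nat.lt_or_ge q 2 with h | h
    · interval_cases q <;> omega
    · exact h
  have hVn : finrank F (Fin n → F) = n := by rw [Module.finrank_fintype_fun_eq_card, Fintype.card_fin]
  haveI : Nontrivial (Fin n → F) := Module.nontrivial_of_finrank_pos (R := F) (by omega)
  have hV0 : (toFrame W).V0 = ⊥ := by
    have hdim := finrank_V0 (Fr := toFrame W)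
    rw [hVn] at hdim
    exact Submodule.finrank_eq_zero.1 (by omega)
  refine row_frame hl (real_C (KInstU.model hF (by omega) W) hA hp0 (by omega)
    (m := q ^ 2 - 1) fun g hg => tor_pow_of_le_one hA (V0_le_one (by rw [hVn]; omega)) (by rw [hqe, hF]) hg)
    ⟨_, (exists_frame_ne _ (by omega)).choose_spec.1⟩ ?_ (by omega) (char_ne (by rwa [hqe])) hd hm0
    (fun hpm => pow_succ_dvd_of_sq hp.out hm0 hpm (psu_sq hF hn)) fun hpm => ?_
  · intro A c hAc
    have h1 := scalar_of_frame hA.V0 hV0 (by omega) hAc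
    have h2 := scalar_ker hna (real_C (KInstU.model hF (by omega) W) hA hp0 (by omega)
      (m := q ^ 2 - 1) fun g hg => tor_pow_of_le_one hA (V0_le_one (by rw [hVn]; omega)) (by rw [hqe, hF]) hg).surj
        (A := A) h1
    rw [h2, one_pow]
  · obtain ⟨r, hr, hrm, hrd, hrq⟩ := Cfsg.Agent.Lib.Zsigmondy.exists_primitive (a := q) (n := 2 * (n - 1))
      hq2 (by omega) (by omega) (by
        rintro ⟨rfl, -⟩
        have := Nat.le_of_dvd (by norm_num) hpm
        omega)
    have hrF : (r : F) ≠ 0 := by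
      refine natCast_ne_zero_of_not_dvd hr ?_
      rw [hqe, hF]
      exact fun h => hrq (hr.dvd_of_dvd_pow h)
    have hord : orderOf ((Nat.card F : ℕ) : ZMod r) = n - 1 :=
      orderOf_card_sq hF (by omega) hrm fun m => Nat.mul_dvd_mul_iff_left two_pos
    refine ⟨r, hr, ?_, dvd_card_psu hF (by omega) hr (not_dvd_add_one hrm (by omega)) (i := n - 2) (by omega) ?_,
      hrF, by rw [hord]; omega, by rw [hord, hVn]; omega, ?_⟩
    · rintro rfl
      have := Nat.le_of_dvd two_pos ((hrm 2).1 hpm)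
      omega
    · have hev2 : Even (n - 2) := by
        obtain ⟨a, ha⟩ := hev
        exact ⟨a - 1, by omega⟩
      rw [if_pos hev2, show n - 2 + 1 = n - 1 by omega]
      exact dvd_pow_add_one_of_primitive hr (by omega) hrm
    · rintro X hXr hX1 _ ⟨x, rfl⟩
      have hXr' : (X.1 : (Fin n → F) →ₗ[F] (Fin n → F)) ^ r = 1 := by
        rw [← coe_pow_lin, hXr]
        rfl
      have hX1' : (X.1 : (Fin n → F) →ₗ[F] (Fin n → F)) ≠ 1 := by
        intro h
        apply hX1
        ext1 v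
        exact LinearMap.congr_fun h v
      have hker := (finrank_ker_le hr hrF hXr' hX1').trans hVn.le
      rw [hord] at hker
      refine move_of_line hrF (hA.iso X.1 X.2) hXr' (by omega) (fun v hv => ?_) (frame_ne_zero x) (frame_isotropic x)
      have h1 := hA.V0 v fun x => hv _
      rwa [hV0, Submodule.mem_bot] at h1

/-- an element scalar on the frame is an involution -/
theorem sq_of_frame_O {ι : Type} [Fintype ι] [DecidableEq ι] {Q : QuadraticForm F (ι → F)} {n : ℕ}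
    (W : WFrame (PO Q) n) (hn : 0 < n) {ℓ : ℕ} (hA : AmbT (toFrame W) ℓ (E Q))
    (hd : ∃ w0 : ι → F, ∀ w ∈ (toFrame W).V0, ∃ a : F, w = a • w0)
    {A : (ι → F) ≃ₗ[F] (ι → F)} (hAE : A ∈ E Q) {c : F} (hc : ∀ b ∈ Set.range (toFrame W).b, A b = c • b) : A ^ 2 = 1 := by
  have hpol : ∀ v w, polar Q (A v) (A w) = polar Q v w := fun v w => polar_map (E_le_O hAE) v w
  have hcc : c * c = 1 := by
    set x : Fin n × Bool := (⟨0, hn⟩, true) with hx
    have h1 : polar Q ((toFrame W).b (WittFrame.neg x)) ((toFrame W).b x) = (toFrame W).η x := (toFrame W).hb_neg_self x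
    have h2 := hpol ((toFrame W).b (WittFrame.neg x)) ((toFrame W).b x)
    rw [hc _ ⟨_, rfl⟩, hc _ ⟨_, rfl⟩, polar_smul_left, polar_smul_right, h1, smul_eq_mul, smul_eq_mul, ← mul_assoc] at h2
    exact mul_right_cancel₀ ((toFrame W).η_ne x) (by rw [h2, one_mul])
  have hc0 : c ≠ 0 := by
    rintro rfl
    rw [mul_zero] at hcc
    exact zero_ne_one hcc
  have hmono : Mono (toFrame W) A id := fun x => ⟨c, hc0, hc _ ⟨x, rfl⟩⟩
  have hV0 : ∀ w ∈ (toFrame W).V0, A w ∈ (toFrame W).V0 := fun w hw => hA.map_V0 hAE hmono (ρ := id) (fun _ => rfl) hw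
  refine eq_one_of_fix hA.V0 (fun x => ?_) fun w hw => ?_
  · rw [pow_two]
    show A (A _) = _
    rw [hc _ ⟨x, rfl⟩, map_smul, hc _ ⟨x, rfl⟩, smul_smul, hcc, one_smul]
  · by_cases hw1 : w = 0
    · rw [hw1, map_zero]
    obtain ⟨w0, hw0⟩ := hd
    obtain ⟨a, ha⟩ := hw0 w hw
    have ha0 : a ≠ 0 := fun h => hw1 (by rw [ha, h, zero_smul])
    obtain ⟨b, hb⟩ := hw0 (A w) (hV0 w hw)
    set d := b * a⁻¹ with hd
    have hAw : A w = d • w := by
      rw [hb, ha, smul_smul, hd, mul_assoc, inv_mul_cancel₀ ha0, mul_one]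
    have hQw : Q w ≠ 0 := by
      intro h
      apply hw1
      apply hA.ok_aniso
      refine ⟨hw, ?_⟩
      show (0 : F) = -Q w
      rw [h, neg_zero]
    have h1 : Q (A w) = Q w := mem_O.1 (E_le_O hAE) w
    rw [hAw, QuadraticMap.map_smul, smul_eq_mul] at h1
    have hdd : d * d = 1 := mul_right_cancel₀ hQw (by rw [h1, one_mul])
    rw [pow_two]
    show A (A w) = w
    rw [hAw, map_smul, hAw, smul_smul, hdd, one_smul]

theorem odd_two_ne (hodd : Odd (Fintype.card F)) : (2 : F) ≠ 0 := by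
  intro h
  haveI : CharP F 2 := CharTwo.of_one_ne_zero_of_two_eq_zero one_ne_zero h
  have h2q : 2 ∣ Fintype.card F := by
    obtain ⟨m, -, hm⟩ := FiniteField.card F 2
    rw [hm]
    exact dvd_pow_self _ (PNat.ne_zero m)
  exact (Nat.not_even_iff_odd.2 hodd) (even_iff_two_dvd.2 h2q)

theorem row_PO_odd {n : ℕ} (hn : 3 ≤ n) (hodd : Odd (Fintype.card F))
    [IsSimpleGroup (POmega F (quadFormOdd n F))] (hp5 : 5 ≤ p)
    (hpF : ¬ p ∣ Fintype.card F) (hd : p ∣ Nat.card (POmega F (quadFormOdd n F))) :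
    Row p (POmega F (quadFormOdd n F)) := by
  obtain ⟨ℓ, hl, hch, -⟩ := exists_char F
  haveI := Fact.mk hl
  have hqe : Nat.card F = Fintype.card F := Nat.card_eq_fintype_card
  have hcard := Cfsg.Agent.S0292.result (F := F) rfl hodd n hn
  have h2 := odd_two_ne hodd
  rw [← coe_oddForm] at *
  have hG : Good (oddForm n F) := by
    apply good_of_finite (nondeg_oddForm n F h2)
    rw [Module.finrank_fintype_fun_eq_card, Fintype.card_sum, Fintype.card_sum, Fintype.card_fin,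
      Fintype.card_unit]
    omega
  have hadm : ((embOdd n F).ngt ⟨1, -1 ^ 2, rfl⟩).c ≠ 0 := by
    change (1 : F)⁻¹ * (-1 ^ 2) ≠ 0
    simp
  have hA : AmbT (toFrame (wodd n F)) ℓ (E (oddForm n F)) := AmbT.of_amb (amb_O_of_two _ h2) ℓ
  have hF1 : 1 < Fintype.card F := Fintype.one_lt_card
  have hm0 : Nat.card F - 1 ≠ 0 := by omega
  have hVn : finrank F (Unit ⊕ (Fin n ⊕ Fin n) → F) = 2 * n + 1 := by
    rw [Module.finrank_fintype_fun_eq_card, Fintype.card_sum, Fintype.card_sum, Fintype.card_fin, Fintype.card_unit]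
    omega
  haveI : Nontrivial (Unit ⊕ (Fin n ⊕ Fin n) → F) := Module.nontrivial_of_finrank_pos (R := F) (by omega)
  have hV0 : ∃ w0 : Unit ⊕ (Fin n ⊕ Fin n) → F, ∀ w ∈ (toFrame (wodd n F)).V0, ∃ a : F, w = a • w0 :=
    V0_le_one (by rw [hVn])
  refine row_frame hl (real_C (model (wodd n F) hG ⟨_, hadm⟩) hA hadm (by omega)
    (m := Nat.card F - 1) fun g hg => tor_pow_of_le_one hA hV0 dvd_rfl hg)
    ⟨_, (exists_frame_ne _ (by omega)).choose_spec.1⟩ ?_ (by omega) (char_ne (by rwa [hqe])) hd hm0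
    (fun hpm => pow_succ_dvd hp.out hm0 hpm (c := 2) ?_ fun h3 => ?_) fun hpm => ?_
  · intro A c hAc
    have h1 := sq_of_frame_O (wodd n F) (by omega) hA hV0 A.2 hAc
    rw [← map_pow]
    have h3 : A ^ 2 = 1 := Subtype.ext h1
    rw [h3, map_one]
  · rw [hcard, hqe]
    exact dvd_mul_of_dvd_right (sq_dvd_prod (by omega)) _
  · have := Nat.le_of_dvd two_pos h3
    omega
  · obtain ⟨r, hr, hr2, hrF, hk, hrm⟩ := exists_primitive_prime (F := F) (k := 2 * n) (by omega) (by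
      rintro ⟨h, -⟩
      rw [h] at hodd
      exact absurd hodd (by decide))
    refine ⟨r, hr, ne_of_primitive (by omega) (by rwa [hqe] at hpm) hrm, ?_, hrF, by rw [hk]; omega,
      by rw [hk, hVn]; omega, ?_⟩
    · have hT : r ∣ 2 * Nat.card (POmega F ⇑(oddForm n F)) := by
        rw [hcard]
        exact dvd_mul_of_dvd_right (dvd_prod_factor hrm (i := n) (by omega) le_rfl dvd_rfl) _
      exact (hr.dvd_mul.1 hT).resolve_left fun h => hr2 ((Nat.prime_dvd_prime_iff_eq hr Nat.prime_two).1 h)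
    · rintro X hXr hX1 _ ⟨x, rfl⟩
      have hXr' : (X.1 : (Unit ⊕ (Fin n ⊕ Fin n) → F) →ₗ[F] (Unit ⊕ (Fin n ⊕ Fin n) → F)) ^ r = 1 := by
        rw [← coe_pow_lin, hXr]
        rfl
      have hX1' : (X.1 : (Unit ⊕ (Fin n ⊕ Fin n) → F) →ₗ[F] (Unit ⊕ (Fin n ⊕ Fin n) → F)) ≠ 1 := by
        intro h
        apply hX1
        ext1 v
        exact LinearMap.congr_fun h v
      have hker := (finrank_ker_le hr hrF hXr' hX1').trans hVn.le
      rw [hk] at hker
      exact move_of_line hrF (hA.iso X.1 X.2) hXr' (by omega) (fun v hv => nondeg_oddForm n F h2 v hv)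
        (frame_ne_zero x) (frame_isotropic x)

end Rows

end Cfsg.Agent.H512.SylNum
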