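import Cfsg.Agent.H512.RowClassI

/-!
# The rows of `PΩ⁻` and `PSL_n`, `n ≥ 3` (for S3932)
-/

set_option autoImplicit false
set_option linter.style.haveILetI false
set_option linter.unusedSectionVars false

namespace Cfsg.Agent.H512.SylNum

open Module Cfsg Cfsg.Agent.H150
open Cfsg.Agent.ChevalleyStructure.CoxeterGeom Cfsg.Agent.Tits.Roots
open Cfsg.Agent.Nodes.Comb Cfsg.Agent.Nodes.Reps Cfsg.Agent.Nodes.WittRoot Cfsg.Agent.Nodes.BNOf
open Cfsg.Agent.Nodes Cfsg.Agent.Nodes.RGDLib Cfsg.Agent.Nodes.WittAll Cfsg.Agent.Nodes.WittU Cfsg.Agent.Nodes.RGDChev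
open Cfsg.Agent.Nodes.WittInst
open Cfsg.Agent.Nodes.WittRGD (Tor mem_Tor)
open Cfsg.Agent.TitsThree Cfsg.Agent.TitsThree.Siegel Cfsg.Agent.TitsThree.SiegelGen
  Cfsg.Agent.TitsThree.WittFrame Cfsg.Agent.TitsThree.WBridge Cfsg.Agent.TitsThree.WittWeyl
  Cfsg.Agent.TitsThree.FrameCN
open Cfsg.Agent.H716.RGDAb (eq_one_of_fix finrank_V0)
open QuadraticMap
open Cfsg.Agent.LieClassical Cfsg.Agent.LieClassical.OrthCore Cfsg.Agent.LieClassical.OrthTrans
open Cfsg.Agent.LieClassical.OrthSimple Cfsg.Agent.LieClassical.OrthFinite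
open Cfsg.Agent.LieClassical.OrthForms
open Cfsg.Agent.TitsThree.KSideO Cfsg.Agent.TitsThree.StdData

theorem card_equiv_dvd {F : Type*} [Field F] [Fintype F] {V : Type*} [AddCommGroup V] [Module F V] [Finite V]
    (h : finrank F V ≤ 2) :
    Nat.card (V ≃ₗ[F] V) ∣ (Fintype.card F ^ 2 - 1) * (Fintype.card F ^ 2 - Fintype.card F) := by
  haveI : FiniteDimensional F V := Module.Finite.of_finite
  obtain ⟨d, hd⟩ : ∃ d, finrank F V = d := ⟨_, rfl⟩
  let e : V ≃ₗ[F] (Fin d → F) := LinearEquiv.ofFinrankEq _ _ (by rw [hd, Module.finrank_fin_fun])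
  have h1 : Nat.card (V ≃ₗ[F] V) = Nat.card ((Fin d → F) ≃ₗ[F] (Fin d → F)) :=
    Nat.card_congr
      { toFun := fun g => e.symm.trans (g.trans e)
        invFun := fun g => e.trans (g.trans e.symm)
        left_inv := fun g => by ext v; simp
        right_inv := fun g => by apply LinearEquiv.ext; intro v; simp }
  have h2 : Nat.card (GL (Fin d) F) = Nat.card ((Fin d → F) ≃ₗ[F] (Fin d → F)) :=
    Nat.card_congr (Matrix.GeneralLinearGroup.toLin.trans
      (LinearMap.GeneralLinearGroup.generalLinearEquiv F (Fin d → F))).toEquiv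
  rw [h1, ← h2, Matrix.card_GL_field]
  rw [hd] at h
  interval_cases d
  · simp
  · simp only [Fin.prod_univ_one, Fin.val_zero, pow_zero, pow_one]
    exact Dvd.dvd.mul_right (sub_dvd_pow _ _) _
  · simp only [Fin.prod_univ_two, Fin.val_zero, pow_zero, Fin.val_one, pow_one]
    exact dvd_rfl

variable {F : Type*} [Field F] [Fintype F] {p : ℕ} [hp : Fact p.Prime]

theorem minus_pow {q N c : ℕ} (hq : 2 ≤ q) (hpq : ¬ p ∣ q) (hpm : p ∣ (q ^ 2 - 1) * (q ^ 2 - q))
    (h : (q ^ 2 - 1) ^ 3 ∣ c * N) (hc : ¬ p ∣ c) :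
    p ^ (((q ^ 2 - 1) * (q ^ 2 - q)).factorization p + 1) ∣ N := by
  have hq2 : q ^ 2 - q = q * (q - 1) := by
    rw [Nat.mul_sub, mul_one, pow_two]
  have hq21 : q ^ 2 - 1 = (q + 1) * (q - 1) := by
    have := Nat.sq_sub_sq q 1
    rwa [one_pow] at this
  have ha0 : q ^ 2 - 1 ≠ 0 := by
    rw [hq21]
    exact (Nat.mul_pos (by omega) (by omega)).ne'
  have hb0 : q - 1 ≠ 0 := by omega
  have hv1 : (q - 1).factorization p ≤ (q ^ 2 - 1).factorization p :=
    (Nat.factorization_le_iff_dvd hb0 ha0).2 (sub_dvd_pow q 2) p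
  have hq0 : q.factorization p = 0 := Nat.factorization_eq_zero_of_not_dvd hpq
  have hfac : ((q ^ 2 - 1) * (q ^ 2 - q)).factorization p =
      (q ^ 2 - 1).factorization p + (q - 1).factorization p := by
    rw [hq2, Nat.factorization_mul ha0 (Nat.mul_ne_zero (by omega) hb0), Nat.factorization_mul (by omega) hb0]
    simp [hq0]
  have hpa : p ∣ q ^ 2 - 1 := by
    rcases (hp.out.dvd_mul).1 hpm with h1 | h1
    · exact h1
    · rw [hq2] at h1
      exact ((hp.out.dvd_mul.1 h1).resolve_left hpq).trans (sub_dvd_pow q 2)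
  have hw : 1 ≤ (q ^ 2 - 1).factorization p := (hp.out.dvd_iff_one_le_factorization ha0).1 hpa
  have h1 : p ^ (((q ^ 2 - 1) * (q ^ 2 - q)).factorization p + 1) ∣ (q ^ 2 - 1) ^ 3 := by
    rw [hfac]
    refine (pow_dvd_pow p (show _ ≤ (q ^ 2 - 1).factorization p * 3 by omega)).trans ?_
    rw [pow_mul]
    exact pow_dvd_pow_of_dvd (Nat.ordProj_dvd _ p) 3
  exact (Nat.Coprime.pow_left _ ((hp.out.coprime_iff_not_dvd).2 hc)).dvd_of_dvd_mul_left (h1.trans h)

theorem row_PO_minus {n : ℕ} (hn : 4 ≤ n) {a b : F}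
    (hab : ∀ z₁ z₂ : F, z₁ ^ 2 + a * z₁ * z₂ + b * z₂ ^ 2 = 0 → z₁ = 0 ∧ z₂ = 0)
    [IsSimpleGroup (POmega F (quadFormMinus (n - 1) F a b))]
    (hna : ∃ x y : POmega F (quadFormMinus (n - 1) F a b), x * y ≠ y * x) (hp5 : 5 ≤ p)
    (hpF : ¬ p ∣ Fintype.card F) (hd : p ∣ Nat.card (POmega F (quadFormMinus (n - 1) F a b))) :
    Row p (POmega F (quadFormMinus (n - 1) F a b)) := by
  obtain ⟨ℓ, hl, hch, -⟩ := exists_char F
  haveI := Fact.mk hl
  have hqe : Nat.card F = Fintype.card F := Nat.card_eq_fintype_card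
  have hcard := Cfsg.Agent.S0294.result (F := F) rfl n hn a b hab
  rw [← coe_minusForm] at *
  have hG : Good (minusForm (n - 1) F a b) := by
    apply good_of_finite (nondeg_minusForm (n - 1) F a b hab)
    rw [Module.finrank_fintype_fun_eq_card, Fintype.card_sum, Fintype.card_sum, Fintype.card_fin,
      Fintype.card_fin]
    omega
  have hadm : ((embMinus (n - 1) F a b hab).ngt ⟨(1, 0), -nf a b (1, 0), rfl⟩).c ≠ 0 := by
    change (1 : F)⁻¹ * (-nf a b (1, 0)) ≠ 0
    simp [nf]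
  have hA : AmbT (toFrame (wminus (n - 1) F a b hab)) ℓ (E (minusForm (n - 1) F a b)) := by
    by_cases h2 : (2 : F) = 0
    · have hp2 : ℓ = 2 := by
        have h3 : CharP F 2 := CharTwo.of_one_ne_zero_of_two_eq_zero one_ne_zero h2
        exact CharP.eq F ‹CharP F ℓ› h3
      subst hp2
      exact ambT_O _ fun g hg hg2 hb => fixp_minus a b hab h2 (by omega) hG hg hg2 hb
    · exact AmbT.of_amb (amb_O_of_two _ h2) ℓ
  have hF1 : 1 < Fintype.card F := Fintype.one_lt_card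
  have hVn : finrank F ((Fin (n - 1) ⊕ Fin (n - 1)) ⊕ Fin 2 → F) = 2 * n := by
    rw [Module.finrank_fintype_fun_eq_card, Fintype.card_sum, Fintype.card_sum, Fintype.card_fin, Fintype.card_fin]
    omega
  have hV0 : finrank F (toFrame (wminus (n - 1) F a b hab)).V0 ≤ 2 := by
    have := finrank_V0 (Fr := toFrame (wminus (n - 1) F a b hab))
    omega
  have hm0 : (Fintype.card F ^ 2 - 1) * (Fintype.card F ^ 2 - Fintype.card F) ≠ 0 := by
    have h1 : 1 < Fintype.card F ^ 2 := Nat.one_lt_pow two_ne_zero hF1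
    have h2 : Fintype.card F < Fintype.card F ^ 2 := by
      rw [pow_two]
      exact Nat.lt_mul_self_iff.2 hF1
    exact (Nat.mul_pos (by omega) (by omega)).ne'
  refine row_full hl (by rw [hVn]; omega) hna (real_C (model (wminus (n - 1) F a b hab) hG ⟨_, hadm⟩) hA hadm (by omega)
    (m := (Fintype.card F ^ 2 - 1) * (Fintype.card F ^ 2 - Fintype.card F)) fun g hg => tor_pow_of_card hA ?_
      (card_equiv_dvd hV0) hg)
    (exists_frame_ne _ (by omega)) (by omega)
    (char_ne (by rwa [hqe])) hd hm0 (fun hpm => ?_) fun hpm => ?_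
  · rw [hqe]
    exact Dvd.dvd.mul_right (sub_dvd_pow _ _) _
  · refine minus_pow (by omega) hpF hpm (c := Nat.gcd 4 (Fintype.card F ^ n + 1)) ?_ (not_dvd_gcd_four hp.out (by omega))
    rw [hcard]
    exact dvd_mul_of_dvd_right (cube_dvd_prod (by omega)) _
  · obtain ⟨r, hr, hr2, hrF, hk, hrm⟩ := exists_primitive_prime (F := F) (k := 2 * n) (by omega) (by omega)
    refine ⟨r, hr, ?_, ?_, hrF, ?_⟩
    · rintro rfl
      have hq2 : Fintype.card F ^ 2 - Fintype.card F = Fintype.card F * (Fintype.card F - 1) := by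
        rw [Nat.mul_sub, mul_one, pow_two]
      rw [hq2] at hpm
      rcases (hr.dvd_mul).1 hpm with h1 | h1
      · have := Nat.le_of_dvd two_pos ((hrm 2).1 h1)
        omega
      · have h3 := (hr.dvd_mul.1 h1).resolve_left hpF
        have := Nat.le_of_dvd one_pos ((hrm 1).1 (by rwa [pow_one]))
        omega
    · refine dvd_of_gcd_mul hr hr2 hcard ?_
      refine dvd_mul_of_dvd_left (dvd_mul_of_dvd_right ?_ _) _
      exact dvd_pow_add_one_of_primitive hr (by omega) hrm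
    · rw [hk, hVn]

end Cfsg.Agent.H512.SylNum
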