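import Cfsg.Agent.H512.RowClassI

/-!
# The rows of `PSL_n`, `n ≥ 3` (for S3932)
-/

set_option autoImplicit false
set_option linter.style.haveILetI false
set_option linter.unusedSectionVars false

namespace Cfsg.Agent.H512.SylNum

open Module Cfsg Cfsg.Agent.H150 Matrix
open Cfsg.Agent.Nodes
open Cfsg.Agent.Nodes.RGDTypeA (pr pr_surjective ker_pr rgd_psl G1_psl_eq_top mem_T)

variable {F : Type*} [Field F]

/-- the linear action -/
noncomputable def slHom (n : ℕ) (F : Type*) [Field F] :
    SpecialLinearGroup (Fin (n + 1)) F →* ((Fin (n + 1) → F) ≃ₗ[F] (Fin (n + 1) → F)) :=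
  SpecialLinearGroup.toLin'

theorem slHom_injective (n : ℕ) : Function.Injective (slHom n F) := SpecialLinearGroup.toLin'_injective

theorem slHom_apply (n : ℕ) (A : SpecialLinearGroup (Fin (n + 1)) F) (v : Fin (n + 1) → F) :
    slHom n F A v = A.1.mulVec v := by
  rw [slHom, SpecialLinearGroup.toLin'_apply]
  rfl

/-- the projection of the linear group -/
noncomputable def slPr (n : ℕ) (F : Type*) [Field F] : (slHom n F).range →* ProjectiveSpecialLinearGroup (Fin (n + 1)) F :=
  (pr n F).comp (MonoidHom.ofInjective (slHom_injective n)).symm.toMonoidHom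

theorem slPr_apply (n : ℕ) (A : SpecialLinearGroup (Fin (n + 1)) F) : slPr n F ⟨slHom n F A, ⟨A, rfl⟩⟩ = pr n F A := by
  have h1 : (MonoidHom.ofInjective (slHom_injective n)) A = ⟨slHom n F A, ⟨A, rfl⟩⟩ := rfl
  rw [← h1]
  show pr n F ((MonoidHom.ofInjective (slHom_injective n)).symm (MonoidHom.ofInjective (slHom_injective n) A)) = _
  rw [MulEquiv.symm_apply_apply]

/-- the torus element is diagonal -/
theorem T_diag {n : ℕ} {s : SpecialLinearGroup (Fin (n + 1)) F} (hs : s ∈ RGDTypeA.T (Fin (n + 1)) F) :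
    s.1 = diagonal (fun a => s.1 a a) := by
  ext a b
  by_cases hab : a = b
  · subst hab; rw [diagonal_apply_eq]
  · rw [diagonal_apply_ne _ hab]
    by_contra h2
    exact hab (hs a b h2)

/-- `PSL_{n+1}` as a projective linear group with torus -/
noncomputable def real_PSL [Finite F] (n : ℕ) (hn : 0 < n) {ℓ : ℕ} [Fact ℓ.Prime] [CharP F ℓ] :
    Real ℓ F (V := Fin (n + 1) → F) (ProjectiveSpecialLinearGroup (Fin (n + 1)) F) (Nat.card F - 1)
      {Pi.single 0 1} where
  I := (slHom n F).range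
  φ := slPr n F
  surj := by
    intro x
    obtain ⟨A, rfl⟩ := pr_surjective x
    exact ⟨_, slPr_apply n A⟩
  ker := by
    rintro ⟨_, A, rfl⟩ hA
    rw [slPr_apply] at hA
    have h1 : A ∈ (pr n F).ker := hA
    rw [ker_pr, Matrix.SpecialLinearGroup.mem_center_iff] at h1
    obtain ⟨c, -, hc⟩ := h1
    refine ⟨c, fun v => ?_⟩
    show slHom n F A v = c • v
    rw [slHom_apply, ← hc]
    ext i
    simp [Matrix.scalar_apply, Matrix.mulVec_diagonal]
  rgd := by
    haveI : Finite (Cfsg.Agent.LieRecognition.BNCox.cA n).Group :=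
      RootsA.finite_W (Cfsg.Agent.LieRecognition.BNCox.cA n).toCoxeterSystem (RootsA.isCartan n)
    refine ⟨n, Cfsg.Agent.LieRecognition.BNCox.cA n, RootsA.AA n, RootsA.isCartan n, _, _, _, hn, this,
      RGDTypeA.rgd_psl _ _, RGDTypeA.G1_psl_eq_top _ _, ?_⟩
    rintro _ ⟨s, hs, rfl⟩
    have hd := T_diag hs
    have hne : ∀ a, s.1 a a ≠ 0 := by
      intro a ha
      have h1 := s.2
      rw [hd, det_diagonal] at h1
      have h2 : ∏ i, s.1 i i = 0 := Finset.prod_eq_zero (Finset.mem_univ a) ha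
      exact zero_ne_one (h2.symm.trans h1)
    have hpow : s ^ (Nat.card F - 1) = 1 := by
      apply Subtype.ext
      have e1 : ∀ k : ℕ, (s ^ k).1 = diagonal (fun a => s.1 a a ^ k) := by
        intro k
        induction k with
        | zero =>
          simp only [pow_zero]
          rw [diagonal_one]
          rfl
        | succ k ih =>
          rw [pow_succ]
          show (s ^ k).1 * s.1 = _
          rw [ih]
          conv_lhs => rw [hd]
          rw [diagonal_mul_diagonal]
          simp only [diagonal_apply_eq, pow_succ]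
      rw [e1]
      show diagonal _ = (1 : Matrix _ _ F)
      rw [← diagonal_one]
      congr 1
      funext a
      have h1 : (Units.mk0 _ (hne a)) ^ (Nat.card F - 1) = 1 := by rw [← Nat.card_units, pow_card_eq_one']
      have h2 := congrArg Units.val h1
      rwa [Units.val_pow_eq_pow_val, Units.val_mk0, Units.val_one] at h2
    refine ⟨by rw [← map_pow, hpow, map_one], ⟨slHom n F s, ⟨s, rfl⟩⟩, slPr_apply n s, ?_⟩
    rintro _ rfl
    refine ⟨s.1 0 0, ?_⟩
    show slHom n F s _ = _
    rw [slHom_apply, hd]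
    ext i
    simp only [mulVec_diagonal, Pi.smul_apply, smul_eq_mul, diagonal_apply_eq]
    by_cases hi : i = 0
    · subst hi; rfl
    · rw [Pi.single_eq_of_ne hi, mul_zero, mul_zero]

/-- the order of `PSL_n` -/
theorem psl_card [Fintype F] {n : ℕ} (hn : 2 ≤ n) :
    (Fintype.card F - 1) ^ (n - 1) ∣ Nat.gcd n (Fintype.card F - 1) * Nat.card (ProjectiveSpecialLinearGroup (Fin n) F) := by
  have h := Cfsg.Agent.S0243.result (F := F) rfl n hn
  have hF1 : 1 < Fintype.card F := Fintype.one_lt_card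
  have h1 : (Fintype.card F - 1) ^ n ∣ ∏ i : Fin n, (Fintype.card F ^ n - Fintype.card F ^ (i : ℕ)) := by
    have h0 : (Fintype.card F - 1) ^ n = ∏ _i : Fin n, (Fintype.card F - 1) := by
      rw [Finset.prod_const, Finset.card_fin]
    rw [h0]
    refine Finset.prod_dvd_prod_of_dvd _ _ fun i _ => ?_
    have h2 : Fintype.card F ^ n - Fintype.card F ^ (i : ℕ) = Fintype.card F ^ (i : ℕ) * (Fintype.card F ^ (n - i) - 1) := by
      rw [Nat.mul_sub, mul_one, ← pow_add]
      congr 2
      have := i.2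
      omega
    rw [h2]
    exact dvd_mul_of_dvd_right (sub_dvd_pow _ _) _
  rw [← h] at h1
  have h3 : (Fintype.card F - 1) * (Fintype.card F - 1) ^ (n - 1) ∣ (Fintype.card F - 1) *
      (Nat.gcd n (Fintype.card F - 1) * Nat.card (ProjectiveSpecialLinearGroup (Fin n) F)) := by
    rw [← pow_succ', Nat.sub_add_cancel (by omega)]
    refine h1.trans (dvd_of_eq (by ring))
  exact Nat.dvd_of_mul_dvd_mul_left (by omega) h3

theorem row_PSL [Fintype F] {p : ℕ} [hp : Fact p.Prime] {n : ℕ} (hn : 3 ≤ n)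
    [IsSimpleGroup (ProjectiveSpecialLinearGroup (Fin n) F)]
    (hna : ∃ a b : ProjectiveSpecialLinearGroup (Fin n) F, a * b ≠ b * a) (hp5 : 5 ≤ p)
    (hpF : ¬ p ∣ Fintype.card F) (hd : p ∣ Nat.card (ProjectiveSpecialLinearGroup (Fin n) F)) :
    Row p (ProjectiveSpecialLinearGroup (Fin n) F) := by
  obtain ⟨ℓ, hl, hch, -⟩ := exists_char F
  haveI := Fact.mk hl
  have hqe : Nat.card F = Fintype.card F := Nat.card_eq_fintype_card
  have hF1 : 1 < Fintype.card F := Fintype.one_lt_card
  have hm0 : Nat.card F - 1 ≠ 0 := by omega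
  obtain ⟨k, rfl⟩ : ∃ k, n = k + 1 := ⟨n - 1, by omega⟩
  have hVn : finrank F (Fin (k + 1) → F) = k + 1 := by rw [Module.finrank_fintype_fun_eq_card, Fintype.card_fin]
  refine row_full hl (by rw [hVn]; omega) hna (real_PSL k (by omega)) ⟨_, rfl, fun h => ?_⟩ (by omega)
    (char_ne (by rwa [hqe])) hd hm0 (fun hpm => ?_) fun hpm => ?_
  · have h1 := congrFun h 0
    rw [Pi.single_eq_same] at h1
    exact one_ne_zero h1
  · have hc := psl_card (F := F) (n := k + 1) (by omega)
    rw [hqe] at hpm hm0 ⊢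
    rcases Nat.lt_or_ge (k + 1) 4 with h4 | h4
    · obtain rfl : k = 2 := by omega
      refine pow_succ_dvd hp.out hm0 hpm hc fun h3 => ?_
      have := Nat.le_of_dvd (by norm_num) (h3.trans (Nat.gcd_dvd_left 3 (Fintype.card F - 1)))
      omega
    · refine pow_succ_dvd_of_sq hp.out hm0 hpm (sq_dvd_of_cube ?_ (Nat.gcd_dvd_right (k + 1) _)
        ((pow_dvd_pow _ (by omega)).trans hc))
      exact (Nat.gcd_pos_of_pos_left _ (by omega)).ne'
  · obtain ⟨r, hr, hr2, hrF, hk, hrm⟩ := exists_primitive_prime (F := F) (k := k + 1) (by omega) (by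
      rintro ⟨h, -⟩
      rw [hqe, h] at hpm
      have := Nat.le_of_dvd (by norm_num) hpm
      omega)
    refine ⟨r, hr, ne_of_primitive (by omega) (by rwa [hqe] at hpm) hrm,
      dvd_card_psl (by omega) hr (by omega) le_rfl (by omega) hrm, hrF, ?_⟩
    rw [hk, hVn]

end Cfsg.Agent.H512.SylNum
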