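import Cfsg.Agent.H512.RowFrame

/-!
# The rows of `PΩ⁺` (for S3932)
-/

set_option autoImplicit false
set_option linter.style.haveILetI false
set_option linter.unusedSectionVars false

namespace Cfsg.Agent.H512.SylNum

open Module Cfsg Cfsg.Agent.H150
open Cfsg.Agent.ChevalleyStructure.CoxeterGeom Cfsg.Agent.Tits.Roots
open Cfsg.Agent.Nodes.Comb Cfsg.Agent.Nodes.Reps Cfsg.Agent.Nodes.WittRoot Cfsg.Agent.Nodes.BNOf
open Cfsg.Agent.Nodes Cfsg.Agent.Nodes.RGDLib Cfsg.Agent.Nodes.WittAll Cfsg.Agent.Nodes.WittU Cfsg.Agent.Nodes.RGDChev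
open Cfsg.Agent.Nodes.WittInst
open Cfsg.Agent.Nodes.WittRGD (Tor mem_Tor)
open Cfsg.Agent.TitsThree Cfsg.Agent.TitsThree.Siegel Cfsg.Agent.TitsThree.SiegelGen
  Cfsg.Agent.TitsThree.WittFrame Cfsg.Agent.TitsThree.WBridge Cfsg.Agent.TitsThree.WittWeyl
  Cfsg.Agent.TitsThree.FrameCN
open Cfsg.Agent.H716.RGDAb (eq_one_of_fix finrank_V0)
open QuadraticMap
open Cfsg.Agent.LieClassical Cfsg.Agent.LieClassical.OrthCore Cfsg.Agent.LieClassical.OrthTrans
open Cfsg.Agent.LieClassical.OrthSimple Cfsg.Agent.LieClassical.OrthFinite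
open Cfsg.Agent.LieClassical.OrthForms
open Cfsg.Agent.TitsThree.KSideO Cfsg.Agent.TitsThree.StdData
open Cfsg.Agent.H377
open Cfsg.Agent.LieClassical.OrthCount (OG)

variable {F : Type*} [Field F] [Fintype F] {p : ℕ} [hp : Fact p.Prime]

/-- an element of order `r` on the space of plus type moves all singular vectors -/
theorem move_plus {n : ℕ} (hn : 4 ≤ n) (Q : QuadraticForm F (Fin n ⊕ Fin n → F)) (hnd : ND Q)
    (hVs : HasSign (⇑Q) n 1) {r : ℕ} (hr : r.Prime) (hr2 : r ≠ 2) (hrF : (r : F) ≠ 0)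
    (hk : orderOf ((Nat.card F : ℕ) : ZMod r) = 2 * (n - 1)) (hrm : ∀ j, r ∣ Fintype.card F ^ j - 1 ↔ 2 * (n - 1) ∣ j)
    (X : OG Q) (hX : X ^ r = 1) (hX1 : X ≠ 1) {b : Fin n ⊕ Fin n → F} (hb0 : b ≠ 0)
    (hb : Q b = 0) : X.1 b ≠ b := by
  classical
  intro hXb
  set x : (Fin n ⊕ Fin n → F) →ₗ[F] (Fin n ⊕ Fin n → F) := X.1.toLinearMap with hxdef
  have hXx : ∀ v, X.1 v = x v := fun v => rfl
  have hx : x ^ r = 1 := by
    rw [hxdef, ← coe_pow_lin]
    have h1 : X.1 ^ r = 1 := congrArg Subtype.val hX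
    rw [h1]
    rfl
  have hx1 : x ≠ 1 := by
    intro h
    apply hX1
    apply Subtype.ext
    ext1 v
    exact LinearMap.congr_fun h v
  have hcompl := isCompl_fix hrF x hx
  have hsum := Submodule.finrank_add_eq_of_isCompl hcompl
  have hdim : finrank F (Fin n ⊕ Fin n → F) = 2 * n := by
    rw [Module.finrank_fintype_fun_eq_card, Fintype.card_sum, Fintype.card_fin]
    omega
  have hxQ : ∀ v, Q (x v) = Q v := fun v => by rw [← hXx]; exact X.2 v
  have hB : ∀ v w, QuadraticMap.polarBilin Q (x v) (x w) = QuadraticMap.polarBilin Q v w :=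
    fun v w => polar_isom Q x hxQ v w
  have hCnd : ND (Q.comp (LinearMap.ker (x - 1)).subtype) := by
    intro u hu
    exact nondeg_ker hrF (QuadraticMap.polarBilin Q) (fun u hu => hnd u hu) x hx hB u (fun v => hu v)
  -- dimensions
  have hxW : ∀ w ∈ LinearMap.range (x - 1), x w ∈ LinearMap.range (x - 1) := by
    rintro _ ⟨v, rfl⟩
    refine ⟨x v, ?_⟩
    rw [LinearMap.sub_apply, LinearMap.sub_apply, Module.End.one_apply, Module.End.one_apply, map_sub]
  have h1 := dvd_finrank_of_fpf_submodule hr x hx _ hxW (fpf_range hrF x hx)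
  have h2 : 0 < finrank F (LinearMap.range (x - 1)) := by
    rw [Nat.pos_iff_ne_zero]
    intro h
    have h3 := Submodule.finrank_eq_zero.1 h
    rw [LinearMap.range_eq_bot, sub_eq_zero] at h3
    exact hx1 h3
  rw [hk] at h1
  obtain ⟨j, hj⟩ := h1
  have hj1 : j = 1 := by
    rcases Nat.lt_or_ge j 2 with h | h
    · rcases Nat.eq_zero_or_pos j with h0 | h0
      · rw [h0, mul_zero] at hj; omega
      · omega
    · have h3 : 2 * (n - 1) * 2 ≤ 2 * (n - 1) * j := Nat.mul_le_mul_left _ h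
      omega
  rw [hj1, mul_one] at hj
  have hC : finrank F (LinearMap.ker (x - 1)) = 2 * 1 := by omega
  have hbC : b ∈ LinearMap.ker (x - 1) := by
    rw [LinearMap.mem_ker, LinearMap.sub_apply, Module.End.one_apply, sub_eq_zero]
    exact hXb
  rcases classify_all (F := F) le_rfl hC (Q.comp (LinearMap.ker (x - 1)).subtype) hCnd with ⟨e, he⟩ | ⟨ζ, hζ, e, he⟩
  · -- hyperbolic plane
    have hCs : HasSign (⇑(Q.comp (LinearMap.ker (x - 1)).subtype)) 1 1 :=
      (hasSign_quadFormPlus 1).congr e.toEquiv fun v => he v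
    have hNV := card_of_hasSign' hdim hVs (one_ne_zero (α := F))
    have hNC := card_of_hasSign' hC hCs (one_ne_zero (α := F))
    rw [card_sub_eq] at hNC
    have hCmem : ∀ v, v ∈ LinearMap.ker (x - 1) ↔ x v = v := fun v => by
      rw [LinearMap.mem_ker, LinearMap.sub_apply, Module.End.one_apply, sub_eq_zero]
    have hrdvd : (r : ℤ) ∣ (Nat.card {v : Fin n ⊕ Fin n → F // Q v = 1} : ℤ) -
        (Nat.card {v : Fin n ⊕ Fin n → F // Q v = 1 ∧ v ∈ LinearMap.ker (x - 1)} : ℤ) := by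
      have h1 := prime_dvd_moved Q hr X hX
      have h3 : Nat.card {v : Fin n ⊕ Fin n → F // Q v = 1 ∧ (X : (Fin n ⊕ Fin n → F) ≃ₗ[F] (Fin n ⊕ Fin n → F)) v = v} =
          Nat.card {v : Fin n ⊕ Fin n → F // Q v = 1 ∧ v ∈ LinearMap.ker (x - 1)} :=
        Nat.card_congr (Equiv.subtypeEquivRight fun v => and_congr_right fun _ => by rw [hXx, hCmem])
      rw [h3] at h1
      exact (Nat.modEq_iff_dvd.1 h1.symm)
    set NV : ℤ := (Nat.card {v : Fin n ⊕ Fin n → F // Q v = 1} : ℤ) with hNVdef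
    set NC : ℤ := (Nat.card {v : Fin n ⊕ Fin n → F // Q v = 1 ∧ v ∈ LinearMap.ker (x - 1)} : ℤ) with hNCdef
    have hqe : Nat.card F = Fintype.card F := Nat.card_eq_fintype_card
    -- `r ∣ q ^ (n - 1) + 1`
    have hr1 : r ∣ Fintype.card F ^ (n - 1) + 1 := dvd_pow_add_one_of_primitive hr (by omega) hrm
    set q : ℤ := (Nat.card F : ℤ) with hq
    have hr1' : (r : ℤ) ∣ q ^ (n - 1) + 1 := by
      have := Int.natCast_dvd_natCast.2 hr1
      rw [← hqe] at this
      push_cast at this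
      exact this
    obtain ⟨t, ht⟩ := hr1'
    obtain ⟨s, hs⟩ := hrdvd
    have hpn : q ^ n = q * q ^ (n - 1) := by
      rw [← pow_succ']
      congr 1
      omega
    have hp2n : q ^ (2 * n) = q ^ 2 * (q ^ (n - 1)) ^ 2 := by
      rw [← pow_mul, ← pow_add]
      congr 1
      omega
    have hdvd : (r : ℤ) ∣ 2 * q := by
      refine ⟨q * s - q ^ 2 * t * (q ^ (n - 1) - 1) + q * t, ?_⟩
      have e1 : q * NV - q * NC = q * (r * s) := by rw [← hs]; ring
      rw [hNV, hNC, hp2n, hpn] at e1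
      linear_combination e1 + (q - q ^ 2 * (q ^ (n - 1) - 1)) * ht
    have hdn : r ∣ 2 * Nat.card F := by
      have : (r : ℤ) ∣ ((2 * Nat.card F : ℕ) : ℤ) := by
        push_cast
        exact hdvd
      exact_mod_cast this
    rcases hr.dvd_mul.1 hdn with h | h
    · exact hr2 ((Nat.prime_dvd_prime_iff_eq hr Nat.prime_two).1 h)
    · apply hrF
      obtain ⟨u, hu⟩ := CharP.exists F
      obtain ⟨N, hup, hN⟩ := FiniteField.card F u
      rw [hqe, hN] at h
      have : r = u := (Nat.prime_dvd_prime_iff_eq hr hup).1 (hr.dvd_of_dvd_pow h)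
      rw [this]
      exact CharP.cast_eq_zero F u
  · -- anisotropic plane
    have h1 := he (e.symm ⟨b, hbC⟩)
    rw [LinearEquiv.apply_symm_apply] at h1
    have h3 : (Q.comp (LinearMap.ker (x - 1)).subtype) ⟨b, hbC⟩ = 0 := hb
    rw [h3, quadFormMinus_apply] at h1
    have hemp : IsEmpty (Fin (1 - 1)) := ⟨fun j => j.elim0⟩
    rw [Fintype.sum_empty, zero_add] at h1
    have h4 := hζ _ _ h1.symm
    have h5 : e.symm ⟨b, hbC⟩ = 0 := by
      funext j
      rcases j with (j | j) | j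
      · exact j.elim0
      · exact j.elim0
      · fin_cases j
        · exact h4.1
        · exact h4.2
    rw [LinearEquiv.map_eq_zero_iff] at h5
    exact hb0 (congrArg Subtype.val h5)

/-- `PΩ⁺` as a projective linear group with torus -/
noncomputable def real_plus (n : ℕ) (hG : Good (plusForm (n + 3) F)) {ℓ : ℕ} [Fact ℓ.Prime] [CharP F ℓ] :
    Real ℓ F (V := Fin (n + 3) ⊕ Fin (n + 3) → F) (POmega F ⇑(plusForm (n + 3) F)) (Nat.card F - 1)
      (Set.range (toFrame (wplus (n + 3) F)).b) where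
  I := E (plusForm (n + 3) F)
  φ := toPOmega hG
  surj := toPOmega_surjective hG
  ker g hg := scalar_of_center hG (center_of_toPOmega hG hg)
  rgd := by
    refine ⟨n + 3, TypeD.M (n + 1), TypeD.A (n + 1), TypeD.isCartan (n + 1), _, _, _, by omega,
      TypeD.finite_W (TypeD.M (n + 1)).toCoxeterSystem,
      rgdD_model (wplus (n + 3) F) hG (amb_plus _) (adm_plus _) _,
      G1D_eq_top (wplus (n + 3) F) (toPOmega hG) (toPOmega_surjective hG) (adm_plus _) _, ?_⟩
    rintro _ ⟨s, hs, rfl⟩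
    have hs' : s.1 ∈ Tor (toFrame (wplus (n + 3) F)) (E (plusForm (n + 3) F)) := Subgroup.mem_subgroupOf.1 hs
    have hpow : s ^ (Nat.card F - 1) = 1 := by
      apply Subtype.ext
      refine tor_pow (amb_plus (F := F) (n + 3)).V0 dvd_rfl hs' fun w hw => ?_
      have hw0 : w = 0 := (Submodule.mem_bot F).1 hw
      rw [hw0, map_zero]
    refine ⟨by rw [← map_pow, hpow, map_one], s, rfl, ?_⟩
    rintro _ ⟨x, rfl⟩
    obtain ⟨c, -, hc⟩ := hs'.2 x
    exact ⟨c, hc⟩

theorem row_PO_plus {n : ℕ} (hn : 4 ≤ n)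
    [IsSimpleGroup (POmega F (quadFormPlus n F))] (hp5 : 5 ≤ p)
    (hpF : ¬ p ∣ Fintype.card F) (hd : p ∣ Nat.card (POmega F (quadFormPlus n F))) :
    Row p (POmega F (quadFormPlus n F)) := by
  obtain ⟨k, rfl⟩ : ∃ k, n = k + 3 := ⟨n - 3, by omega⟩
  obtain ⟨ℓ, hl, hch, -⟩ := exists_char F
  haveI := Fact.mk hl
  have hqe : Nat.card F = Fintype.card F := Nat.card_eq_fintype_card
  have hcard := Cfsg.Agent.S0293.result (F := F) rfl (k + 3) hn
  rw [← coe_plusForm] at *
  have hVn : finrank F (Fin (k + 3) ⊕ Fin (k + 3) → F) = 2 * (k + 3) := by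
    rw [Module.finrank_fintype_fun_eq_card, Fintype.card_sum, Fintype.card_fin]
    omega
  have hG : Good (plusForm (k + 3) F) := by
    apply good_of_finite (nondeg_plusForm (k + 3) F)
    rw [hVn]
    omega
  haveI : Nontrivial (Fin (k + 3) ⊕ Fin (k + 3) → F) := Module.nontrivial_of_finrank_pos (R := F) (by omega)
  have hF1 : 1 < Fintype.card F := Fintype.one_lt_card
  have hm0 : Nat.card F - 1 ≠ 0 := by omega
  have hA : AmbT (toFrame (wplus (k + 3) F)) ℓ (E (plusForm (k + 3) F)) := AmbT.of_amb (amb_plus _) ℓ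
  have hV0 : ∃ w0 : Fin (k + 3) ⊕ Fin (k + 3) → F, ∀ w ∈ (toFrame (wplus (k + 3) F)).V0, ∃ a : F, w = a • w0 :=
    V0_le_one (by rw [hVn]; omega)
  refine row_frame hl (real_plus k hG) ⟨_, (exists_frame_ne _ (by omega)).choose_spec.1⟩ ?_ (by omega)
    (char_ne (by rwa [hqe])) hd hm0
    (fun hpm => pow_succ_dvd hp.out hm0 hpm (c := Nat.gcd 4 (Fintype.card F ^ (k + 3) - 1)) ?_
      (not_dvd_gcd_four hp.out (by omega))) fun hpm => ?_
  · intro A c hAc
    have h1 := sq_of_frame_O (wplus (k + 3) F) (by omega) hA hV0 A.2 hAc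
    rw [← map_pow]
    have h3 : A ^ 2 = 1 := Subtype.ext h1
    rw [h3, map_one]
  · rw [hcard, hqe]
    exact dvd_mul_of_dvd_right (sq_dvd_prod (by omega)) _
  · obtain ⟨r, hr, hr2, hrF, hk, hrm⟩ := exists_primitive_prime (F := F) (k := 2 * (k + 3 - 1)) (by omega) (by
      rintro ⟨h, -⟩
      rw [hqe, h] at hpm
      have := Nat.le_of_dvd (by norm_num) hpm
      omega)
    refine ⟨r, hr, ne_of_primitive (by omega) (by rwa [hqe] at hpm) hrm, ?_, hrF, by rw [hk]; omega,
      by rw [hk, hVn]; omega, ?_⟩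
    · refine dvd_of_gcd_mul hr hr2 hcard ?_
      exact dvd_mul_of_dvd_right (dvd_prod_factor hrm (i := k + 3 - 1) (by omega) le_rfl dvd_rfl) _
    · rintro X hXr hX1 _ ⟨x, rfl⟩
      have hQb : plusForm (k + 3) F ((toFrame (wplus (k + 3) F)).b x) = 0 := (sing_iff _).1 (b_sing (wplus (k + 3) F) x)
      exact move_plus hn (plusForm (k + 3) F) (fun u hu => nondeg_plusForm (k + 3) F u hu)
        (by rw [coe_plusForm]; exact hasSign_quadFormPlus _) hr hr2 hrF hk hrm
        ⟨X.1, fun v => mem_O.1 (E_le_O X.2) v⟩ (Subtype.ext hXr) (fun h => hX1 (congrArg Subtype.val h))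
        (frame_ne_zero x) hQb

end Cfsg.Agent.H512.SylNum
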