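import Cfsg.Agent.H512.SylNum
import Cfsg.Agent.QTNorm.SporBase

/-!
# Sylow 2-normalisers and Sylow numbers (for S3932)

Criteria for `Row p G` (`p` odd divides a Sylow number of `G`) from the Sylow 2-subgroups.

* `row_of_selfN` : self-normalising Sylow 2-subgroups;
* `dvd_two_of_syl` : `z` is the only involution of the centre of a Sylow 2-subgroup (`UInv z`), and the `p`-part of
  `|C(z)|` is smaller than that of `|G|`;
* `dvd_two_of_hom` : the same `z`, and `p` divides the number of Sylow 2-subgroups of a quotient of `C(z)`.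
-/

set_option autoImplicit false
set_option linter.style.haveILetI false

namespace Cfsg.Agent.H512.SylNum

open Subgroup

variable {G : Type*} [Group G] {p : ℕ}

/-- `z` is an involution, the only one of the centre of some Sylow 2-subgroup -/
def UInv {G : Type*} [Group G] (z : G) : Prop :=
  z * z = 1 ∧ z ≠ 1 ∧ ∃ S : Sylow 2 G, z ∈ S ∧ (∀ x ∈ S, x * z = z * x) ∧
    ∀ w ∈ S, w * w = 1 → (∀ x ∈ S, x * w = w * x) → w = 1 ∨ w = z

/-- self-normalising Sylow 2-subgroups -/
theorem dvd_two_of_selfN [Finite G] [hp : Fact p.Prime] (hp2 : p ≠ 2) (h : QTNorm.SelfN G) (hd : p ∣ Nat.card G) :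
    p ∣ Nat.card (Sylow 2 G) := by
  have hf2 : Fact (Nat.Prime 2) := ⟨Nat.prime_two⟩
  by_contra hn
  obtain ⟨P⟩ : Nonempty (Sylow p G) := inferInstance
  obtain ⟨R, hR⟩ := exists_norm (p := p) hn P.2
  obtain ⟨x, hxP, hx, -⟩ := exists_center P.2 (card_sylow_ne_one hd P)
  have h1 : x ∈ (R : Subgroup G) := h R (hR hxP)
  obtain ⟨k, hk⟩ := (IsPGroup.iff_orderOf.1 R.2) ⟨x, h1⟩
  rw [orderOf_mk, hx] at hk
  have h2 : p ∣ 2 ^ k := hk ▸ dvd_rfl
  exact hp2 ((Nat.prime_dvd_prime_iff_eq hp.out Nat.prime_two).1 (hp.out.dvd_of_dvd_pow h2))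

theorem row_of_selfN [Finite G] [hp : Fact p.Prime] (hp2 : p ≠ 2) (h : QTNorm.SelfN G) (hd : p ∣ Nat.card G) :
    Row p G := ⟨2, ⟨Nat.prime_two⟩, dvd_two_of_selfN hp2 h hd⟩

theorem exists_norm_at [Finite G] [hp : Fact p.Prime] {r : ℕ} [hr : Fact r.Prime]
    (hn : ¬ p ∣ Nat.card (Sylow r G)) (S : Sylow r G) :
    ∃ P : Sylow p G, (P : Subgroup G) ≤ normalizer ((S : Subgroup G) : Set G) := by
  obtain ⟨P₀⟩ : Nonempty (Sylow p G) := inferInstance
  obtain ⟨S₀, hS₀⟩ := exists_norm (p := p) hn P₀.2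
  obtain ⟨g, hg⟩ := MulAction.exists_smul_eq G S₀ S
  refine ⟨g • P₀, ?_⟩
  rintro _ ⟨x, hx, rfl⟩
  have h2 := Sylow.smul_eq_iff_mem_normalizer.2 (hS₀ hx)
  show (MulDistribMulAction.toMonoidEnd (MulAut G) G (MulAut.conj g)) x ∈ _
  have h3 : (MulDistribMulAction.toMonoidEnd (MulAut G) G (MulAut.conj g)) x = g * x * g⁻¹ := rfl
  rw [h3]
  refine Sylow.smul_eq_iff_mem_normalizer.1 ?_
  rw [← hg, ← mul_smul]
  have h4 : g * x * g⁻¹ * g = g * x := by group
  rw [h4, mul_smul, h2]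

/-- if `p` does not divide the number of Sylow 2-subgroups, a Sylow `p`-subgroup and a Sylow 2-subgroup which it
normalises are in `C(z)` -/
theorem exists_le_cent [Finite G] [hp : Fact p.Prime] {z : G} (hu : UInv z) [hf2 : Fact (Nat.Prime 2)]
    (hn : ¬ p ∣ Nat.card (Sylow 2 G)) :
    ∃ (P : Sylow p G) (S : Sylow 2 G), (P : Subgroup G) ≤ normalizer ((S : Subgroup G) : Set G) ∧
      (P : Subgroup G) ≤ centralizer ({z} : Set G) ∧ (S : Subgroup G) ≤ centralizer ({z} : Set G) := by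
  obtain ⟨zz, hz, S, hzS, hzc, hzu⟩ := hu
  obtain ⟨P, hN⟩ := exists_norm_at (p := p) hn S
  refine ⟨P, S, hN, ?_, fun x hx => Cfsg.Agent.H393.Iso.mem_cent.2 (hzc x hx)⟩
  intro x hx
  rw [Cfsg.Agent.H393.Iso.mem_cent]
  have hxN := mem_normalizer_iff.1 (hN hx)
  have hxi : x⁻¹ ∈ normalizer ((S : Subgroup G) : Set G) := inv_mem (hN hx)
  have h1 : x * z * x⁻¹ ∈ (S : Subgroup G) := (hxN z).1 hzS
  have h2 : (x * z * x⁻¹) * (x * z * x⁻¹) = 1 := by
    calc (x * z * x⁻¹) * (x * z * x⁻¹) = x * (z * z) * x⁻¹ := by group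
      _ = 1 := by rw [zz]; group
  have h6 : ∀ y ∈ S, y * (x * z * x⁻¹) = (x * z * x⁻¹) * y := by
    intro y hy
    have h4 : x⁻¹ * y * x ∈ (S : Subgroup G) := by
      have := (mem_normalizer_iff.1 hxi y).1 hy
      rwa [inv_inv] at this
    have h5 := hzc _ h4
    calc y * (x * z * x⁻¹) = x * ((x⁻¹ * y * x) * z) * x⁻¹ := by group
      _ = x * (z * (x⁻¹ * y * x)) * x⁻¹ := by rw [h5]
      _ = _ := by group
  rcases hzu _ h1 h2 h6 with h3 | h3
  · exfalso
    apply hz
    calc z = x⁻¹ * (x * z * x⁻¹) * x := by group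
      _ = 1 := by rw [h3]; group
  · calc x * z = (x * z * x⁻¹) * x := by group
      _ = z * x := by rw [h3]

/-- the `p`-part of `|C(z)|` is smaller than that of `|G|` -/
theorem dvd_two_of_syl [Finite G] [hp : Fact p.Prime] {z : G} (hu : UInv z) {k : ℕ}
    (hk : p ^ k ∣ Nat.card G) (hc : ¬ p ^ k ∣ Nat.card (centralizer ({z} : Set G))) :
    p ∣ Nat.card (Sylow 2 G) := by
  have hf2 : Fact (Nat.Prime 2) := ⟨Nat.prime_two⟩
  by_contra hn
  obtain ⟨P, S, -, h1, -⟩ := exists_le_cent (p := p) hu hn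
  exact hc ((P.pow_dvd_card_of_pow_dvd_card hk).trans (card_dvd_of_le h1))

/-- the number of Sylow `r`-subgroups of a subgroup containing a Sylow `r`-subgroup `S` and a Sylow `p`-subgroup
normalising it -/
theorem not_dvd_sub [Finite G] [hp : Fact p.Prime] {r : ℕ} [hr : Fact r.Prime] {C : Subgroup G} (P : Sylow p G)
    (S : Sylow r G) (hN : (P : Subgroup G) ≤ normalizer ((S : Subgroup G) : Set G)) (hP : (P : Subgroup G) ≤ C)
    (hS : (S : Subgroup G) ≤ C) : ¬ p ∣ Nat.card (Sylow r C) := by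
  rw [Cfsg.Agent.H482.SylowNumbers.card_eq_index (S.subtype hS)]
  have h1 : (P.subtype hP : Subgroup C) ≤ normalizer (((S.subtype hS : Sylow r C) : Subgroup C) : Set C) := by
    intro x hx
    rw [mem_normalizer_iff]
    intro y
    have h2 := mem_normalizer_iff.1 (hN (show (x : G) ∈ (P : Subgroup G) from hx)) (y : G)
    exact h2
  intro hd
  exact (P.subtype hP).not_dvd_index (hd.trans (index_dvd_of_le h1))

/-- the quotients of `C(z)` -/
theorem dvd_two_of_hom [Finite G] [hp : Fact p.Prime] {z : G} (hu : UInv z) {L : Type*} [Group L]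
    (f : centralizer ({z} : Set G) →* L) (hf : Function.Surjective f)
    (hL : p ∣ Nat.card (Sylow 2 L)) : p ∣ Nat.card (Sylow 2 G) := by
  have hf2 : Fact (Nat.Prime 2) := ⟨Nat.prime_two⟩
  by_contra hn
  obtain ⟨P, S, h0, h1, h2⟩ := exists_le_cent (p := p) hu hn
  exact not_dvd_sub P S h0 h1 h2 (hL.trans
    (Cfsg.Agent.H482.SylowNumbers.card_sylow_dvd_of_surjective 2 f hf))

theorem row_of_two (h : p ∣ Nat.card (Sylow 2 G)) : Row p G := ⟨2, ⟨Nat.prime_two⟩, h⟩

/-- a normal subgroup -/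
theorem dvd_two_of_normal [Finite G] (N : Subgroup G) [N.Normal] (h : p ∣ Nat.card (Sylow 2 N)) :
    p ∣ Nat.card (Sylow 2 G) :=
  h.trans (Cfsg.Agent.H482.SylowNumbers.card_sylow_normal_dvd 2 N)

theorem dvd_two_congr {L : Type*} [Group L] [Finite G] (e : G ≃* L) (h : p ∣ Nat.card (Sylow 2 L)) :
    p ∣ Nat.card (Sylow 2 G) := by
  rwa [Cfsg.Agent.H482.SylowNumbers.card_sylow_congr 2 e]

/-- `UInv` under isomorphisms -/
theorem UInv.congr {L : Type*} [Group L] (e : G ≃* L) {z : G} (h : UInv z) : UInv (e z) := by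
  obtain ⟨zz, z1, S, hzS, hzc, hzu⟩ := h
  refine ⟨by rw [← map_mul, zz, map_one], fun h => z1 ((map_eq_one_iff e e.injective).1 h),
    S.comapOfInjective e.symm.toMonoidHom e.symm.injective (by
      intro x _; exact ⟨e x, by simp⟩), ?_, ?_, ?_⟩
  · show e.symm (e z) ∈ S
    rwa [e.symm_apply_apply]
  · intro x hx
    have h1 := hzc (e.symm x) hx
    have h2 := congrArg e h1
    simpa using h2
  · intro w hw hww hwc
    rcases hzu (e.symm w) hw (by rw [← map_mul, hww, map_one]) (fun x hx => by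
      have h1 := hwc (e x) (by
        show e.symm (e x) ∈ S
        rwa [e.symm_apply_apply])
      have h2 := congrArg e.symm h1
      simpa using h2) with h1 | h1
    · left
      exact (map_eq_one_iff e.symm e.symm.injective).1 h1
    · right
      rw [← h1, e.apply_symm_apply]

end Cfsg.Agent.H512.SylNum
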