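import Cfsg.Agent.H512.Row2F4
import Cfsg.Agent.H512.RowMinus
import Cfsg.Agent.H512.RowPSL
import Cfsg.Agent.H512.RowPlus
import Cfsg.Agent.H948.SynLie
import Cfsg.Agent.H86.Syl.Spor
import Cfsg.Agent.H566.SylRankOne
import Cfsg.Agent.H583.SylRows
import Cfsg.Agent.H548.SylAlt

/-!
# Every prime `p ≥ 5` divides a Sylow number of a known simple group (for S3932)
-/

set_option autoImplicit false
set_option linter.style.haveILetI false

namespace Cfsg.Agent.H512.SylNum

open Subgroup Cfsg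

universe u

variable {S : Type u} [Group S] {p : ℕ} [hp : Fact p.Prime]

theorem simple_of_equiv {T : Type*} [Group T] (e : S ≃* T) [IsSimpleGroup S] : IsSimpleGroup T :=
  haveI : Nontrivial T := e.symm.toEquiv.nontrivial
  IsSimpleGroup.isSimpleGroup_of_surjective e.toMonoidHom e.surjective

theorem na_of_equiv {T : Type*} [Group T] (e : S ≃* T) (h : ∃ a b : S, a * b ≠ b * a) : ∃ a b : T, a * b ≠ b * a := by
  obtain ⟨a, b, hab⟩ := h
  refine ⟨e a, e b, fun h => hab (e.injective ?_)⟩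
  rw [map_mul, map_mul, h]

/-- defining characteristic -/
theorem row_char [Finite S] [IsSimpleGroup S] (hna : ∃ a b : S, a * b ≠ b * a) (hL : IsLieTypeChar p S) : Row p S := by
  have hG : ¬ IsMulCommutative S := by
    intro h
    obtain ⟨a, b, hab⟩ := hna
    exact hab (h.is_comm.comm a b)
  -- another prime
  obtain ⟨r, hr, hrp, hrd⟩ : ∃ r : ℕ, r.Prime ∧ r ≠ p ∧ r ∣ Nat.card S := by
    by_contra hcon
    push Not at hcon
    have h1 : ∀ r : ℕ, r.Prime → r ∣ Nat.card S → r = p := fun r hr hd => by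
      by_contra h
      exact hcon r hr h hd
    have h2 : IsPGroup p S := by
      rw [IsPGroup.iff_card]
      exact ⟨_, Nat.eq_prime_pow_of_unique_prime_dvd Nat.card_pos.ne' fun hd hdd => h1 _ hd hdd⟩
    have h3 := h2.bot_lt_center
    have h4 : Subgroup.center S = ⊤ :=
      ((inferInstance : (Subgroup.center S).Normal).eq_bot_or_eq_top).resolve_left h3.ne'
    obtain ⟨a, b, hab⟩ := hna
    have ha : a ∈ Subgroup.center S := by rw [h4]; trivial
    exact hab ((Subgroup.mem_center_iff.1 ha) b).symm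
  haveI := Fact.mk hr
  obtain ⟨R⟩ : Nonempty (Sylow r S) := inferInstance
  refine ⟨r, ⟨hr⟩, ?_⟩
  rw [R.card_eq_index_normalizer]
  exact H948.SynLie.dvd_index hG hL hrp R.2 (card_sylow_ne_one hrd R)

/-- the characteristic is `p` -/
theorem charP_of_dvd {F : Type*} [Field F] [Fintype F] (h : p ∣ Fintype.card F) : CharP F p := by
  obtain ⟨ℓ, hl, hch, hu⟩ := exists_char F
  have h1 := hu p hp.out (by rwa [Nat.card_eq_fintype_card])
  rw [h1]
  exact hch

section Fam

variable [Finite S] [IsSimpleGroup S] (hna : ∃ a b : S, a * b ≠ b * a) (hp5 : 5 ≤ p) (hd : p ∣ Nat.card S)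

include hna hp5 hd

theorem row_isPSL (h : IsPSL S) : Row p S := by
  obtain ⟨F, iF, iT, n, hn, hn2, ⟨e⟩⟩ := h
  by_cases hF : p ∣ Fintype.card F
  · haveI := charP_of_dvd hF
    exact row_char hna (Or.inl ⟨F, iF, iT, inferInstance, n, hn, hn2, ⟨e⟩⟩)
  haveI := simple_of_equiv e
  have hd' : p ∣ Nat.card (Matrix.ProjectiveSpecialLinearGroup (Fin n) F) := by rwa [← Nat.card_congr e.toEquiv]
  refine Row.congr e.symm ?_
  rcases Nat.lt_or_ge n 3 with h3 | h3
  · obtain rfl : n = 2 := by omega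
    exact H583.SylRows.row_psl2 (hn2 rfl) (by omega) hF hd'
  · exact row_PSL h3 (na_of_equiv e hna) hp5 hF hd'

theorem row_isPSp (h : IsPSp S) : Row p S := by
  obtain ⟨F, iF, iT, n, hn, hn2, ⟨e⟩⟩ := h
  by_cases hF : p ∣ Fintype.card F
  · haveI := charP_of_dvd hF
    exact row_char hna (Or.inr (Or.inl ⟨F, iF, iT, inferInstance, n, hn, hn2, ⟨e⟩⟩))
  haveI := simple_of_equiv e
  have hd' : p ∣ Nat.card (PSp n F) := by rwa [← Nat.card_congr e.toEquiv]
  exact Row.congr e.symm (row_PSp hn (na_of_equiv e hna) hp5 hF hd')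

theorem row_isPSU (h : IsPSU S) : Row p S := by
  obtain ⟨F, iF, iT, n, q, hFq, hn, hex, ⟨e⟩⟩ := h
  by_cases hF : p ∣ Fintype.card F
  · haveI := charP_of_dvd hF
    exact row_char hna (Or.inr (Or.inr (Or.inl ⟨F, iF, iT, inferInstance, n, q, hFq, hn, hex, ⟨e⟩⟩)))
  haveI := simple_of_equiv e
  have hd' : p ∣ Nat.card (PSU n F q) := by rwa [← Nat.card_congr e.toEquiv]
  refine Row.congr e.symm ?_
  rcases Nat.eq_or_lt_of_le hn with rfl | h4
  · refine H583.SylRows.row_psu3 hFq hp5 (fun h => hF ?_) hd'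
    rw [hFq]
    exact Dvd.dvd.pow h two_ne_zero
  · rcases Nat.even_or_odd n with hev | hodd
    · exact row_PSU_even hFq h4 hev (na_of_equiv e hna) hp5 hF hd'
    · exact row_PSU_odd hFq hn hodd hex (na_of_equiv e hna) hp5 (fun h => absurd h (by omega)) hF hd'

theorem row_isPOmegaOdd (h : IsPOmegaOdd S) : Row p S := by
  obtain ⟨F, iF, iT, n, hn, hodd, ⟨e⟩⟩ := h
  by_cases hF : p ∣ Fintype.card F
  · haveI := charP_of_dvd hF
    exact row_char hna (Or.inr (Or.inr (Or.inr (Or.inl ⟨F, iF, iT, inferInstance, n, hn, hodd, ⟨e⟩⟩))))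
  haveI := simple_of_equiv e
  have hd' : p ∣ Nat.card (POmega F (quadFormOdd n F)) := by rwa [← Nat.card_congr e.toEquiv]
  exact Row.congr e.symm (row_PO_odd hn hodd hp5 hF hd')

theorem row_isPOmegaPlus (h : IsPOmegaPlus S) : Row p S := by
  obtain ⟨F, iF, iT, n, hn, ⟨e⟩⟩ := h
  by_cases hF : p ∣ Fintype.card F
  · haveI := charP_of_dvd hF
    exact row_char hna (Or.inr (Or.inr (Or.inr (Or.inr (Or.inl ⟨F, iF, iT, inferInstance, n, hn, ⟨e⟩⟩)))))
  haveI := simple_of_equiv e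
  have hd' : p ∣ Nat.card (POmega F (quadFormPlus n F)) := by rwa [← Nat.card_congr e.toEquiv]
  exact Row.congr e.symm (row_PO_plus hn hp5 hF hd')

theorem row_isPOmegaMinus (h : IsPOmegaMinus S) : Row p S := by
  obtain ⟨F, iF, iT, n, a, b, hn, hab, ⟨e⟩⟩ := h
  by_cases hF : p ∣ Fintype.card F
  · haveI := charP_of_dvd hF
    exact row_char hna (Or.inr (Or.inr (Or.inr (Or.inr (Or.inr (Or.inl
      ⟨F, iF, iT, inferInstance, n, a, b, hn, hab, ⟨e⟩⟩))))))
  haveI := simple_of_equiv e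
  have hd' : p ∣ Nat.card (POmega F (quadFormMinus (n - 1) F a b)) := by rwa [← Nat.card_congr e.toEquiv]
  exact Row.congr e.symm (row_PO_minus hn hab (na_of_equiv e hna) hp5 hF hd')

omit hp5 hd in
theorem char_exc {F : Type} [iF : Field F] [iT : Fintype F] (hF : p ∣ Nat.card F)
    (h : (3 ≤ Fintype.card F ∧ Nonempty (S ≃* Lie.chevG2.group F)) ∨ Nonempty (S ≃* Lie.chevF4.group F) ∨
      Nonempty (S ≃* Lie.chevE6.group F) ∨ Nonempty (S ≃* Lie.chevE7.group F) ∨ Nonempty (S ≃* Lie.chevE8.group F)) :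
    Row p S := by
  haveI := charP_of_dvd (p := p) (F := F) (by rwa [← Nat.card_eq_fintype_card])
  exact row_char hna (Or.inr (Or.inr (Or.inr (Or.inr (Or.inr (Or.inr (Or.inl ⟨F, iF, iT, inferInstance, h⟩)))))))

theorem row_exceptional (h : IsExceptionalLieType S) : Row p S := by
  rcases h with h | h | h | h | h | h | h | h | h | h | h
  · obtain ⟨F, iF, iT, h3, ⟨e⟩⟩ := h
    by_cases hF : p ∣ Nat.card F
    · exact char_exc hna hF (Or.inl ⟨h3, ⟨e⟩⟩)
    haveI := simple_of_equiv e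
    exact Row.congr e.symm (row_G2 hp5 (by rwa [← Nat.card_congr e.toEquiv]) hF)
  · obtain ⟨F, iF, iT, ⟨e⟩⟩ := h
    by_cases hF : p ∣ Nat.card F
    · exact char_exc hna hF (Or.inr (Or.inl ⟨e⟩))
    haveI := simple_of_equiv e
    exact Row.congr e.symm (row_F4 hp5 (by rwa [← Nat.card_congr e.toEquiv]) hF)
  · obtain ⟨F, iF, iT, ⟨e⟩⟩ := h
    by_cases hF : p ∣ Nat.card F
    · exact char_exc hna hF (Or.inr (Or.inr (Or.inl ⟨e⟩)))
    haveI := simple_of_equiv e
    exact Row.congr e.symm (row_E6 hp5 (by rwa [← Nat.card_congr e.toEquiv]) hF)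
  · obtain ⟨F, iF, iT, ⟨e⟩⟩ := h
    by_cases hF : p ∣ Nat.card F
    · exact char_exc hna hF (Or.inr (Or.inr (Or.inr (Or.inl ⟨e⟩))))
    haveI := simple_of_equiv e
    exact Row.congr e.symm (row_E7 hp5 (by rwa [← Nat.card_congr e.toEquiv]) hF)
  · obtain ⟨F, iF, iT, ⟨e⟩⟩ := h
    by_cases hF : p ∣ Nat.card F
    · exact char_exc hna hF (Or.inr (Or.inr (Or.inr (Or.inr ⟨e⟩))))
    haveI := simple_of_equiv e
    exact Row.congr e.symm (row_E8 hp5 (by rwa [← Nat.card_congr e.toEquiv]) hF)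
  · obtain ⟨K, iF, iT, q, hq, hK, ⟨e⟩⟩ := h
    by_cases hF : p ∣ Nat.card K
    · haveI := charP_of_dvd (p := p) (F := K) (by rwa [← Nat.card_eq_fintype_card])
      exact row_char hna (Or.inr (Or.inr (Or.inr (Or.inr (Or.inr (Or.inr (Or.inr (Or.inl
        ⟨K, iF, iT, inferInstance, q, hq, Or.inl ⟨hK, ⟨e⟩⟩⟩))))))))
    haveI := simple_of_equiv e
    exact Row.congr e.symm (row_2E6 hq hK hp5 (by rwa [← Nat.card_congr e.toEquiv]) hF)
  · obtain ⟨K, iF, iT, q, hq, hK, ⟨e⟩⟩ := h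
    by_cases hF : p ∣ Nat.card K
    · haveI := charP_of_dvd (p := p) (F := K) (by rwa [← Nat.card_eq_fintype_card])
      exact row_char hna (Or.inr (Or.inr (Or.inr (Or.inr (Or.inr (Or.inr (Or.inr (Or.inl
        ⟨K, iF, iT, inferInstance, q, hq, Or.inr ⟨hK, ⟨e⟩⟩⟩))))))))
    haveI := simple_of_equiv e
    exact Row.congr e.symm (row_3D4 hq hK hp5 (by rwa [← Nat.card_congr e.toEquiv]) hF)
  · exact H566.SylRankOne.row_sz h (by omega) hd
  · exact H566.SylRankOne.row_ree h hp5 hd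
  · obtain ⟨K, iF, iT, m, hm, hK, ⟨e⟩⟩ := h
    exact Row.congr e.symm (row_2F4 hm hK (by omega) (by rwa [← Nat.card_congr e.toEquiv]))
  · exact H86.Syl.row_tits h hp5 hd

/-- **every prime `p ≥ 5` dividing the order divides a Sylow number** -/
theorem row_known (hk : IsKnownSimple' S) : Row p S := by
  rcases hk with h | h | h | h | h | h | h | h | h | h
  · exfalso
    have hq : (Nat.card S).Prime := h
    haveI := Fact.mk hq
    haveI : IsCyclic S := isCyclic_of_prime_card (p := Nat.card S) rfl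
    obtain ⟨a, b, hab⟩ := hna
    exact hab (IsCyclic.commGroup.mul_comm a b)
  · exact H548.SylAlt.row_isAlternating h hd
  · exact row_isPSL hna hp5 hd h
  · exact row_isPSp hna hp5 hd h
  · exact row_isPSU hna hp5 hd h
  · exact row_isPOmegaOdd hna hp5 hd h
  · exact row_isPOmegaPlus hna hp5 hd h
  · exact row_isPOmegaMinus hna hp5 hd h
  · exact row_exceptional hna hp5 hd h
  · exact H86.Syl.row_spor h hp5 hd

end Fam

end Cfsg.Agent.H512.SylNum
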